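import Cfsg.Agent.TO.X.Plane
import Cfsg.Agent.TO.X.Mult
import Cfsg.Agent.TO.T3.KF
import Cfsg.Agent.BHZ.Exc.CovIIB_m3
import Cfsg.Agent.BHZ.Exc.TAG2_mg_m3
import Cfsg.Agent.TO.X5.Abs_mg_m3
import Mathlib.GroupTheory.Subgroup.Centralizer
import Mathlib.Data.ZMod.Basic
import Mathlib.Tactic.Group
import Mathlib.GroupTheory.Commutator.Basic
import Mathlib.GroupTheory.QuotientGroup.Basic
import Cfsg.Agent.Lib.ListFast
import Cfsg.Agent.BHZ.Exc.DHZ_m3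
import Cfsg.Agent.DS.Nt.JThree
import Cfsg.Agent.TO.LU.Main_m3
import Cfsg.Agent.TO.Blk_m3
import Cfsg.Agent.H83.RootCount
import Cfsg.Agent.Lib.Refl
import Cfsg.Agent.FastGrp
import Cfsg.Agent.Prune
set_option linter.all false

section
prune_inst 0x7ffcb8f86ba8addfffff7e3ffed4dffc31a9cfffefdff9437fe0619f0f9f0b000dc5fb850de010fc1ef6e29410b87b53effffeffe86fdc7ffffd5ff41ffbee1fe5f63508519488340fb80fff83e0778e6f3fffffffffffffffffffffffffffbefffffbfeffff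

-- part: TO/E6/Same_mg
section
prune_inst 0x450184101000000001c0000900018c043000000000b8800d9640b0406063c0200028f21c8a018100002a2440000010000000060020000000a000400011c018008804204b248a104640006810084010000000000000000000000000000041000004010000
set_option linter.all false
open scoped Cfsg.Agent.FastGrp

-- part: TO/E6/Defs
section
/-!
# S4817, rows `E₆(q)`, `²E₆(q)` at `p = 3`: the setting and the boxes (helper91)

`St r S` : the finite group `S` inside the adjoint group `YY chevE6 r`, the Frobenius map `X.F` and its lift `σL` to the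
universal group `St6 r`.  Boxes: `NonT` (no toral plane), `NoA` (no nontoral plane of type `A₂³`).
-/

set_option autoImplicit false
set_option linter.unusedSectionVars false

namespace Cfsg.Agent.TO.E6

open Cfsg Cfsg.Lie Matrix Cfsg.Agent.KZ.DatX Cfsg.Agent.Nodes Cfsg.Agent.DL Cfsg.Agent.DL.Ex Cfsg.Agent.DL.PP
  Cfsg.Agent.DL.Uni
open Cfsg.Agent.TO.X Cfsg.Agent.BHZ.Exc Cfsg.Agent.BpExc
open Cfsg.Agent.H469.Exc (KK locFin)
open Cfsg.Agent.DS.Ex (YY)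
open Cfsg.Agent.DS.Nt (DZ)
open Cfsg.Agent.H720.TwFr (rho6 sig6)
open Cfsg.Agent.ChevalleyStructure.GraphSymm (symmE6)
open scoped commutatorElement

/-- **The setting.** -/
structure St (r : ℕ) [Fact r.Prime] (S : Type) [Group S] where
  /-- `q = r ^ e` -/
  e : ℕ
  /-- the symmetry of the diagram -/
  π : Equiv.Perm (Fin 6)
  /-- the matrix of `F` -/
  Mx : Matrix (Fin 6) (Fin 6) ℤ
  /-- the frame -/
  X : XF hpE6 r (KK r) Mx
  /-- the index of `S` in `G ^ F` divides `d` -/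
  d : ℕ
  /-- the finite group -/
  s : XS X (AdmL r [1, P6]) d S
  /-- the lift of `F` -/
  σL : MulAut (St6 r)
  he : 0 < e
  h3 : r ≠ 3
  std : Six.IsStd r e π X.F
  lift : ∀ x, th6 r (σL x) = X.F (th6 r x)
  typ : (π = 1 ∧ Mx = (r : ℤ) ^ e • 1 ∧ d = Nat.gcd 3 (r ^ e - 1)) ∨
    (π = rho6 ∧ Mx = (r : ℤ) ^ e • P6 ∧ d = Nat.gcd 3 (r ^ e + 1))
  zd : ZD 3 S ∨ (r ^ e = 2 ∧ π = rho6 ∧ ZD 6 S)
  sq : π = rho6 → X.F ^ 2 = frobA hpE6.inList r (2 * e)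
  tw : π = rho6 → ∀ α : MulAut S, ∃ g, X.F g = g ∧ ∃ j, ∀ a, s.ι (α a) = g * frobA hpE6.inList r j (s.ι a) * g⁻¹

variable {r : ℕ} [hr : Fact r.Prime]

theorem frobA_eq (e : ℕ) : frobA (k := KK r) hpE6.inList r e = FamUntw.phi chevE6 (KK r) r e := by
  ext1 y
  apply Subtype.ext
  apply Units.ext
  rw [FamUntw.phi_coe, coe_frobA]
  ext i j
  exact iterateFrobenius_def r e _

theorem sigS_eq (e : ℕ) : sigS (k := KK r) r hpE6.inList symmE6 e = sig6 (KK r) r e := by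
  unfold sigS
  rw [frobA_eq]
  rfl

/-- `E₆(q)` -/
theorem st_E6 (h3 : r ≠ 3) (F : Type) [Field F] [Fintype F] [CharP F r] {e : ℕ} (hF : Fintype.card F = r ^ e) :
    Nonempty (St r ↥(chevE6.group F)) := by
  obtain ⟨f⟩ := RowsUntw.exists_emb r F
  have he := pos_of_card hF
  have h1 : Six.IsStd r e 1 (xfS hpE6 r (locFin r) he).F := Or.inl ⟨rfl, frobA_eq e⟩
  obtain ⟨σL, hL⟩ := boxLift6 r h3 e _ _ he h1.frob h1.fr
  have h2 : (1 : Equiv.Perm (Fin 6)) ≠ rho6 := by decide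
  exact ⟨⟨e, 1, _, _, _, xsS f (locFin r) he hF (over_E6 f hF hpE6) (cop_sub hr.out.pos he 3)
    (fun _ => index_dvd_E6 f hF hpE6) List.mem_cons_self (grL_E6 r _ F), σL, he, h3, h1, hL, Or.inl ⟨rfl, rfl, rfl⟩,
    Or.inl ((zd_E6 hF).mono (Nat.gcd_dvd_left _ _)), fun h => absurd h h2, fun h => absurd h h2⟩⟩

/-- `²E₆(q)` -/
theorem st_2E6 (h3 : r ≠ 3) (K : Type) [Field K] [Fintype K] [CharP K r] {e : ℕ} (hK : Fintype.card K = (r ^ e) ^ 2) :
    Nonempty (St r ↥(twistedE6 K (r ^ e))) := by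
  obtain ⟨f⟩ := RowsUntw.exists_emb r K
  have he : 0 < e := by
    have h := pos_of_card (hK.trans (pow_mul _ _ _).symm)
    omega
  have hk := locFin r
  have aut : ∀ σ : MulAut ↥(twistedE6 K (r ^ e)), ∃ g, sigS r hpE6.inList symmE6 e g = g ∧ ∃ j, ∀ s,
      incG hpE6.inList f (e6Words K (r ^ e)) (σ s) =
        g * frobA hpE6.inList r j (incG hpE6.inList f (e6Words K (r ^ e)) s) * g⁻¹ := fun σ => by
    obtain ⟨φ, hφ, hqq⟩ := ChevalleyStructure.TwE6Basic.exists_frob (isPrimePow_pow he) hK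
    have hW : Finite CoxeterMatrix.F₄.Group := RGDChev.finite_W hpF4 CoxeterMatrix.F₄.toCoxeterSystem
    obtain ⟨-, τ, y, -, h1, h2⟩ := FamTw.Six.exists_lift hφ hqq CoxeterMatrix.F₄.toCoxeterSystem r f hK
      (isPrimePow_pow he).one_lt (fun a => IsAlgClosed.exists_pow_nat_eq _ three_pos)
      (Φ := iterateFrobeniusEquiv (KK r) r e) (fun a => by rw [hφ, map_pow, iterateFrobeniusEquiv_def]) σ
    obtain ⟨j, hj⟩ := exists_frob r τ
    refine ⟨y, Subtype.ext (congrArg Subtype.val h1), j, fun s => (h2 s).trans ?_⟩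
    congr 2
    exact frob_eq (hp := hpE6) _ hj rfl rfl
  have h1 : Six.IsStd r e rho6 (sigS r hpE6.inList symmE6 e) := Or.inr ⟨rfl, sigS_eq e⟩
  obtain ⟨σL, hL⟩ := boxLift6 r h3 e _ _ he h1.frob h1.fr
  refine ⟨⟨e, rho6, _, _, _, (xsT hk (amb_of_pow hk two_pos (by omega) (sigE6_sq (m := e)))
    ((gd6 r _).mul (Gd.frob hpE6 r _ e)) (pm_frob pi6) (over_2E6 f he hK) (cop_add he 3)
    (fun _ => index_dvd_2E6 f he hK) aut).mono fun A ⟨j, h⟩ => ⟨j, 1, List.mem_cons_self, h⟩, σL, he, h3, h1, hL,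
    Or.inr ⟨rfl, rfl, rfl⟩, ?_, fun _ => sigE6_sq, fun _ => aut⟩⟩
  by_cases h2 : r ^ e = 2
  · exact Or.inr ⟨h2, rfl, zd_2E6' (isPrimePow_pow he) hK⟩
  · exact Or.inl ((zd_2E6 (isPrimePow_pow he) hK h2).mono (Nat.gcd_dvd_left _ _))

namespace St

variable {S : Type} [Group S] (Γ : St r S)

theorem d_dvd : Γ.d ∣ 3 := by
  rcases Γ.typ with ⟨-, -, h⟩ | ⟨-, -, h⟩ <;> exact h ▸ Nat.gcd_dvd_left _ _

theorem d_eq : Γ.d = 1 ∨ Γ.d = 3 := (Nat.dvd_prime Nat.prime_three).1 Γ.d_dvd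

theorem inj : Function.Injective Γ.s.ι := Γ.s.ov.inj

theorem fix (a : S) : Γ.X.F (Γ.s.ι a) = Γ.s.ι a := F_ι Γ.s a

/-- the index of `S` in `G ^ F` -/
theorem idx : Γ.s.ov.hom.range.index ∣ Γ.d := Γ.s.idx (by rcases Γ.d_eq with h | h <;> rw [h] <;> decide)

theorem cube {y : YY chevE6 r} (hy : Γ.X.F y = y) : y ^ 3 ∈ Γ.s.ι.range := by
  obtain ⟨c, hc⟩ := Γ.d_dvd
  rw [hc, pow_mul]
  exact pow_mem (Γ.s.pow_mem ⟨Subgroup.mem_top y, hy⟩) c

theorem mem_of_one (h : Γ.d = 1) {y : YY chevE6 r} (hy : Γ.X.F y = y) : y ∈ Γ.s.ι.range := by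
  have h1 := Γ.s.pow_mem (g := y) ⟨Subgroup.mem_top y, hy⟩
  rwa [show y ^ Γ.d = y by rw [h, pow_one]] at h1

theorem comm_mem {x y : YY chevE6 r} (hx : Γ.X.F x = x) (hy : Γ.X.F y = y) : ⁅x, y⁆ ∈ Γ.s.ι.range :=
  Γ.s.sit.comm x ⟨Subgroup.mem_top x, hx⟩ y ⟨Subgroup.mem_top y, hy⟩

theorem conj_mem {g x : YY chevE6 r} (hg : Γ.X.F g = g) (hx : x ∈ Γ.s.ι.range) : g * x * g⁻¹ ∈ Γ.s.ι.range :=
  Γ.s.ov.conj_mem ⟨Subgroup.mem_top g, hg⟩ hx

seal _root_.Finset.sum _root_.dotProduct in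
/-- `S` and an element of `G ^ F` outside `S` generate `G ^ F` -/
theorem exists_zpow {g y : YY chevE6 r} (hg : Γ.X.F g = g) (hn : g ∉ Γ.s.ι.range) (hy : Γ.X.F y = y) :
    ∃ n : ℤ, y * (g ^ n)⁻¹ ∈ Γ.s.ι.range := by
  have := Γ.s.ov.normal
  have h1 : ((⟨g, Subgroup.mem_top g, hg⟩ : ↥(GF Γ.X.F ⊤)) : _ ⧸ Γ.s.ov.hom.range) ≠ 1 := fun h =>
    hn (Γ.s.ov.mem_range.1 ((QuotientGroup.eq_one_iff _).1 h))
  have h2 : Nat.card (↥(GF Γ.X.F ⊤) ⧸ Γ.s.ov.hom.range) = 3 := by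
    rcases (Nat.dvd_prime Nat.prime_three).1 (Γ.idx.trans Γ.d_dvd) with h | h
    · have : Subsingleton (↥(GF Γ.X.F ⊤) ⧸ Γ.s.ov.hom.range) := (Nat.card_eq_one_iff_unique.1 h).1
      exact absurd (Subsingleton.elim _ _) h1
    · exact h
  have := Fact.mk Nat.prime_three
  obtain ⟨n, hn⟩ := mem_zpowers_of_prime_card h2 h1
    (g' := ((⟨y, Subgroup.mem_top y, hy⟩ : ↥(GF Γ.X.F ⊤)) : _ ⧸ Γ.s.ov.hom.range))
  have h4 : (⟨y, Subgroup.mem_top y, hy⟩ : ↥(GF Γ.X.F ⊤)) * ((⟨g, Subgroup.mem_top g, hg⟩ : ↥(GF Γ.X.F ⊤)) ^ n)⁻¹ ∈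
      Γ.s.ov.hom.range := by
    rw [← QuotientGroup.eq_one_iff, QuotientGroup.mk_mul, QuotientGroup.mk_inv, QuotientGroup.mk_zpow, ← hn]
    exact mul_inv_cancel _
  exact ⟨n, Γ.s.ov.mem_range.1 h4⟩

/-- commutators of lifts of fixed elements are fixed -/
theorem fix_comm {x y : St6 r} (hx : Γ.X.F (th6 r x) = th6 r x) (hy : Γ.X.F (th6 r y) = th6 r y) :
    Γ.σL ⁅x, y⁆ = ⁅x, y⁆ := by
  have k : ∀ x, Γ.X.F (th6 r x) = th6 r x → ∃ z ∈ Subgroup.center (St6 r), Γ.σL x = x * z := fun x hx =>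
    ⟨x⁻¹ * Γ.σL x, (cov0_th6 r).cent (by rw [MonoidHom.mem_ker, map_mul, map_inv, Γ.lift, hx, inv_mul_cancel]),
      by rw [mul_inv_cancel_left]⟩
  obtain ⟨a, a1, a2⟩ := k x hx
  obtain ⟨b, b1, b2⟩ := k y hy
  have a3 := Subgroup.mem_center_iff.1 a1
  have b3 := Subgroup.mem_center_iff.1 b1
  rw [map_commutatorElement, a2, b2, commutatorElement_def, commutatorElement_def]
  calc x * a * (y * b) * (x * a)⁻¹ * (y * b)⁻¹ = x * (a * (y * b) * a⁻¹) * (x⁻¹ * b⁻¹) * y⁻¹ := by group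
    _ = x * y * (b * (x⁻¹ * b⁻¹)) * y⁻¹ := by rw [← a3, mul_inv_cancel_right]; group
    _ = _ := by rw [← mul_assoc b, ← b3, mul_inv_cancel_right]

/-- the elements of `S` have fixed lifts -/
theorem exists_fix (hS : commutator S = ⊤) (a : S) : ∃ x : St6 r, Γ.σL x = x ∧ th6 r x = Γ.s.ι a := by
  have ha : a ∈ commutator S := hS ▸ Subgroup.mem_top a
  rw [commutator_eq_closure] at ha
  induction ha using Subgroup.closure_induction with
  | mem c hc =>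
    obtain ⟨u, v, rfl⟩ := hc
    obtain ⟨x, hx⟩ := (cov0_th6 r).surj (Γ.s.ι u)
    obtain ⟨y, hy⟩ := (cov0_th6 r).surj (Γ.s.ι v)
    exact ⟨⁅x, y⁆, Γ.fix_comm (by rw [hx, Γ.fix]) (by rw [hy, Γ.fix]),
      by rw [map_commutatorElement, map_commutatorElement, hx, hy]⟩
  | one => exact ⟨1, map_one _, by rw [map_one, map_one]⟩
  | mul a b _ _ h1 h2 =>
    obtain ⟨x, x1, x2⟩ := h1
    obtain ⟨y, y1, y2⟩ := h2
    exact ⟨x * y, by rw [map_mul, x1, y1], by rw [map_mul, map_mul, x2, y2]⟩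
  | inv a _ h1 =>
    obtain ⟨x, x1, x2⟩ := h1
    exact ⟨x⁻¹, by rw [map_inv, x1], by rw [map_inv, map_inv, x2]⟩

/-- the centre of the cover is trivial unless `S = ²E₆(2)` -/
theorem centre {G : Type} [Group G] [Finite G] {σ : G →* S} {M : Ideal AlgInt} {b : Set (IrrCharacter G)}
    {D : Subgroup G} (H : Hyp 3 M b D σ) : Subgroup.center G = ⊥ ∨
      (r ^ Γ.e = 2 ∧ Γ.π = rho6 ∧ Nat.card (Subgroup.center G) = 2) := by
  rcases Γ.zd with h | ⟨h1, h2, h⟩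
  · rcases (Nat.dvd_prime Nat.prime_three).1 (h.dvd H) with h4 | h4
    · exact Or.inl (Subgroup.card_eq_one.1 h4)
    · exact absurd (h4 ▸ dvd_rfl) H.zp
  · have h4 : Nat.card (Subgroup.center G) ∣ 2 :=
      Nat.Coprime.dvd_of_dvd_mul_right ((Nat.Prime.coprime_iff_not_dvd Nat.prime_three).2 H.zp).symm (h.dvd H)
    rcases (Nat.dvd_prime Nat.prime_two).1 h4 with h5 | h5
    · exact Or.inl (Subgroup.card_eq_one.1 h5)
    · exact Or.inr ⟨h1, h2, h5⟩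

/-- the automorphisms induced by `G ^ F` -/
def Dg : Subgroup (MulAut S) where
  carrier := {α | ∃ g, Γ.X.F g = g ∧ ∀ a, Γ.s.ι (α a) = g * Γ.s.ι a * g⁻¹}
  one_mem' := ⟨1, map_one _, fun a => by simp⟩
  mul_mem' := by
    rintro α β ⟨g, g1, g2⟩ ⟨h, h1, h2⟩
    refine ⟨g * h, by rw [map_mul, g1, h1], fun a => ?_⟩
    rw [MulAut.mul_apply, g2, h2]
    group
  inv_mem' := by
    rintro α ⟨g, g1, g2⟩
    refine ⟨g⁻¹, by rw [map_inv, g1], fun a => ?_⟩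
    have h := g2 (α⁻¹ a)
    rw [MulAut.apply_inv_self] at h
    rw [h]
    group

theorem mem_Dg {α : MulAut S} : α ∈ Γ.Dg ↔ ∃ g, Γ.X.F g = g ∧ ∀ a, Γ.s.ι (α a) = g * Γ.s.ι a * g⁻¹ := Iff.rfl

end St

/-- all commuting pairs of lifts generate cyclic groups: `Q` contains no toral plane -/
def NoTor {S : Type} [Group S] (Γ : St r S) (Q : Subgroup S) : Prop :=
  ∀ a b : St6 r, th6 r a ∈ Q.map Γ.s.ι → th6 r b ∈ Q.map Γ.s.ι → a * b = b * a →
    th6 r a = 1 ∨ th6 r b ∈ Subgroup.zpowers (th6 r a)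

/-- [NoA] there is no nontoral plane of pure type `A₂³` -/
def NoA : Prop := ∀ (r : ℕ) [Fact r.Prime], r ≠ 3 → ∀ (ζ : KK r) (t b : YY chevE6 r), StdA ζ t → b * t = t * b →
  b ∉ DZ hpE6 r {t} → b ^ 3 = 1 → TypA b → TypA (t * b) → TypA (t * t * b) → False

/-- the nontrivial elements of `Q` have the same type -/
def SameT : Prop := ∀ (r : ℕ) [Fact r.Prime] (S : Type) [Group S] (Γ : St r S) (A : Subgroup (MulAut S))
  (Q : Subgroup S), Pure 3 S A Q → ∀ a ∈ Q, ∀ b ∈ Q, a ≠ 1 → b ≠ 1 →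
    (TypA (Γ.s.ι a) → TypA (Γ.s.ι b)) ∧ (TypD (Γ.s.ι a) → TypD (Γ.s.ι b))

/-- [NonT] the case without toral planes -/
def NonT : Prop := ∀ (r : ℕ) [Fact r.Prime] (S : Type) [Group S] (Γ : St r S) (G : Type) [Group G] [Finite G]
  (σ : G →* S) (M : Ideal AlgInt) (b : Set (IrrCharacter G)) (D : Subgroup G), Hyp 3 M b D σ →
    NoTor Γ (D.map σ) → False

end Cfsg.Agent.TO.E6
end

-- part: TO/E6/Same
section
/-!
# S4817, rows `E₆(q)`, `²E₆(q)` at `p = 3`: `sameT` and the outer automorphisms (helper91)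
-/

set_option autoImplicit false
set_option linter.unusedSectionVars false

namespace Cfsg.Agent.TO.E6

open Cfsg Cfsg.Lie Matrix Cfsg.Agent.KZ.DatX Cfsg.Agent.Nodes Cfsg.Agent.DL Cfsg.Agent.DL.PP Cfsg.Agent.DL.Uni
open Cfsg.Agent.TO.X Cfsg.Agent.BHZ.Exc Cfsg.Agent.BpExc
open Cfsg.Agent.DL.Ex (tau cX_tau mem_TT_iff tau_mem frobA)
open Cfsg.Agent.H469.Exc (KK)
open Cfsg.Agent.DS.Ex (YY)
open Cfsg.Agent.H129.TorusChar (cX)
open Cfsg.Agent.KFacts.RgdChevCoord (TT)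
open Cfsg.Agent.H720.TwFr (rho6)

variable {r : ℕ} [hr : Fact r.Prime] {S : Type} [Group S]

theorem vecMul_P6 (x : Fin 6 → ℤ) : (x ᵥ* P6) 3 = x 3 ∧ (x ᵥ* P6) 0 + (x ᵥ* P6) 5 = x 0 + x 5 := by
  have h : P6 = !![0,0,0,0,0,1; 0,1,0,0,0,0; 0,0,0,0,1,0; 0,0,0,1,0,0; 0,0,1,0,0,0; 1,0,0,0,0,0] := by decide +kernel
  rw [h]
  simp [vecMul, dotProduct, Fin.sum_univ_six, add_comm]

/-- the standard elements are preserved by the admissible automorphisms -/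
theorem std_au (h3 : r ≠ 3) {f : (Fin 6 → ℤ) → ℤ} (h1 : ∀ x, f (x ᵥ* P6) = f x) (h2 : ∀ (c : ℤ) x, f (c • x) = c * f x)
    {A : Matrix (Fin 6) (Fin 6) ℤ} (hA : AdmL r [1, P6] A) {ζ : KK r} (hζ : IsPrimitiveRoot ζ 3) {c : Fin 6 → (KK r)ˣ}
    (hc : ∀ x, cX hpE6 (tau hpE6 c) x = ζ ^ f x) :
    ∃ ζ' : KK r, IsPrimitiveRoot ζ' 3 ∧ ∀ x, cX hpE6 (tau hpE6 (mon A c)) x = ζ' ^ f x := by
  obtain ⟨j, B, hB, rfl⟩ := hA
  refine ⟨ζ ^ r ^ j, hζ.pow_of_coprime _ (Six.cop3 h3 j), fun x => ?_⟩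
  have h4 : f (x ᵥ* B) = f x := by
    rcases List.mem_pair.1 hB with rfl | rfl
    · rw [vecMul_one]
    · exact h1 x
  rw [cX_tau, chr_mon, ← cX_tau hpE6, hc, vecMul_smul, h2, h4, ← zpow_natCast, ← _root_.zpow_mul, Nat.cast_pow]

theorem typ_aut (Γ : St r S) (α : MulAut S) (a : S) :
    (TypA (Γ.s.ι a) → TypA (Γ.s.ι (α a))) ∧ (TypD (Γ.s.ι a) → TypD (Γ.s.ι (α a))) := by
  obtain ⟨g, -, β, A, h1, h2, h3⟩ := Γ.s.aut α
  have key : ∀ {f : (Fin 6 → ℤ) → ℤ}, (∀ x, f (x ᵥ* P6) = f x) → (∀ (c : ℤ) x, f (c • x) = c * f x) →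
      ∀ (y : YY chevE6 r) (ζ : KK r), IsPrimitiveRoot ζ 3 ∧ y * Γ.s.ι a * y⁻¹ ∈ TT chevE6 (KK r) ∧
        (∀ x, cX hpE6 (y * Γ.s.ι a * y⁻¹) x = ζ ^ f x) → ∃ (y' : YY chevE6 r) (ζ' : KK r), IsPrimitiveRoot ζ' 3 ∧
        y' * Γ.s.ι (α a) * y'⁻¹ ∈ TT chevE6 (KK r) ∧ ∀ x, cX hpE6 (y' * Γ.s.ι (α a) * y'⁻¹) x = ζ' ^ f x := by
    rintro f f1 f2 y ζ ⟨k1, k2, k3⟩
    obtain ⟨c, hc⟩ := (mem_TT_iff hpE6 _).1 k2
    obtain ⟨ζ', k4, k5⟩ := std_au Γ.h3 f1 f2 h2 k1 (c := c) (by rw [hc]; exact k3)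
    have k6 : β y * g⁻¹ * Γ.s.ι (α a) * (β y * g⁻¹)⁻¹ = tau hpE6 (mon A c) := by
      have k7 : β (tau hpE6 c) = tau hpE6 (mon A c) := h1.tau c
      rw [← k7, hc, h3, map_mul, map_mul, map_inv]
      group
    exact ⟨β y * g⁻¹, ζ', k4, by rw [k6]; exact tau_mem hpE6 _, by rw [k6]; exact k5⟩
  exact ⟨fun ⟨y, ζ, h⟩ => key (f := fun x => x 3) (fun x => (vecMul_P6 x).1) (fun _ _ => rfl) y ζ h,
    fun ⟨y, ζ, h⟩ => key (f := fun x => x 0 + x 5) (fun x => (vecMul_P6 x).2) (fun c x => (mul_add c _ _).symm) y ζ h⟩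

theorem pElt_of_mem {A : Subgroup (MulAut S)} {Q : Subgroup S} (P : Pure 3 S A Q) {a : S} (ha : a ∈ Q) : PElt 3 a := by
  obtain ⟨n, hn⟩ := P.pg ⟨a, ha⟩
  obtain ⟨j, -, hj⟩ := (Nat.dvd_prime_pow Nat.prime_three).1
    (orderOf_dvd_of_pow_eq_one (show a ^ 3 ^ n = 1 from congrArg Subtype.val hn))
  exact ⟨j, hj⟩

/-- **[SameT]** -/
theorem sameT : SameT := fun _ _ _ _ Γ _ _ P a ha b hb h1 h2 => by
  obtain ⟨α, -, rfl⟩ := P.conj a (le_KK ha) b (le_KK hb) (pElt_of_mem P ha) (pElt_of_mem P hb) h1 h2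
  exact typ_aut Γ α a

namespace St

variable (Γ : St r S)

theorem inn_le : Inn S ≤ Γ.Dg := by
  rintro _ ⟨g, rfl⟩
  exact ⟨Γ.s.ι g, Γ.fix g, fun a => by rw [MulAut.conj_apply, map_mul, map_mul, map_inv]⟩

variable (h2 : r ^ Γ.e = 2) (hπ : Γ.π = rho6)
include h2 hπ

end St

end Cfsg.Agent.TO.E6
end

-- part: TO/X/Pl63
section
/-!
# S4817, exceptional groups: pure planes, `p = 3`, type `E₆` (helper61)
-/

set_option autoImplicit false
set_option maxRecDepth 100000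
set_option maxHeartbeats 400000
set_option Elab.async false

namespace Cfsg.Agent.TO.X.Pl

open Cfsg Cfsg.Lie Matrix Cfsg.Agent.KZ.DatX Cfsg.Agent.TO.X

/-- the search for E6, `p = 3` -/
abbrev jE63 : Job 6 := ⟨3, false, rowsE6, gE6, pE6, fun u => [u], [([0, 0, 0, 1, 0, 0], [1, 1, 1, 0, 1, 1])], [1, 2,
  2, 3, 2, 1], 3, 0⟩

/-- certificates -/
def cE63a : List (Ent 6) := [([1, 0, 0, 0, 0, 0], 0, [[0, 1, 1, 2, 2, 1]], []), ([2, 0, 0, 0, 0, 0], 0, [[0, 1, 1, 2,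
  2, 1]], []), ([0, 1, 0, 0, 0, 0], 1, [[1, 0, 1, 1, 1, 1]], []), ([1, 1, 0, 0, 0, 0], 1, [[0, 0, 1, 1, 1, 1]], []),
  ([0, 0, 1, 0, 0, 0], 2, [[0, 1, 0, 1, 1, 1], [1, 0, 0, 0, 0, 0]], []), ([1, 0, 1, 0, 0, 0], 2, [[0, 1, 0, 1, 1, 1]],
  []), ([0, 0, 0, 1, 0, 0], 3, [[1, 0, 1, 0, 0, 0], [0, 0, 0, 0, 1, 1], [0, 1, 0, 0, 0, 0]], [([1, 1, 1, 0, 1, 1], [0,
  2, 3, 1, 2, 4, 5, 4, 3, 1, 2, 0, 3, 2, 4, 5]), ([1, 2, 1, 0, 1, 1], [0, 2, 3, 1, 4, 5, 4, 3, 1, 2, 0, 3, 2, 4,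
  5])]), ([0, 0, 0, 0, 1, 0], 4, [[1, 1, 1, 1, 0, 0], [0, 0, 0, 0, 0, 1]], []), ([1, 0, 0, 0, 1, 0], 4, [[0, 1, 1, 1,
  0, 0], [0, 0, 0, 0, 0, 1]], []), ([0, 0, 0, 0, 0, 1], 5, [[1, 1, 2, 2, 1, 0]], []), ([1, 0, 0, 0, 0, 1], 5, [[0, 1,
  1, 2, 1, 0]], []), ([2, 0, 0, 0, 0, 1], 5, [[0, 1, 1, 2, 1, 0]], []), ([0, 1, 0, 0, 0, 1], 5, [[1, 0, 1, 1, 1, 0]],
  []), ([0, 0, 1, 0, 0, 1], 5, [[0, 1, 0, 1, 1, 0], [1, 0, 0, 0, 0, 0]], []), ([0, 0, 0, 0, 1, 1], 5, [[1, 1, 1, 1, 0,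
  0]], []), ([0, 0, 0, 0, 0, 2], 5, [[1, 1, 2, 2, 1, 0]], []), ([1, 0, 0, 0, 0, 2], 5, [[0, 1, 1, 2, 1, 0]], [])]

private noncomputable def _root_.Cfsg.Agent.LsF.f51e45f_2 : {f // @Cfsg.Agent.TO.X.Pl.run = f} := ⟨_, by first | (delta Cfsg.Agent.TO.X.Pl.run; rewrite [Cfsg.Agent.LsF.map_eq, Cfsg.Agent.LsF.reverse_eq, Cfsg.Agent.LsF.range_eq]; exact rfl) | exact rfl⟩
private noncomputable def _root_.Cfsg.Agent.LsF.f51e45f_3 : {f // @Cfsg.Agent.TO.X.Pl.gv = f} := ⟨_, by first | (delta Cfsg.Agent.TO.X.Pl.gv; rewrite [Cfsg.Agent.LsF.map_eq]; exact rfl) | exact rfl⟩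
private noncomputable def _root_.Cfsg.Agent.LsF.f51e45f_4 : {f // @Cfsg.Agent.TO.X.Pl.pre = f} := ⟨_, by first | (delta Cfsg.Agent.TO.X.Pl.pre; rewrite [Cfsg.Agent.LsF.f51e45f_3.2, Cfsg.Agent.LsF.cond_eq]; exact rfl) | exact rfl⟩
private noncomputable def _root_.Cfsg.Agent.LsF.f51e45f_5 : {f // @Cfsg.Agent.TO.X.Pl.okZ = f} := ⟨_, by first | (delta Cfsg.Agent.TO.X.Pl.okZ; rewrite [Cfsg.Agent.LsF.nadd_pat, Cfsg.Agent.LsF.nmul_pat, Cfsg.Agent.LsF.cond_eq, Cfsg.Agent.LsF.filter_eq, Cfsg.Agent.LsF.countP_eq, Cfsg.Agent.LsF.length_eq]; exact rfl) | exact rfl⟩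
private noncomputable def _root_.Cfsg.Agent.LsF.f51e45f_0 : {f // @Cfsg.Agent.TO.X.Pl.lp = f} := ⟨_, by first | (delta Cfsg.Agent.TO.X.Pl.lp; rewrite [Cfsg.Agent.LsF.cond_eq]; exact rfl) | exact rfl⟩
private noncomputable def _root_.Cfsg.Agent.LsF.f51e45f_6 : {f // @Cfsg.Agent.TO.X.Pl.TT = f} := ⟨_, by first | (delta Cfsg.Agent.TO.X.Pl.TT; rewrite [Cfsg.Agent.LsF.map_eq]; exact rfl) | exact rfl⟩
private noncomputable def _root_.Cfsg.Agent.LsF.f51e45f_7 : {f // @Cfsg.Agent.TO.X.Pl.HU = f} := ⟨_, by first | (delta Cfsg.Agent.TO.X.Pl.HU; rewrite [Cfsg.Agent.LsF.f51e45f_6.2, Cfsg.Agent.LsF.nsub_pat, Cfsg.Agent.LsF.map_eq, Cfsg.Agent.LsF.flatMap_eq, Cfsg.Agent.LsF.range'_eq]; exact rfl) | exact rfl⟩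
private noncomputable def _root_.Cfsg.Agent.LsF.f51e45f_8 : {f // @Cfsg.Agent.TO.X.Pl.okH = f} := ⟨_, by first | (delta Cfsg.Agent.TO.X.Pl.okH; rewrite [Cfsg.Agent.LsF.f51e45f_0.2, Cfsg.Agent.LsF.f51e45f_7.2, Cfsg.Agent.LsF.f51e45f_6.2, Cfsg.Agent.LsF.any_eq]; exact rfl) | exact rfl⟩
private noncomputable def _root_.Cfsg.Agent.LsF.f51e45f_9 : {f // @Cfsg.Agent.TO.X.Pl.inSp = f} := ⟨_, by first | (delta Cfsg.Agent.TO.X.Pl.inSp; rewrite [Cfsg.Agent.LsF.nadd_pat, Cfsg.Agent.LsF.nmul_pat, Cfsg.Agent.LsF.isub_pat, Cfsg.Agent.LsF.imod_pat, Cfsg.Agent.LsF.icast_pat, Cfsg.Agent.LsF.ibeq_pat, Cfsg.Agent.LsF.all_eq, Cfsg.Agent.LsF.any_eq, Cfsg.Agent.LsF.range_eq, Cfsg.Agent.LsF.getD_eq]; exact rfl) | exact rfl⟩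
private noncomputable def _root_.Cfsg.Agent.LsF.f51e45f_10 : {f // @Cfsg.Agent.KZ.DatX.refL = f} := ⟨_, by first | (delta Cfsg.Agent.KZ.DatX.refL; rewrite [Cfsg.Agent.LsF.imul_pat, Cfsg.Agent.LsF.isub_pat, Cfsg.Agent.LsF.zipWith_eq, Cfsg.Agent.LsF.getD_eq]; exact rfl) | exact rfl⟩
private noncomputable def _root_.Cfsg.Agent.LsF.f51e45f_11 : {f // @Cfsg.Agent.KZ.DatX.app = f} := ⟨_, by first | (delta Cfsg.Agent.KZ.DatX.app; rewrite [Cfsg.Agent.LsF.f51e45f_10.2, Cfsg.Agent.LsF.foldr_eq]; exact rfl) | exact rfl⟩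
private noncomputable def _root_.Cfsg.Agent.LsF.f51e45f_12 : {f // @Cfsg.Agent.TO.X.Pl.fz = f} := ⟨_, by first | (delta Cfsg.Agent.TO.X.Pl.fz; rewrite [Cfsg.Agent.LsF.icast_pat, Cfsg.Agent.LsF.getD_eq]; exact rfl) | exact rfl⟩
private noncomputable def _root_.Cfsg.Agent.LsF.f51e45f_13 : {f // @Cfsg.Agent.TO.X.Pl.Job.fnl = f} := ⟨_, by first | (delta Cfsg.Agent.TO.X.Pl.Job.fnl; rewrite [Cfsg.Agent.LsF.f51e45f_9.2, Cfsg.Agent.LsF.f51e45f_11.2, Cfsg.Agent.LsF.f51e45f_12.2, Cfsg.Agent.LsF.instNBEq_pat, Cfsg.Agent.LsF.and_eq, Cfsg.Agent.LsF.any_eq, Cfsg.Agent.LsF.instBEq_eq, Cfsg.Agent.LsF.ofFn_eq]; exact rfl) | exact rfl⟩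
private noncomputable def _root_.Cfsg.Agent.LsF.f51e45f_14 : {f // @Cfsg.Agent.TO.X.Pl.Job.chk2 = f} := ⟨_, by first | (delta Cfsg.Agent.TO.X.Pl.Job.chk2; rewrite [Cfsg.Agent.LsF.f51e45f_2.2, Cfsg.Agent.LsF.f51e45f_4.2, Cfsg.Agent.LsF.f51e45f_5.2, Cfsg.Agent.LsF.f51e45f_8.2, Cfsg.Agent.LsF.f51e45f_13.2, Cfsg.Agent.LsF.f51e45f_3.2, Cfsg.Agent.LsF.nmod_pat, Cfsg.Agent.LsF.nbeq_pat, Cfsg.Agent.LsF.instNBEq_pat, Cfsg.Agent.LsF.and_eq, Cfsg.Agent.LsF.or_eq, Cfsg.Agent.LsF.not_eq, Cfsg.Agent.LsF.cond_eq, Cfsg.Agent.LsF.all_eq, Cfsg.Agent.LsF.any_eq, Cfsg.Agent.LsF.range_eq, Cfsg.Agent.LsF.getD_eq, Cfsg.Agent.LsF.instBEq_eq]; exact rfl) | exact rfl⟩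
theorem twoE63a : (cE63a.all jE63.chk2) = true := by ((try (rewrite [Cfsg.Agent.LsF.f51e45f_14.2, Cfsg.Agent.LsF.all_eq])); decide +kernel)

theorem oneE63 : jE63.chk1 ((cE63a).map Prod.fst) = true := by decide +kernel

theorem twoE63 : ∀ e ∈ cE63a, jE63.chk2 e = true := List.all_eq_true.1 (by
  simp only [twoE63a])

theorem okE63 : jE63.Ok chevE6 [1] := ⟨tyE6, Nm.one, alt_one, fun h => absurd h Bool.false_ne_true⟩

/-- **the pure planes** -/
theorem plE63 {u x : Fin 6 → ZMod 3} (H : PurePl chevE6 (AdmS 3 [1, P6]) u x) :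
    Std chevE6 u x ![0, 0, 0, 1, 0, 0] ![1, 1, 1, 0, 1, 1] := by
  obtain ⟨s, hs, W, h1, h2⟩ := @Job.Ok.plane _ _ _ _ ⟨Nat.prime_three⟩ okE63 _ oneE63 twoE63 _ _ (pl_P6 H)
  obtain rfl := List.mem_singleton.1 hs
  exact ⟨W, h1, h2.trans (by
      rw [sp2, show cv 3 6 [0, 0, 0, 1, 0, 0] = ![0, 0, 0, 1, 0, 0] by decide,
        show cv 3 6 [1, 1, 1, 0, 1, 1] = ![1, 1, 1, 0, 1, 1] by decide])⟩

private noncomputable def _root_.Cfsg.Agent.LsF.f51e45f_15 : {f // @Cfsg.Agent.TO.X.Pl.Job.chk3 = f} := ⟨_, by first | (delta Cfsg.Agent.TO.X.Pl.Job.chk3; rewrite [Cfsg.Agent.LsF.f51e45f_2.2, Cfsg.Agent.LsF.f51e45f_4.2, Cfsg.Agent.LsF.f51e45f_3.2, Cfsg.Agent.LsF.f51e45f_0.2, Cfsg.Agent.LsF.f51e45f_8.2, Cfsg.Agent.LsF.nadd_pat, Cfsg.Agent.LsF.nmul_pat, Cfsg.Agent.LsF.or_eq, Cfsg.Agent.LsF.not_eq, Cfsg.Agent.LsF.cond_eq, Cfsg.Agent.LsF.map_eq, Cfsg.Agent.LsF.range_eq, Cfsg.Agent.LsF.getD_eq]; exact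 rfl) | exact rfl⟩
theorem threeE63 : (jE63.std.all jE63.chk3) = true := by ((try (rewrite [Cfsg.Agent.LsF.f51e45f_15.2, Cfsg.Agent.LsF.all_eq])); decide +kernel)

/-- **the rank** -/
theorem rkE63 {B : Submodule (ZMod 3) (Fin 6 → ZMod 3)} (H : PureSp chevE6 (AdmS 3 [1, P6]) B) :
    Module.finrank (ZMod 3) B ≤ 2 :=
  @Job.Ok.rank _ _ _ _ ⟨Nat.prime_three⟩ okE63 _ oneE63 twoE63 (by decide) (List.all_eq_true.1 threeE63) _ (sp_P6 H)

end Cfsg.Agent.TO.X.Pl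
end

-- part: TO/E6N/Braid
section
/-!
# S4817, `E₆`, `p = 3`, nontoral planes (helper28): the group `⟨s, t | s³, t³, sts = tst⟩` has at most `24` elements
-/

set_option autoImplicit false

namespace Cfsg.Agent.TO.E6N

/-- the value of a word -/
def ev {E : Type*} [Group E] (s t : E) : List Bool → E
  | [] => 1
  | true :: w => s * ev s t w
  | false :: w => t * ev s t w

/-- one rewriting step -/
def rw1 : List Bool → List Bool
  | true :: true :: true :: w => w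
  | false :: false :: false :: w => w
  | false :: true :: false :: w => true :: false :: true :: w
  | false :: true :: true :: false :: true :: w => true :: false :: true :: true :: false :: w
  | false :: false :: true :: true :: false :: w => true :: false :: false :: true :: true :: w
  | true :: false :: true :: true :: false :: false :: w => false :: false :: true :: w
  | false :: true :: true :: false :: false :: w => true :: true :: false :: false :: true :: w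
  | c :: w => c :: rw1 w
  | [] => []

/-- the normal forms -/
def nfs : List (List Bool) :=
  [[], [true], [false], [true, true], [true, false], [false, true], [false, false], [true, true, false],
    [true, false, true], [true, false, false], [false, true, true], [false, false, true], [true, true, false, true],
    [true, true, false, false], [true, false, true, true], [true, false, false, true], [false, true, true, false],
    [false, false, true, true], [true, true, false, true, true], [true, true, false, false, true],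
    [true, false, true, true, false], [true, false, false, true, true], [true, true, false, true, true, false],
    [true, true, false, false, true, true]]

theorem nfs_closed : ∀ w ∈ nfs, ∀ c, rw1 (rw1 (rw1 (rw1 (c :: w)))) ∈ nfs := by decide +kernel

variable {E : Type*} [Group E] {s t : E}

theorem ev_rw1 (hs : s ^ 3 = 1) (ht : t ^ 3 = 1) (hb : t * s * t = s * t * s) (w : List Bool) :
    ev s t (rw1 w) = ev s t w := by
  have r0 : ∀ x, s * (s * (s * x)) = x := fun x => by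
    rw [← mul_assoc, ← mul_assoc, ← pow_three', hs, one_mul]
  have r1 : ∀ x, t * (t * (t * x)) = x := fun x => by
    rw [← mul_assoc, ← mul_assoc, ← pow_three', ht, one_mul]
  have r2 : ∀ x, t * (s * (t * x)) = s * (t * (s * x)) := fun x => by
    rw [← mul_assoc, ← mul_assoc, hb, mul_assoc, mul_assoc]
  have r3 : ∀ x, t * (s * (s * (t * (s * x)))) = s * (t * (s * (s * (t * x)))) := fun x => by
    rw [← r2 x, r2 (s * (t * x))]
  have r5 : ∀ x, s * (t * (s * (s * (t * (t * x))))) = t * (t * (s * x)) := fun x => by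
    rw [← r3, r2 x, r0]
  have r6 : ∀ x, t * (s * (s * (t * (t * x)))) = s * (s * (t * (t * (s * x)))) := fun x => by
    rw [← r5 x, r0]
  have r4 : ∀ x, t * (t * (s * (s * (t * x)))) = s * (t * (t * (s * (s * x)))) := fun x => by
    have h1 := r3 (s * (t * (s * x)))
    rwa [r3 x, r2, r0, r0] at h1
  fun_induction rw1 w with
  | case1 w => exact (r0 _).symm
  | case2 w => exact (r1 _).symm
  | case3 w => exact (r2 _).symm
  | case4 w => exact (r3 _).symm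
  | case5 w => exact (r4 _).symm
  | case6 w => exact (r5 _).symm
  | case7 w => exact (r6 _).symm
  | case8 c w _ _ _ _ _ _ _ ih => cases c <;> simp only [ev, ih]
  | case9 => rfl

theorem exists_nf (hs : s ^ 3 = 1) (ht : t ^ 3 = 1) (hb : t * s * t = s * t * s) (w : List Bool) :
    ∃ w' ∈ nfs, ev s t w = ev s t w' := by
  induction w with
  | nil => exact ⟨[], by decide, rfl⟩
  | cons c w ih =>
    obtain ⟨w', h1, h2⟩ := ih
    refine ⟨_, nfs_closed w' h1 c, ?_⟩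
    rw [ev_rw1 hs ht hb, ev_rw1 hs ht hb, ev_rw1 hs ht hb, ev_rw1 hs ht hb]
    cases c <;> simp only [ev, h2]

end Cfsg.Agent.TO.E6N
end

-- part: TO/E6N/Abs
section
/-!
# S4817, `E₆`, `p = 3`, nontoral planes (helper28): the canonical group `3² : SL₂(3)`
-/

set_option autoImplicit false

namespace Cfsg.Agent.TO.E6N

open Subgroup
open scoped commutatorElement

variable {Y : Type*} [Group Y]

/-- the centralizer of the cubes in the centralizer -/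
def SC (d : Y) : Subgroup Y := centralizer {x | ∃ y, y * d = d * y ∧ x = y ^ 3}

theorem mem_SC {d s : Y} : s ∈ SC d ↔ ∀ y, y * d = d * y → y ^ 3 * s = s * y ^ 3 :=
  ⟨fun h y hy => mem_centralizer_iff.1 h _ ⟨y, hy, rfl⟩, fun h => mem_centralizer_iff.2 (by
    rintro _ ⟨y, hy, rfl⟩
    exact h y hy)⟩

theorem map_SC (β : MulAut Y) {d s : Y} (h : s ∈ SC d) : β s ∈ SC (β d) := mem_SC.2 fun y hy => by
  obtain ⟨y, rfl⟩ := β.surjective y
  rw [← map_mul, ← map_mul] at hy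
  rw [← map_pow, ← map_mul, ← map_mul, mem_SC.1 h y (β.injective hy)]

theorem conj_SC (g : Y) {d s : Y} (h : s ∈ SC d) : g * s * g⁻¹ ∈ SC (g * d * g⁻¹) := map_SC (MulAut.conj g) h

theorem SC_inv {d s : Y} (h : s ∈ SC d⁻¹) : s ∈ SC d := mem_SC.2 fun y hy =>
  mem_SC.1 h y (Commute.inv_right hy).eq

/-- the canonical subgroup of the normalizer -/
def NN (Q : Subgroup Y) : Subgroup Y := _root_.Subgroup.closure {s | s ∈ normalizer (Q : Set Y) ∧ ∃ d ∈ Q, d ≠ 1 ∧ s ∈ SC d}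

theorem NN_le (Q : Subgroup Y) : NN Q ≤ normalizer (Q : Set Y) := (closure_le _).2 fun _ h => h.1

theorem map_norm {Q : Subgroup Y} {β : MulAut Y} (h : ∀ y, β y ∈ Q ↔ y ∈ Q) {s : Y} (hs : s ∈ normalizer (Q : Set Y)) :
    β s ∈ normalizer (Q : Set Y) := mem_normalizer_iff.2 fun y => by
  obtain ⟨y, rfl⟩ := β.surjective y
  rw [← map_inv, ← map_mul, ← map_mul, h, h]
  exact mem_normalizer_iff.1 hs y

theorem map_NN {Q : Subgroup Y} {β : MulAut Y} (h : ∀ y, β y ∈ Q ↔ y ∈ Q) {x : Y} (hx : x ∈ NN Q) : β x ∈ NN Q := by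
  have h1 : NN Q ≤ (NN Q).comap β.toMonoidHom := (closure_le _).2 fun s ⟨h1, d, h2, h3, h4⟩ =>
    _root_.Subgroup.subset_closure ⟨map_norm h h1, β d, (h d).2 h2, fun e => h3 (β.map_eq_one_iff.1 e), map_SC β h4⟩
  exact h1 hx

/-- the cubes in the centralizer commute with `NN Q` -/
theorem cube_comm {Q : Subgroup Y} {y x : Y} (hy : y ∈ centralizer (Q : Set Y)) (hx : x ∈ NN Q) :
    y ^ 3 * x = x * y ^ 3 := by
  have h1 : NN Q ≤ centralizer {y ^ 3} := (closure_le _).2 fun s ⟨_, d, h2, _, h4⟩ =>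
    mem_centralizer_singleton_iff.2 (mem_SC.1 h4 y (mem_centralizer_iff.1 hy d h2).symm).symm
  exact (mem_centralizer_singleton_iff.1 (h1 hx)).symm

/-- coordinates -/
abbrev V : Type := ZMod 3 × ZMod 3

theorem V_ind {P : V → Prop} (h1 : P (1, 0)) (h2 : P (0, 1)) (h : ∀ x y, P x → P y → P (x + y)) (x : V) : P x := by
  have h3 : ∀ (y : V) (n : ℕ), P y → P ((n + 1) • y) := fun y n hy => by
    induction n with
    | zero => simpa using hy
    | succ n ih =>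
      rw [succ_nsmul]
      exact h _ _ ih hy
  have h4 : ∀ x : V, x = (x.1.val + 2 + 1) • ((1, 0) : V) + (x.2.val + 2 + 1) • ((0, 1) : V) +
      ((1, 0) + (1, 0) + (1, 0)) := by decide
  rw [h4 x]
  exact h _ _ (h _ _ (h3 _ _ h1) (h3 _ _ h2)) (h _ _ (h _ _ h1 h1) h1)

/-- the action of a word -/
def act : List Bool → V → V
  | [], x => x
  | true :: w, x => ((act w x).1, (act w x).1 + (act w x).2)
  | false :: w, x => ((act w x).1 - (act w x).2, (act w x).2)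

theorem nfs_faith : ∀ w ∈ nfs, act w (1, 0) = (1, 0) → act w (0, 1) = (0, 1) → w = [] := by decide

/-- words in `i = t s⁻¹` and `j = s⁻¹ t` -/
def qw : List Bool → List Bool
  | [] => []
  | true :: w => false :: true :: true :: qw w
  | false :: w => true :: true :: false :: qw w

theorem q_trans : ∀ x : V, x ≠ 0 → ∃ w ∈ [[], [true], [false], [true, true], [true, false], [false, true],
    [true, true, true], [false, false, false]], act (qw w) (1, 0) = x := by decide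

/-- the configuration -/
structure Cf (Q : Subgroup Y) (e : V → Y) (u v : Y) : Prop where
  add : ∀ x y, e (x + y) = e x * e y
  inj : Function.Injective e
  mem : ∀ y, y ∈ Q ↔ ∃ x, e x = y
  cen : ∀ s ∈ SC (e (1, 0)), s * e (1, 0) = e (1, 0) * s
  fix : ∀ s ∈ SC (e (1, 0)), s * e (0, 1) = e (0, 1) * s → s ∈ Q
  det : ∀ t ∈ normalizer (Q : Set Y), t * e (1, 0) * t⁻¹ = e (1, 0) → ∃ j, t * e (0, 1) * t⁻¹ = e (j, 1)
  hu : u ∈ SC (e (0, 1))
  ua : u * e (1, 0) * u⁻¹ = e (1, 1)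
  ub : u * e (0, 1) * u⁻¹ = e (0, 1)
  hv : v ∈ SC (e (1, 0))
  vb : v * e (0, 1) * v⁻¹ = e (-1, 1)

namespace Cf

variable {Q : Subgroup Y} {e : V → Y} {u v : Y} (C : Cf Q e u v)
include C

theorem zero : e 0 = 1 := by
  have h := C.add 0 0
  rw [add_zero] at h
  exact mul_eq_left.1 h.symm

theorem neg (x : V) : e (-x) = (e x)⁻¹ := by
  rw [eq_inv_iff_mul_eq_one, ← C.add, neg_add_cancel, C.zero]

theorem mem' (x : V) : e x ∈ Q := (C.mem _).2 ⟨x, rfl⟩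

theorem comm {x y : Y} (hx : x ∈ Q) (hy : y ∈ Q) : x * y = y * x := by
  obtain ⟨x, rfl⟩ := (C.mem _).1 hx
  obtain ⟨y, rfl⟩ := (C.mem _).1 hy
  rw [← C.add, ← C.add, add_comm]

theorem ne {x : V} (h : x ≠ 0) : e x ≠ 1 := fun h1 => h (C.inj (h1.trans C.zero.symm))

theorem conj_eq {g : Y} {f : V → V} (hf : ∀ x y, f (x + y) = f x + f y) (h1 : g * e (1, 0) * g⁻¹ = e (f (1, 0)))
    (h2 : g * e (0, 1) * g⁻¹ = e (f (0, 1))) (x : V) : g * e x * g⁻¹ = e (f x) :=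
  V_ind (P := fun x => g * e x * g⁻¹ = e (f x)) h1 h2 (fun x y hx hy => by
    rw [hf, C.add, C.add, ← hx, ← hy, conj_mul]) x

theorem u_act (x : V) : u * e x * u⁻¹ = e (x.1, x.1 + x.2) :=
  C.conj_eq (f := fun x => (x.1, x.1 + x.2)) (by decide +kernel) C.ua C.ub x

theorem va : v * e (1, 0) * v⁻¹ = e (1, 0) := mul_inv_eq_iff_eq_mul.2 (C.cen v C.hv)

theorem v_act (x : V) : v * e x * v⁻¹ = e (x.1 - x.2, x.2) :=
  C.conj_eq (f := fun x => (x.1 - x.2, x.2)) (by decide +kernel) C.va C.vb x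

theorem ev_act (w : List Bool) (x : V) : ev u v w * e x * (ev u v w)⁻¹ = e (act w x) := by
  induction w with
  | nil => simp [ev, act]
  | cons c w ih =>
    cases c
    · rw [ev, act, ← C.v_act, ← ih]
      group
    · rw [ev, act, ← C.u_act, ← ih]
      group

theorem norm_of {g : Y} {f : V → V} (hf : Function.Surjective f) (h : ∀ x, g * e x * g⁻¹ = e (f x)) :
    g ∈ normalizer (Q : Set Y) := mem_normalizer_iff.2 fun y => ⟨fun hy => by
  obtain ⟨x, rfl⟩ := (C.mem _).1 hy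
  rw [h]
  exact C.mem' _, fun hy => by
  obtain ⟨x, hx⟩ := (C.mem _).1 hy
  obtain ⟨x, rfl⟩ := hf x
  rw [← h, mul_left_inj, mul_right_inj] at hx
  exact hx ▸ C.mem' x⟩

theorem u_norm : u ∈ normalizer (Q : Set Y) := C.norm_of (by decide) C.u_act

theorem v_norm : v ∈ normalizer (Q : Set Y) := C.norm_of (by decide) C.v_act

theorem u_mem : u ∈ NN Q := subset_closure ⟨C.u_norm, _, C.mem' _, C.ne (by decide), C.hu⟩

theorem v_mem : v ∈ NN Q := subset_closure ⟨C.v_norm, _, C.mem' _, C.ne (by decide), C.hv⟩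

theorem ev_mem (w : List Bool) : ev u v w ∈ NN Q := by
  induction w with
  | nil => exact one_mem _
  | cons c w ih =>
    cases c
    · exact mul_mem C.v_mem ih
    · exact mul_mem C.u_mem ih

theorem v3 : v ^ 3 ∈ Q := by
  refine C.fix _ (pow_mem C.hv 3) (mul_inv_eq_iff_eq_mul.1 ?_)
  have h := C.ev_act [false, false, false] (0, 1)
  rwa [show ev u v [false, false, false] = v ^ 3 by simp [ev, pow_succ, mul_assoc]] at h

/-- the braid relation modulo `Q` -/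
theorem braid : v⁻¹ * (u * v * u * (u * v)⁻¹) ∈ Q := by
  have h1 := conj_SC (u * v) C.hu
  have h2 := C.ev_act [true, false] (0, 1)
  rw [show ev u v [true, false] = u * v by simp [ev], show act [true, false] (0, 1) = -(1, 0) by decide, C.neg] at h2
  rw [h2] at h1
  refine C.fix _ (mul_mem (inv_mem C.hv) (SC_inv h1)) (mul_inv_eq_iff_eq_mul.1 ?_)
  have h3 : u * v * u * e (1, 0) * (u * v * u)⁻¹ = e (0, 1) := by
    have h := C.ev_act [true, false, true] (1, 0)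
    rwa [show ev u v [true, false, true] = u * v * u by simp [ev, mul_assoc]] at h
  have h4 : v * u * v * e (1, 0) * (v * u * v)⁻¹ = e (0, 1) := by
    have h := C.ev_act [false, true, false] (1, 0)
    rwa [show ev u v [false, true, false] = v * u * v by simp [ev, mul_assoc]] at h
  have h5 : u * v * e (1, 0) * (u * v)⁻¹ = e (1, 1) := by
    have h := C.ev_act [true, false] (1, 0)
    rwa [show ev u v [true, false] = u * v by simp [ev]] at h
  have h6 : u * v * e (1, 1) * (u * v)⁻¹ = e (0, 1) := by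
    have h := C.ev_act [true, false] (1, 1)
    rwa [show ev u v [true, false] = u * v by simp [ev]] at h
  have h7 : u * e (1, 1) * u⁻¹ = e (1, 2) := C.u_act _
  have h8 : u * v * e (1, 2) * (u * v)⁻¹ = e (-1, 1) := by
    have h := C.ev_act [true, false] (1, 2)
    rwa [show ev u v [true, false] = u * v by simp [ev]] at h
  calc v⁻¹ * (u * v * u * (u * v)⁻¹) * e (0, 1) * (v⁻¹ * (u * v * u * (u * v)⁻¹))⁻¹
      = v⁻¹ * (u * v * (u * e (1, 1) * u⁻¹) * (u * v)⁻¹) * v := by rw [← h6]; group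
    _ = e (0, 1) := by rw [h7, h8, ← C.vb]; group

/-- every element of `NN Q` is a normal form times an element of `Q` -/
theorem exists_nf' (w : List Bool) : ∃ w' ∈ nfs, (ev u v w')⁻¹ * ev u v w ∈ Q := by
  let N := normalizer (Q : Set Y)
  let π := QuotientGroup.mk' (Q.subgroupOf N)
  let u' : N := ⟨u, C.u_norm⟩
  let v' : N := ⟨v, C.v_norm⟩
  have hb : π v' * π u' * π v' = π u' * π v' * π u' := by
    have h : π v' = π (u' * v' * u' * (u' * v')⁻¹) := QuotientGroup.eq.2 C.braid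
    simp only [map_mul, map_inv] at h
    calc π v' * π u' * π v' = π v' * (π u' * π v') := mul_assoc _ _ _
      _ = _ := by
        nth_rewrite 1 [h]
        group
  have hv : π v' ^ 3 = 1 := by
    rw [← map_pow]
    exact (QuotientGroup.eq_one_iff _).2 C.v3
  have hu : π u' ^ 3 = 1 := by
    have h : π u' = (π u' * π v')⁻¹ * π v' * (π u' * π v')⁻¹⁻¹ := by
      rw [inv_inv, mul_assoc, ← mul_assoc (π v'), hb]
      group
    rw [h, conj_pow, hv]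
    group
  have hev : ∀ w, ∃ x : N, (x : Y) = ev u v w ∧ π x = ev (π u') (π v') w := fun w => by
    induction w with
    | nil => exact ⟨1, rfl, map_one π⟩
    | cons c w ih =>
      obtain ⟨x, h1, h2⟩ := ih
      cases c
      · exact ⟨v' * x, by rw [ev, ← h1]; rfl, by rw [ev, map_mul, h2]⟩
      · exact ⟨u' * x, by rw [ev, ← h1]; rfl, by rw [ev, map_mul, h2]⟩
  obtain ⟨w', h1, h2⟩ := exists_nf hu hv hb w
  obtain ⟨x, hx1, hx2⟩ := hev w
  obtain ⟨x', hx1', hx2'⟩ := hev w'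
  refine ⟨w', h1, ?_⟩
  rw [← hx1, ← hx1']
  have h3 : π x' = π x := by rw [hx2, hx2', h2]
  exact mem_subgroupOf.1 (QuotientGroup.eq.1 h3)

theorem u3 : u ^ 3 ∈ Q := by
  obtain ⟨w, h1, h2⟩ := C.exists_nf' [true, true, true]
  have h3 : ∀ x, act w x = act [true, true, true] x := fun x => C.inj (by
    rw [← C.ev_act, ← C.ev_act]
    have h4 := C.comm h2 (C.mem' x)
    calc ev u v w * e x * (ev u v w)⁻¹ = ev u v w * (e x * ((ev u v w)⁻¹ * ev u v [true, true, true])) *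
          (ev u v [true, true, true])⁻¹ := by group
      _ = _ := by rw [← h4]; group)
  obtain rfl := nfs_faith w h1 (by rw [h3]; decide) (by rw [h3]; decide)
  simpa [ev, pow_succ, mul_assoc] using h2

omit C in
theorem ev_append (w w' : List Bool) : ev u v (w ++ w') = ev u v w * ev u v w' := by
  induction w with
  | nil => simp [ev]
  | cons c w ih => cases c <;> simp [ev, ih, mul_assoc]

/-- the subgroup generated by `Q`, `u` and `v` -/
def N0 : Subgroup Y where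
  carrier := {x | ∃ w, (ev u v w)⁻¹ * x ∈ Q}
  one_mem' := ⟨[], by simp [ev]⟩
  mul_mem' := by
    rintro x y ⟨w, hw⟩ ⟨w', hw'⟩
    refine ⟨w ++ w', ?_⟩
    have h := mul_mem ((mem_normalizer_iff.1 (inv_mem (NN_le Q (C.ev_mem w'))) _).1 hw) hw'
    rw [ev_append]
    convert h using 1
    group
  inv_mem' := by
    rintro x ⟨w, hw⟩
    have h : ∀ w, ∃ w', ev u v w * ev u v w' ∈ Q := fun w => by
      induction w with
      | nil => exact ⟨[], by simp [ev]⟩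
      | cons c w ih =>
        obtain ⟨w', h⟩ := ih
        cases c
        · refine ⟨w' ++ [false, false], ?_⟩
          have h1 := mul_mem ((mem_normalizer_iff.1 C.v_norm _).1 h) C.v3
          rw [ev_append]
          convert h1 using 1
          simp only [ev, pow_succ, pow_zero, one_mul, mul_one, mul_assoc, inv_mul_cancel_left]
        · refine ⟨w' ++ [true, true], ?_⟩
          have h1 := mul_mem ((mem_normalizer_iff.1 C.u_norm _).1 h) C.u3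
          rw [ev_append]
          convert h1 using 1
          simp only [ev, pow_succ, pow_zero, one_mul, mul_one, mul_assoc, inv_mul_cancel_left]
    obtain ⟨w', h⟩ := h w
    refine ⟨w', ?_⟩
    have h2 := (mem_normalizer_iff.1 (inv_mem (NN_le Q (C.ev_mem w'))) _).1
      ((mem_normalizer_iff.1 (inv_mem (NN_le Q (C.ev_mem w))) _).1 (inv_mem h))
    have h3 := mul_mem ((mem_normalizer_iff.1 (inv_mem (NN_le Q (C.ev_mem w'))) _).1 (inv_mem hw)) h2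
    convert h3 using 1
    group

theorem ev_N0 (w : List Bool) : ev u v w ∈ C.N0 := ⟨w, by simp⟩

theorem le_N0 : Q ≤ C.N0 := fun _ h => ⟨[], by simpa [ev] using h⟩

theorem exists_word {d : Y} (hd : d ∈ Q) (h1 : d ≠ 1) : ∃ w, ev u v (qw w) * e (1, 0) * (ev u v (qw w))⁻¹ = d := by
  obtain ⟨x, rfl⟩ := (C.mem _).1 hd
  obtain ⟨w, -, hw⟩ := q_trans x (by rintro rfl; exact h1 C.zero)
  exact ⟨w, by rw [C.ev_act, hw]⟩

theorem NN_le_N0 : NN Q ≤ C.N0 := (closure_le _).2 fun s ⟨h1, d, h2, h3, h4⟩ => by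
  obtain ⟨w, rfl⟩ := C.exists_word h2 h3
  set g := ev u v (qw w)
  have h5 := conj_SC g⁻¹ h4
  rw [show g⁻¹ * (g * e (1, 0) * g⁻¹) * g⁻¹⁻¹ = e (1, 0) by group] at h5
  have hg : g ∈ normalizer (Q : Set Y) := NN_le Q (C.ev_mem _)
  obtain ⟨j, hj⟩ := C.det _ (mul_mem (mul_mem (inv_mem hg) h1) (inv_mem (inv_mem hg)))
    (mul_inv_eq_iff_eq_mul.2 (C.cen _ h5))
  obtain ⟨w', h6, h7⟩ : ∃ w', ev u v w' ∈ SC (e (1, 0)) ∧ act w' (j, 1) = (0, 1) := by
    have h8 : ∀ j : ZMod 3, j = 0 ∨ j = 1 ∨ j = 2 := by decide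
    rcases h8 j with rfl | rfl | rfl
    · exact ⟨[], one_mem _, rfl⟩
    · exact ⟨[false], mul_mem C.hv (one_mem _), by decide⟩
    · exact ⟨[false, false], mul_mem C.hv (mul_mem C.hv (one_mem _)), by decide⟩
  have h8 : ev u v w' * (g⁻¹ * s * g⁻¹⁻¹) ∈ Q := by
    refine C.fix _ (mul_mem h6 h5) (mul_inv_eq_iff_eq_mul.1 ?_)
    calc _ = ev u v w' * (g⁻¹ * s * g⁻¹⁻¹ * e (0, 1) * (g⁻¹ * s * g⁻¹⁻¹)⁻¹) * (ev u v w')⁻¹ := by group
      _ = _ := by rw [hj, C.ev_act, h7]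
  have hg' : g ∈ C.N0 := C.ev_N0 (qw w)
  have h9 := mul_mem (mul_mem hg' (mul_mem (inv_mem (C.ev_N0 w')) (C.le_N0 h8))) (inv_mem hg')
  show s ∈ C.N0
  convert h9 using 1
  group

/-- **`NN Q` meets the centralizer in `Q`** -/
theorem mem_of_cen {x : Y} (hx : x ∈ NN Q) (hc : x ∈ centralizer (Q : Set Y)) : x ∈ Q := by
  obtain ⟨w, hw⟩ := C.NN_le_N0 hx
  obtain ⟨w', h1, h2⟩ := C.exists_nf' w
  have h3 : (ev u v w')⁻¹ * x ∈ Q := by
    convert mul_mem h2 hw using 1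
    group
  have h4 : ∀ y, act w' y = y := fun y => C.inj (by
    rw [← C.ev_act]
    have h5 := C.comm h3 (C.mem' y)
    have h6 := mem_centralizer_iff.1 hc _ (C.mem' y)
    calc ev u v w' * e y * (ev u v w')⁻¹ = ev u v w' * (e y * ((ev u v w')⁻¹ * x)) * x⁻¹ := by group
      _ = x * e y * x⁻¹ := by rw [← h5]; group
      _ = e y := by rw [← h6]; group)
  obtain rfl := nfs_faith w' h1 (h4 _) (h4 _)
  simpa [ev] using h3

/-- a subgroup which contains `Q` and the commutators -/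
theorem qw_mem {K : Subgroup Y} (h1 : Q ≤ K) (h2 : ∀ x ∈ NN Q, ∀ y ∈ NN Q, ⁅x, y⁆ ∈ K) (w : List Bool) :
    ev u v (qw w) ∈ K := by
  have h3 : v * u⁻¹ ∈ K := by
    have h4 := h2 _ (mul_mem C.u_mem C.v_mem) _ C.u_mem
    have h5 := (mem_normalizer_iff.1 C.v_norm _).1 (inv_mem C.braid)
    convert mul_mem (h1 h5) h4 using 1
    rw [commutatorElement_def]
    group
  have hi : v * (u * u) ∈ K := by
    convert mul_mem h3 (h1 C.u3) using 1
    rw [pow_succ, pow_two]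
    group
  have hj : u * (u * v) ∈ K := by
    convert mul_mem (h2 _ (mul_mem C.u_mem C.u_mem) _ C.v_mem) hi using 1
    rw [commutatorElement_def]
    group
  induction w with
  | nil => exact one_mem _
  | cons c w ih =>
    cases c
    · convert mul_mem hj ih using 1
      simp only [qw, ev, mul_assoc]
    · convert mul_mem hi ih using 1
      simp only [qw, ev, mul_assoc]

/-- **transitivity** -/
theorem trans {K : Subgroup Y} (h1 : Q ≤ K) (h2 : ∀ x ∈ NN Q, ∀ y ∈ NN Q, ⁅x, y⁆ ∈ K) {d d' : Y} (hd : d ∈ Q)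
    (hd' : d' ∈ Q) (h3 : d ≠ 1) (h4 : d' ≠ 1) : ∃ k ∈ K, k ∈ NN Q ∧ k * d * k⁻¹ = d' := by
  obtain ⟨w, rfl⟩ := C.exists_word hd h3
  obtain ⟨w', rfl⟩ := C.exists_word hd' h4
  exact ⟨ev u v (qw w') * (ev u v (qw w))⁻¹, mul_mem (C.qw_mem h1 h2 _) (inv_mem (C.qw_mem h1 h2 _)),
    mul_mem (C.ev_mem _) (inv_mem (C.ev_mem _)), by group⟩

/-- **the stabiliser of a nontrivial element acts unipotently** -/
theorem cube_cen {t d : Y} (ht : t ∈ normalizer (Q : Set Y)) (hd : d ∈ Q) (h1 : d ≠ 1) (h2 : t * d * t⁻¹ = d) :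
    t ^ 3 ∈ centralizer (Q : Set Y) := by
  obtain ⟨w, rfl⟩ := C.exists_word hd h1
  set g := ev u v (qw w)
  have hg : g ∈ normalizer (Q : Set Y) := NN_le Q (C.ev_mem _)
  have h3 : g⁻¹ * t * g * e (1, 0) * (g⁻¹ * t * g)⁻¹ = e (1, 0) := by
    calc _ = g⁻¹ * (t * (g * e (1, 0) * g⁻¹) * t⁻¹) * g := by group
      _ = _ := by rw [h2]; group
  obtain ⟨j, hj⟩ := C.det _ (mul_mem (mul_mem (inv_mem hg) ht) hg) h3
  have h4 := C.conj_eq (g := g⁻¹ * t * g) (f := fun x => (x.1 + j * x.2, x.2)) (fun x y => by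
    ext
    · simp only [Prod.fst_add, Prod.snd_add]; ring
    · rfl) (by rw [h3, mul_zero, add_zero]) (by rw [hj, mul_one, zero_add])
  have h5 : ∀ x, (g⁻¹ * t * g) ^ 3 * e x * ((g⁻¹ * t * g) ^ 3)⁻¹ = e x := fun x => by
    have h6 : ∀ (j : ZMod 3) (x : V), ((x.1 + j * x.2 + j * x.2 + j * x.2, x.2) : V) = x := by decide
    generalize g⁻¹ * t * g = s at h4
    calc s ^ 3 * e x * (s ^ 3)⁻¹ = s * (s * (s * e x * s⁻¹) * s⁻¹) * s⁻¹ := by rw [pow_succ, pow_two]; group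
      _ = e x := by rw [h4, h4, h4, h6]
  refine mem_centralizer_iff.2 fun y hy => ?_
  obtain ⟨x, hx⟩ := (C.mem _).1 ((mem_normalizer_iff.1 (inv_mem hg) y).1 hy)
  have h6 := h5 x
  rw [hx, show g⁻¹ * t * g = g⁻¹ * t * g⁻¹⁻¹ by rw [inv_inv], conj_pow] at h6
  calc y * t ^ 3 = g * (g⁻¹ * y * g⁻¹⁻¹) * g⁻¹ * t ^ 3 := by group
    _ = _ := by rw [← h6]; group

theorem card : Nat.card Q = 9 := by
  have h : Nat.card V = Nat.card Q := Nat.card_eq_of_bijective (fun x => ⟨e x, C.mem' x⟩)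
    ⟨fun x y h => C.inj (congrArg Subtype.val h), fun y => by
      obtain ⟨x, hx⟩ := (C.mem _).1 y.2
      exact ⟨x, Subtype.ext hx⟩⟩
  rw [← h, Nat.card_prod, Nat.card_zmod]

end Cf

end Cfsg.Agent.TO.E6N
end

private theorem dce_09d91f8bd9bc : _root_.True := by
  try have : _root_.True := by simp only [_root_.Cfsg.Agent.TO.E6N.act.eq_1]
  try have : _root_.True := by simp only [_root_.Cfsg.Agent.TO.E6N.act.eq_def]
  try have : _root_.True := by simp only [_root_.Cfsg.Agent.TO.E6N.rw1._sparseCasesOn_2.else_eq]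
  try have : _root_.True := by simp only [_root_.Cfsg.Agent.TO.E6N.act.eq_2]
  try have : _root_.True := by simp only [_root_.Cfsg.Agent.TO.E6N.qw.eq_def]
  try have : _root_.True := by simp only [_root_.Cfsg.Agent.TO.E6N.ev.eq_def]
  try have : _root_.True := by simp only [_root_.Cfsg.Agent.TO.E6N.act.eq_3]
  try have : _root_.True := by simp only [_root_.Cfsg.Agent.TO.E6N.ev.eq_3]
  try have : _root_.True := by simp only [_root_.Cfsg.Agent.TO.E6N.qw.eq_3]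
  try have : _root_.True := by simp only [_root_.Cfsg.Agent.TO.E6N.rw1._sparseCasesOn_1.else_eq]
  try have : _root_.True := by simp only [_root_.Cfsg.Agent.TO.E6N.qw.eq_2]
  try have : _root_.True := by simp only [_root_.Cfsg.Agent.TO.E6N.ev.eq_2]
  try have : _root_.True := by simp only [_root_.Cfsg.Agent.TO.E6N.qw.eq_1]
  try have : _root_.True := by simp only [_root_.Cfsg.Agent.TO.E6N.ev.eq_1]
  try have : _root_.True := by simp only [_root_.Cfsg.Agent.TO.E6N.rw1.induct_unfolding]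
  try have : _root_.True := by simp only [_root_.Cfsg.Agent.TO.E6N.rw1.eq_def]
  try have : _root_.True := by simp only [_root_.Cfsg.Agent.TO.X.Pl.sp2.eq_1]
  try have : _root_.True := by simp only [_root_.Cfsg.Agent.TO.E6N.rw1._sparseCasesOn_3.else_eq]
  exact _root_.True.intro
end

-- part: TO/T3/ND
section
prune_inst 0x3460694145220000001c0002b00020c5210000020060080198460004000e9f222003a90154603a100012aa500008810000100070023000000a008400400001001caa5206b348a104640006c19884010000000000000000000000000000041000004010000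
set_option linter.all false
open scoped Cfsg.Agent.FastGrp

/-!
# S4817, `p = 3`: the field `ND` of the package (helper4)

* `nd_of` : `P.ND` if every `S z` with `Φ z = z` is `SL₃(k)` with a standard Frobenius map;
* `exists_stm` : this holds for the subgroups `JJ` of `DS.Nt`;
* `nd_JJ` : the two together; `pos_E7`, `pos_E8` : the tables.
-/

set_option autoImplicit false
set_option linter.unusedSectionVars false
set_option maxRecDepth 100000

namespace Cfsg.Agent.TO.T3.ND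

open CoxeterSystem Cfsg Cfsg.Lie Cfsg.Lie.ChevalleyDatum Subgroup
open Cfsg.Agent.ChevalleyStructure Cfsg.Agent.ChevalleyStructure.Elts Cfsg.Agent.ChevalleyStructure.CoxeterGeom
  Cfsg.Agent.ChevalleyStructure.CoxeterGeomTypes Cfsg.Agent.ChevalleyStructure.RootVec
open Cfsg.Agent.Tits.Roots Cfsg.Agent.Tits.Core Cfsg.Agent.Nodes Cfsg.Agent.Nodes.Reps Cfsg.Agent.Nodes.BNOf
  Cfsg.Agent.Nodes.RGDChev Cfsg.Agent.Nodes.Bruhat Cfsg.Agent.Nodes.Coroot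
open Cfsg.Agent.KFacts.RgdField Cfsg.Agent.KFacts.RgdChevCoord
open Cfsg.Agent.BpExc Cfsg.Agent.BpExc.TorCent Cfsg.Agent.BpExc.TorChev Cfsg.Agent.BpExc.Tow
  Cfsg.Agent.BpExc.TowChev Cfsg.Agent.BpExc.Fr Cfsg.Agent.BpExc.LangFr
open Cfsg.Agent.H469.Exc Cfsg.Agent.H469.Exc.SigFr Cfsg.Agent.H795.SetCent Cfsg.Agent.H129.TorusChar Cfsg.Agent.DS.Ex
open Cfsg.Agent.H185.EE Cfsg.Agent.H81.TorOrth Cfsg.Agent.H605.MX Cfsg.Agent.DS.Nt
open Cfsg.Agent.H321.Ker (stG stm sc toGL_inj' toGL_stm sc_comm sc_mul sc_one sc_inv sc_pow sc_mem mem_scalars_iff_sc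
  exists_lin exists_uni mono)
open Cfsg.Agent.BHZ.Exc (boxND frame_change)
open Cfsg.Agent.BHZ.Exc.AA (S3 center_iff exists_decomp stG_sc)
open Matrix.SpecialLinearGroup (toGL transvection)
open scoped MatrixGroups

section Abs

variable {Y : Type} [Group Y] {Φ : MulAut Y} {r : ℕ} [Fact r.Prime]

theorem cen_iff (P : Pk Y Φ) {z : Y} (h : P.Ty z) {φ : S3 r →* Y} (hi : Function.Injective φ) (hr : φ.range = P.S z)
    (c : S3 r) : φ c ∈ zpowers z ↔ c ∈ center (S3 r) := by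
  constructor
  · intro hc
    refine mem_center_iff.2 fun m => hi ?_
    rw [map_mul, map_mul]
    exact mem_centralizer_iff.1 (zpowers_le.2 (P.cen z h) hc) _ (by rw [← hr]; exact ⟨m, rfl⟩)
  · intro hc
    refine P.int z h _ (by rw [← hr]; exact ⟨c, rfl⟩) (mem_centralizer_iff.2 fun s hs => ?_)
    rw [← hr] at hs
    obtain ⟨m, rfl⟩ := hs
    rw [← map_mul, ← map_mul, mem_center_iff.1 hc]

/-- **[nd] from standard Frobenius maps.** -/
theorem nd_of (P : Pk Y Φ) (h3 : r ≠ 3) {e : ℕ} (he : 0 < e)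
    (hS : ∀ z, P.Ty z → Φ z = z → ∃ (φ : S3 r →* Y) (Dm : GL (Fin 3) (KK r)) (uni : Bool),
      Function.Injective φ ∧ φ.range = P.S z ∧ ∀ m, Φ (φ m) = φ (stm r e Dm uni m)) : P.ND := by
  intro z h hz N _ _ f hf hk
  obtain ⟨φ, Dm, uni, hi, hr, hΦ⟩ := hS z h hz
  have hc := cen_iff P h hi hr
  have hP : ∀ g, φ g ∈ P.PP h hz ↔ stm r e Dm uni g * g⁻¹ ∈ center (S3 r) := fun g => by
    rw [← hc, map_mul, map_inv, ← hΦ]
    exact ⟨fun h1 => h1.2, fun h1 => ⟨by rw [← hr]; exact ⟨g, rfl⟩, h1⟩⟩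
  have key : ∀ (g g' : S3 r) (s s' : (KK r)ˣ) (h1 : φ g ∈ P.PP h hz) (h2 : φ g' ∈ P.PP h hz),
      toGL g * sc 3 s = toGL g' * sc 3 s' → f ⟨_, h1⟩ = f ⟨_, h2⟩ := fun g g' s s' h1 h2 h4 => by
    rw [← inv_mul_eq_one, ← map_inv, ← map_mul, hk]
    show (φ g)⁻¹ * φ g' ∈ zpowers z
    rw [← map_inv, ← map_mul, hc, center_iff, map_mul, map_inv, ← mul_inv_eq_iff_eq_mul.2 h4, mul_assoc,
      inv_mul_cancel_left]
    exact mul_mem (sc_mem _) (inv_mem (sc_mem _))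
  choose n s hn using exists_decomp (r := r)
  have hm : ∀ x : (stG r e Dm uni).eqLocus (MonoidHom.id _), φ (n x) ∈ P.PP h hz := fun x => by
    have h1 : stG r e Dm uni x = x := x.2
    obtain ⟨w, hw⟩ := stG_sc e Dm uni (s x)
    rw [hn x, map_mul, hw, ← toGL_stm] at h1
    rw [hP, center_iff, map_mul, map_inv, eq_mul_inv_of_mul_eq h1, mul_assoc (toGL _), ← sc_inv, ← sc_mul,
      ← sc_comm, mul_inv_cancel_right]
    exact sc_mem _
  have hmul : ∀ x y : GL (Fin 3) (KK r), toGL (n (x * y)) * sc 3 (s (x * y)) = toGL (n x * n y) * sc 3 (s x * s y) :=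
    fun x y => by
      rw [← hn]
      conv_lhs => rw [hn x, hn y]
      rw [map_mul, sc_mul, mul_assoc, mul_assoc, ← mul_assoc (sc 3 (s x)), sc_comm (s x), mul_assoc]
  let f' : (stG r e Dm uni).eqLocus (MonoidHom.id _) →* N := MonoidHom.mk' (fun x => f ⟨_, hm x⟩) fun x y => by
    rw [← map_mul]
    have h1 : φ (n x * n y) ∈ P.PP h hz := by rw [map_mul]; exact mul_mem (hm x) (hm y)
    exact (key _ _ _ _ (hm (x * y)) h1 (hmul x y)).trans (congrArg f (Subtype.ext (map_mul φ _ _)))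
  refine boxND r h3 e 1 he (Or.inl rfl) Dm uni ?_ N f' (fun y => ?_) (fun x => ?_) N (MonoidHom.id N)
    Function.surjective_id (by rw [MonoidHom.ker_id]; exact bot_le) (by rw [MonoidHom.ker_id, card_bot])
  · obtain ⟨c, rfl⟩ : z ∈ φ.range := by rw [hr]; exact P.mem z h
    obtain ⟨ω, hω⟩ := mem_scalars_iff_sc.1 (center_iff.1 ((hc c).1 (mem_zpowers _)))
    refine ⟨ω, fun h1 => P.ty1 ?_, BHZ.Exc.ND.sc_inj ?_, ?_⟩
    · rw [h1, sc_one, ← map_one toGL] at hω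
      rwa [toGL_inj' hω, map_one] at h
    · have h1 : c ^ 3 = 1 := hi (by rw [map_pow, P.ty3 _ h, map_one])
      rw [sc_pow, ← hω, ← map_pow, h1, map_one, sc_one]
    · rw [← hω, ← toGL_stm, hi ((hΦ c).symm.trans hz)]
  · obtain ⟨⟨y, hy⟩, rfl⟩ := hf y
    obtain ⟨g, rfl⟩ : y ∈ φ.range := by rw [hr]; exact hy.1
    obtain ⟨c, h1⟩ := mem_scalars_iff_sc.1 (center_iff.1 ((hP g).1 hy))
    rw [map_mul, map_inv, toGL_stm, mul_inv_eq_iff_eq_mul] at h1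
    obtain ⟨w, hw⟩ := BHZ.Exc.TAG.exists_scale he h1
    exact ⟨⟨_, hw⟩, key _ _ _ _ _ hy (hn _).symm⟩
  · show f ⟨_, hm x⟩ = 1 ↔ _
    rw [hk]
    show φ (n x) ∈ zpowers z ↔ _
    rw [hc, center_iff]
    conv_rhs => rw [hn x]
    exact (mul_mem_cancel_right (sc_mem _)).symm

end Abs

section Frame

variable {D : ChevalleyDatum} {l : ℕ} {M : CoxeterMatrix (Fin l)} {hp : IsType D l M} {r : ℕ} [Fact r.Prime]
  {i : Fin l} {ρ : Fin 3 → Fin 3 → ℕ} {cf : List (ℕ × ℤ)}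

/-- `ρ 0 1`, `ρ 1 2` are positive with the sum `ρ 0 2` -/
def Pos (D : ChevalleyDatum) (ρ : Fin 3 → Fin 3 → ℕ) : Prop :=
  (∀ j < D.rank, 0 ≤ rt D (ρ 0 1) j ∧ 0 ≤ rt D (ρ 1 2) j ∧ rt D (ρ 0 2) j = rt D (ρ 0 1) j + rt D (ρ 1 2) j) ∧
    ρ 0 1 ≠ ρ 1 2

theorem pos_E8 : Pos chevE8 (rho3 chevE8 120 238) := ⟨by decide +kernel, by decide +kernel⟩

include hp in
theorem perm (T : Tab D 3 i ρ cf) (h : Pos D ρ) (g : (Fin l → ℤ) ≃+ (Fin l → ℤ))
    (hg : ∀ x ∈ SR D l ρ, g x ∈ SR D l ρ) (hpos : ∀ x ∈ SR D l ρ, 0 ≤ x → 0 ≤ g x) :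
    (∀ a b, a ≠ b → g (vec D l (ρ a b)) = vec D l (ρ a b)) ∨
      ∀ a b, a ≠ b → g (vec D l (ρ a b)) = vec D l (ρ (Fin.revPerm b) (Fin.revPerm a)) := by
  have h1 : 0 ≤ vec D l (ρ 0 1) := fun j => (h.1 j (lt_rank hp j)).1
  have h2 : 0 ≤ vec D l (ρ 1 2) := fun j => (h.1 j (lt_rank hp j)).2.1
  have h3 : vec D l (ρ 0 2) = vec D l (ρ 0 1) + vec D l (ρ 1 2) := funext fun j => (h.1 j (lt_rank hp j)).2.2
  have h4 := (pos_three hp T h1 h2 h3 h.2 g hg hpos).1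
  have n : ∀ a b, a ≠ b → vec D l (ρ b a) = -vec D l (ρ a b) := fun a b hab => by
    rw [T.neg hab, vec_neg hp (T.lt hab)]
  have rt : ∀ a b, a ≠ b → IsRoot M.toCoxeterSystem hp.isCartan (vec D l (ρ a b)) := fun a b hab =>
    T.root hp ⟨a, b, hab, rfl⟩
  have h6 : ∀ a b : Fin 3, a ≠ b → (a = 0 ∧ b = 1) ∨ (a = 1 ∧ b = 2) ∨ (a = 0 ∧ b = 2) ∨ (a = 1 ∧ b = 0) ∨
    (a = 2 ∧ b = 1) ∨ (a = 2 ∧ b = 0) := by decide
  have h7 : g (vec D l (ρ 0 1)) + g (vec D l (ρ 1 2)) = vec D l (ρ 0 1) + vec D l (ρ 1 2) := by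
    rw [← map_add, ← h3, h4]
  have h8 := hpos _ ⟨0, 1, by decide, rfl⟩ h1
  obtain ⟨a, b, hab, e⟩ := hg _ ⟨0, 1, by decide, rfl⟩
  rcases h6 a b hab with ⟨rfl, rfl⟩ | ⟨rfl, rfl⟩ | ⟨rfl, rfl⟩ | ⟨rfl, rfl⟩ | ⟨rfl, rfl⟩ | ⟨rfl, rfl⟩
  · rw [e, add_right_inj] at h7
    refine Or.inl fun a b hab => ?_
    rcases h6 a b hab with ⟨rfl, rfl⟩ | ⟨rfl, rfl⟩ | ⟨rfl, rfl⟩ | ⟨rfl, rfl⟩ | ⟨rfl, rfl⟩ | ⟨rfl, rfl⟩
    · exact e
    · exact h7
    · exact h4
    · rw [n 0 1 (by decide), map_neg, e]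
    · rw [n 1 2 (by decide), map_neg, h7]
    · rw [n 0 2 (by decide), map_neg, h4]
  · rw [e, add_comm, add_left_inj] at h7
    refine Or.inr fun a b hab => ?_
    rcases h6 a b hab with ⟨rfl, rfl⟩ | ⟨rfl, rfl⟩ | ⟨rfl, rfl⟩ | ⟨rfl, rfl⟩ | ⟨rfl, rfl⟩ | ⟨rfl, rfl⟩
    · exact e
    · exact h7
    · exact h4
    · rw [n 0 1 (by decide), map_neg, e]
      exact (n 1 2 (by decide)).symm
    · rw [n 1 2 (by decide), map_neg, h7]
      exact (n 0 1 (by decide)).symm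
    · rw [n 0 2 (by decide), map_neg, h4]
      exact (n 0 2 (by decide)).symm
  · have h9 := g.injective (e.trans h4.symm)
    rw [h3, left_eq_add] at h9
    have h10 := rt 1 2 (by decide)
    exact (h10.not_pos_neg h2 h9.le).elim
  · rw [e, n 0 1 (by decide)] at h8
    exact ((rt 0 1 (by decide)).not_pos_neg h1 (neg_nonneg.1 h8)).elim
  · rw [e, n 1 2 (by decide)] at h8
    exact ((rt 1 2 (by decide)).not_pos_neg h2 (neg_nonneg.1 h8)).elim
  · rw [e, n 0 2 (by decide)] at h8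
    exact ((rt 0 2 (by decide)).not_pos_neg (h3 ▸ add_nonneg h1 h2) (neg_nonneg.1 h8)).elim

variable {ψ : S3 r →* YY D r} (J : JD hp r 3 i ρ cf ψ) (h : Pos D ρ) {σ : MulAut (YY D r)} {e : ℕ}
  {g : (Fin l → ℤ) ≃+ (Fin l → ℤ)}

include J h

/-- the standard position -/
theorem stm_std (hσ : IsFrob r e σ) (F : Fr M.toCoxeterSystem hp.isCartan (TT D (KK r)) (XX D l (KK r)) σ g)
    (hg : ∀ x ∈ SR D l ρ, g x ∈ SR D l ρ) (hpos : ∀ x ∈ SR D l ρ, 0 ≤ x → 0 ≤ g x) :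
    ∃ (Dm : GL (Fin 3) (KK r)) (uni : Bool), ∀ m, σ (ψ m) = ψ (stm r e Dm uni m) := by
  have h1 : ∀ a b : Fin 3, ∃ c : KK r, ∀ hab : a ≠ b, c ≠ 0 ∧ ∀ a' b' (hab' : a' ≠ b'),
      g (vec D l (ρ a b)) = vec D l (ρ a' b') →
        ∀ t, σ (ψ (transvection hab t)) = ψ (transvection hab' (c * t ^ r ^ e)) := fun a b => by
    by_cases hab : a = b
    · exact ⟨1, fun h => absurd hab h⟩
    obtain ⟨s', hs', e', d, hd, h6, -⟩ := act_fr hp M.toCoxeterSystem (locFin r) (r := r) hσ F (J.tab.lt hab)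
    refine ⟨d, fun _ => ⟨hd, fun a' b' hab' h2 t => ?_⟩⟩
    obtain rfl : s' = ρ a' b' := vec_inj hp hs' (J.tab.lt hab') (e'.trans h2)
    rw [J.tv, J.tv, h6]
  choose c hc using h1
  have hinj : ∀ (a b : Fin 3) (hab : a ≠ b), Function.Injective fun t : KK r => ψ (transvection hab t) :=
    fun a b hab _ _ e => J.tv_inj hab e
  rcases perm (hp := hp) J.tab h g hg hpos with h2 | h2
  · obtain ⟨d, -, hd⟩ := exists_lin (r := r) (e := e) (φ := σ.toMonoidHom) (π := 1) (c := c) le_rfl hinj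
      (fun a b hab => (hc a b hab).1) fun a b hab t => (hc a b hab).2 a b hab (h2 a b hab) t
    exact ⟨_, _, hd⟩
  · obtain ⟨d, -, hd⟩ := exists_uni (r := r) (e := e) (φ := σ.toMonoidHom) (π := Fin.revPerm) (c := c) le_rfl hinj
      (fun a b hab => (hc a b hab).1) fun a b hab t => (hc a b hab).2 _ _ _ (h2 a b hab) t
    exact ⟨_, _, hd⟩

/-- **The Frobenius map on `J z`.** -/
theorem exists_stm (he : 0 < e) (hσ : IsFrob r e σ)
    (F : Fr M.toCoxeterSystem hp.isCartan (TT D (KK r)) (XX D l (KK r)) σ g) {z : YY D r} (hz : z ∈ Om hp r 3 i)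
    (hσz : σ z = z) : ∃ (φ : S3 r →* YY D r) (Dm : GL (Fin 3) (KK r)) (uni : Bool),
      Function.Injective φ ∧ φ.range = JJ hp r i ψ z ∧ ∀ m, σ (φ m) = φ (stm r e Dm uni m) := by
  obtain ⟨y, ζ, hζ, ht⟩ := hz
  obtain ⟨y', g', h1, h2, F', h3⟩ := frame_change (hp := hp) he hσ F hσz ht.1
  have h4 : (MulAut.conj y' * σ * MulAut.conj y'⁻¹) (y * z * y⁻¹) = y * z * y⁻¹ := by
    rw [← h1]
    show y' * σ (y'⁻¹ * (y' * z * y'⁻¹) * y'⁻¹⁻¹) * y'⁻¹ = _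
    rw [show y'⁻¹ * (y' * z * y'⁻¹) * y'⁻¹⁻¹ = z by group, hσz]
  obtain ⟨Dm, uni, h5⟩ := stm_std J h h2 F' (fun x hx => J.frame_S F' hζ hζ ht (by rw [h4]; exact ht) hx)
    fun x hx => h3 x ((ht.mem_Ps hζ).2 ⟨J.tab.root hp hx, J.tab.dvd hx⟩)
  rw [← h1] at ht
  refine ⟨(MulAut.conj y'⁻¹).toMonoidHom.comp ψ, Dm, uni, (J.sd_conj hζ ht).inj, (J.JJ_eq hζ ht).symm, fun m => ?_⟩
  have h6 : y' * σ (y'⁻¹ * ψ m * y'⁻¹⁻¹) * y'⁻¹ = _ := h5 m
  show σ (y'⁻¹ * ψ m * y'⁻¹⁻¹) = y'⁻¹ * ψ _ * y'⁻¹⁻¹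
  rw [← h6]
  group

/-- **[nd] for the frame.** -/
theorem nd_JJ (he : 0 < e) (hσ : IsFrob r e σ)
    (F : Fr M.toCoxeterSystem hp.isCartan (TT D (KK r)) (XX D l (KK r)) σ g) (P : Pk (YY D r) σ)
    (hT : ∀ z, P.Ty z → z ∈ Om hp r 3 i) (hS : ∀ z, P.Ty z → P.S z = JJ hp r i ψ z) : P.ND :=
  nd_of P J.ne.symm he fun z h1 h2 => by
    rw [hS z h1]
    exact exists_stm J h he hσ F (hT z h1) h2

end Frame

end Cfsg.Agent.TO.T3.ND
end

-- part: TO/E6/Asm_mg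
section
prune_inst 0x1000000000000000000000000018000200000000000000400000000000002000002000000000000000000000000000000000000000000000000000000400000000000001000000000000000000000000000000000000000000000000000000000000000
set_option linter.all false
open scoped Cfsg.Agent.FastGrp

-- part: TO/E6/Pn
section
/-!
# S4817, rows `E₆(q)`, `²E₆(q)` at `p = 3`: the pure planes (helper61)
-/

set_option autoImplicit false

namespace Cfsg.Agent.TO.E6

theorem pn : Pn := ⟨fun _ _ H => X.Pl.plE63 H, fun _ H => X.Pl.rkE63 H⟩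

end Cfsg.Agent.TO.E6
end

-- part: TO/E6N/Cov
section
/-!
# S4817, `E₆`, `p = 3`, nontoral planes (helper28): the configuration from the covering group
-/

set_option autoImplicit false

namespace Cfsg.Agent.TO.E6N

open Subgroup Cfsg.Agent.BHZ Cfsg.Agent.BHZ.Exc Cfsg.Agent.BHZ.Exc.DT
open scoped commutatorElement

variable {L Y : Type*} [Group L] [Group Y] {θ : L →* Y}

theorem SC_of_SS (K : K3 θ) (hs : Function.Surjective θ) {x u : L} (h : u ∈ SS x) : θ u ∈ SC (θ x) :=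
  mem_SC.2 fun y hy => by
    obtain ⟨y, rfl⟩ := hs y
    have h1 := Nil.cent_conj_pow K.cent hy 3
    rw [K.expo _ (comm_ker hy.symm), one_mul] at h1
    rw [← map_pow, ← map_mul, mem_SS.1 h _ (mul_inv_eq_iff_eq_mul.1 h1), map_mul]

/-- an element of type `D₄ T₂` -/
structure Ds (θ : L →* Y) (x : L) : Prop where
  dt : Dt θ x
  sc : ∀ u, θ u ∈ SC (θ x) → u ∈ SS x

theorem Ds.of_conj {x w : L} (h : Ds θ (w * x * w⁻¹)) : Ds θ x := ⟨h.dt.of_conj, fun u hu => by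
  have h1 := conj_SC (θ w) hu
  rw [← map_inv, ← map_mul, ← map_mul, ← map_mul, ← map_mul] at h1
  have h2 := conj_mem_SS' (h.sc _ h1)
  rwa [show w⁻¹ * (w * u * w⁻¹) * w = u by group] at h2⟩

/-- coordinates -/
def ee (a b : Y) (x : V) : Y := a ^ x.1.val * b ^ x.2.val

variable (K : K3 θ) {a b : L} (hab : θ b * θ a = θ a * θ b) (hne : b * a ≠ a * b)
include K hab hne

theorem eq_zero_of_comm {j : ZMod 3} (h : b ^ j.val * a = a * b ^ j.val) : j = 0 := by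
  have h1 := Nil.cent_conj_pow K.cent hab j.val
  rw [h, mul_inv_cancel_right, right_eq_mul] at h1
  have : Fact (Nat.Prime 3) := ⟨Nat.prime_three⟩
  have h2 := orderOf_dvd_of_pow_eq_one h1
  rw [orderOf_eq_prime (K.expo _ (comm_ker hab.symm)) (comm_ne (Ne.symm hne))] at h2
  exact (ZMod.val_eq_zero j).1 (Nat.eq_zero_of_dvd_of_lt h2 j.val_lt)

/-- **the configuration** -/
theorem exists_cf (hs : Function.Surjective θ) (ha : Ds θ a) (hb : Ds θ b) {Q : Subgroup Y}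
    (hQ : ∀ y, y ∈ Q ↔ ∃ i j : ℕ, y = θ a ^ i * θ b ^ j) :
    ∃ u ∈ SS b, ∃ v ∈ SS a, Cf Q (ee (θ a) (θ b)) (θ u) (θ v) := by
  have a3 := ha.dt.pow
  have b3 := hb.dt.pow
  have hc : Commute (θ a) (θ b) := hab.symm
  have e10 : ee (θ a) (θ b) (1, 0) = θ a := by simp [ee, ZMod.val_one]
  have e01 : ee (θ a) (θ b) (0, 1) = θ b := by simp [ee, ZMod.val_one]
  have add : ∀ x y, ee (θ a) (θ b) (x + y) = ee (θ a) (θ b) x * ee (θ a) (θ b) y := fun x y => by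
    simp only [ee, Prod.fst_add, Prod.snd_add, ZMod.val_add]
    rw [← pow_eq_pow_mod _ a3, ← pow_eq_pow_mod _ b3, pow_add, pow_add, (hc.pow_pow _ _).symm.mul_mul_mul_comm]
  have hker : ∀ x, ee (θ a) (θ b) x = 1 → x = 0 := fun x hx => by
    have h1 : θ (a ^ x.1.val * b ^ x.2.val) = 1 := by rw [map_mul, map_pow, map_pow]; exact hx
    have h2 : Commute a (a ^ x.1.val * b ^ x.2.val) := Nil.cent_comm K.cent h1 a
    have h3 : Commute b (a ^ x.1.val * b ^ x.2.val) := Nil.cent_comm K.cent h1 b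
    have h4 := ((Commute.refl a).pow_right x.1.val).inv_right.mul_right h2
    have h5 := h3.mul_right ((Commute.refl b).pow_right x.2.val).inv_right
    rw [inv_mul_cancel_left] at h4
    rw [mul_inv_cancel_right] at h5
    exact Prod.ext (eq_zero_of_comm K hab.symm (Ne.symm hne) h5.symm.eq) (eq_zero_of_comm K hab hne h4.symm.eq)
  have mem : ∀ y, y ∈ Q ↔ ∃ x, ee (θ a) (θ b) x = y := fun y => (hQ y).trans
    ⟨fun ⟨i, j, h⟩ => ⟨(i, j), by
      simp only [ee, ZMod.val_natCast]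
      rw [← pow_eq_pow_mod _ a3, ← pow_eq_pow_mod _ b3, h]⟩, fun ⟨x, h⟩ => ⟨_, _, h.symm⟩⟩
  obtain ⟨u, hu, eu⟩ := hb.dt.onto a hab.symm (Ne.symm hne) b (self_mem_SS b)
  obtain ⟨v, hv, ev⟩ := ha.dt.onto b hab hne _ (inv_mem (self_mem_SS a))
  simp only [map_mul, map_inv, mul_inv_eq_iff_eq_mul (b := θ a), mul_inv_eq_iff_eq_mul (b := θ b)] at eu ev
  have cen : ∀ {x : L}, Ds θ x → ∀ s ∈ SC (θ x), s * θ x = θ x * s := fun {x} hx s h => by
    obtain ⟨s, rfl⟩ := hs s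
    rw [← map_mul, SS_comm (hx.sc s h) (self_mem_SS x), map_mul]
  refine ⟨u, hu, v, hv, add, fun x y h => sub_eq_zero.1 (hker _ ?_), mem, ?_, ?_, fun t ht h => ?_, ?_, ?_, ?_, ?_, ?_⟩
  · have h1 := add (x - y) y
    rwa [sub_add_cancel, h, right_eq_mul] at h1
  · rw [e10]
    exact cen ha
  · rw [e10, e01]
    intro s h1 h2
    obtain ⟨s, rfl⟩ := hs s
    obtain ⟨i, hi⟩ := ha.dt.fix b hab hne s (ha.sc s h1) h2
    exact (hQ _).2 ⟨i, 0, by rw [hi, pow_zero, mul_one]⟩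
  · rw [e10] at h
    obtain ⟨⟨j, k⟩, hx⟩ := (mem _).1 ((mem_normalizer_iff.1 ht _).1 ((mem _).2 ⟨(0, 1), rfl⟩))
    refine ⟨j, ?_⟩
    rw [← hx]
    rw [e01] at hx
    obtain ⟨t, rfl⟩ := hs t
    have h1 : θ (t * b * t⁻¹) = θ (a ^ j.val * b ^ k.val) := by
      simp only [map_mul, map_inv, map_pow]
      exact hx.symm
    have hk : θ ⁅b, a⁆ = 1 := comm_ker hab.symm
    have h2 : θ (a⁻¹ * (t * a * t⁻¹)) = 1 := by
      simp only [map_mul, map_inv]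
      rw [h, inv_mul_cancel]
    obtain ⟨z, hz⟩ : ∃ z, z = a⁻¹ * (t * a * t⁻¹) := ⟨_, rfl⟩
    rw [← hz] at h2
    have h3 : t * a * t⁻¹ = a * z := by rw [hz, mul_inv_cancel_left]
    have h4 := conj_eq_of_eq K.cent h1 (t * a * t⁻¹)
    have h5 : t * b * t⁻¹ * (t * a * t⁻¹) * (t * b * t⁻¹)⁻¹ = ⁅b, a⁆ * (a * z) := by
      calc _ = t * ⁅b, a⁆ * a * t⁻¹ := by rw [commutatorElement_def]; group
        _ = _ := by rw [Nil.cent_comm K.cent hk t, ← h3]; group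
    have h6 : a ^ j.val * b ^ k.val * (t * a * t⁻¹) * (a ^ j.val * b ^ k.val)⁻¹ = ⁅b, a⁆ ^ k.val * (a * z) := by
      have h7 : θ (⁅b, a⁆ ^ k.val) = 1 := by rw [map_pow, hk, one_pow]
      calc _ = a ^ j.val * (b ^ k.val * a * (b ^ k.val)⁻¹) * (a ^ j.val)⁻¹ * z := by
            rw [h3, ← mul_assoc, mul_assoc _ z, ← Nil.cent_comm K.cent h2]; group
        _ = _ := by rw [Nil.cent_conj_pow K.cent hab, ← mul_assoc, Nil.cent_comm K.cent h7]; group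
    rw [h5, h6, mul_left_inj] at h4
    have h7 : ⁅b, a⁆ ≠ 1 := comm_ne (Ne.symm hne)
    have h8 : ∀ k : ZMod 3, k.val = 0 ∨ k = 1 ∨ k.val = 2 := by decide
    rcases h8 k with h9 | h9 | h9
    · exact absurd (by rwa [h9, pow_zero] at h4) h7
    · rw [h9]
    · exact absurd (by rwa [h9, pow_two, left_eq_mul] at h4) h7
  · rw [e01]
    exact SC_of_SS K hs hu
  · rw [e10, eu, hab]
    simp [ee, ZMod.val_one]
  · rw [e01, mul_inv_eq_iff_eq_mul]
    exact cen hb _ (SC_of_SS K hs hu)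
  · rw [e10]
    exact SC_of_SS K hs hv
  · rw [e01, ev, show ((-1, 1) : V) = (2, 1) from rfl]
    have h : (θ a)⁻¹ = θ a ^ 2 := by rw [inv_eq_iff_mul_eq_one, ← pow_succ', a3]
    rw [h, ee, ZMod.val_one, pow_one]
    rfl

/-- the transvections are fixed -/
theorem fix_of {σL : MulAut L} {F : MulAut Y} (hF : ∀ x, θ (σL x) = F (θ x)) (h1 : σL a = a) (h2 : σL b = b)
    (ha : Dt θ a) {v : L} (hv : v ∈ SS a) {i : ℕ} (e : θ v * θ b * (θ v)⁻¹ = θ a ^ i * θ b) : F (θ v) = θ v := by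
  have h3 : θ (v * b * v⁻¹ * (a ^ i * b)⁻¹) = 1 := by
    simp only [map_mul, map_inv, map_pow]
    rw [e, mul_inv_cancel]
  obtain ⟨n, hn⟩ := K.gen _ _ (comm_ker hab) (comm_ne hne) h3
  have h4 : σL (v * b * v⁻¹) = v * b * v⁻¹ := by
    rw [mul_inv_eq_iff_eq_mul.1 hn, map_mul, map_mul, map_pow, map_pow, map_commutatorElement, h1, h2]
  rw [map_mul, map_mul, map_inv, h2] at h4
  have h5 := map_mem_SS σL hv
  rw [h1] at h5
  have h7 := ha.fix' K hab hne (mul_mem (inv_mem hv) h5) (by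
    calc v⁻¹ * σL v * b = v⁻¹ * (σL v * b * (σL v)⁻¹) * σL v := by group
      _ = _ := by rw [h4]; group)
  rw [map_mul, map_inv, hF, inv_mul_eq_one] at h7
  exact h7.symm

/-- **the configuration consists of fixed points** -/
theorem exists_cf_fix (hs : Function.Surjective θ) (ha : Ds θ a) (hb : Ds θ b) {Q : Subgroup Y}
    (hQ : ∀ y, y ∈ Q ↔ ∃ i j : ℕ, y = θ a ^ i * θ b ^ j) {σL : MulAut L} {F : MulAut Y}
    (hF : ∀ x, θ (σL x) = F (θ x)) (h1 : σL a = a) (h2 : σL b = b) :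
    ∃ e u v, Cf Q e u v ∧ ∀ x ∈ NN Q, F x = x := by
  obtain ⟨u, hu, v, hv, C⟩ := exists_cf K hab hne hs ha hb hQ
  have e10 : ee (θ a) (θ b) (1, 0) = θ a := by simp [ee, ZMod.val_one]
  have e01 : ee (θ a) (θ b) (0, 1) = θ b := by simp [ee, ZMod.val_one]
  have fu : F (θ u) = θ u := fix_of K hab.symm (Ne.symm hne) hF h2 h1 hb.dt hu (i := 1) (by
    have h := C.ua
    rw [e10] at h
    rw [h, pow_one, hab]
    simp [ee, ZMod.val_one])
  have fv : F (θ v) = θ v := fix_of K hab hne hF h1 h2 ha.dt hv (i := 2) (by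
    have h := C.vb
    rw [e01] at h
    rw [h, show ((-1, 1) : V) = (2, 1) from rfl, ee, ZMod.val_one, pow_one]
    rfl)
  have fw : ∀ w, F (ev (θ u) (θ v) w) = ev (θ u) (θ v) w := fun w => by
    induction w with
    | nil => exact map_one F
    | cons c w ih => cases c <;> simp only [ev, map_mul, fu, fv, ih]
  refine ⟨_, _, _, C, fun x hx => ?_⟩
  obtain ⟨w, hw⟩ := C.NN_le_N0 hx
  obtain ⟨i, j, h⟩ := (hQ _).1 hw
  rw [inv_mul_eq_iff_eq_mul.1 h, map_mul, map_mul, map_pow, map_pow, fw, ← hF, ← hF, h1, h2]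

end Cfsg.Agent.TO.E6N
end

-- part: TO/E6N/Blk
section
/-!
# S4817, `E₆`, `p = 3`, nontoral planes (helper28): the block side
-/

set_option autoImplicit false
set_option linter.unusedSectionVars false

namespace Cfsg.Agent.TO.E6N

open Cfsg Subgroup
open scoped commutatorElement

variable {G : Type} [Group G] [Finite G] {M : Ideal AlgInt} {b : Set (IrrCharacter G)} {D : Subgroup G}
  {S : Type} [Group S] {σ : G →* S} {Y : Type} [Group Y] {ι : S →* Y} {e : V → Y} {u v : Y}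

local instance : Fact (Nat.Prime 3) := ⟨Nat.prime_three⟩

section

variable (H : Hyp 3 M b D σ) (hι : Function.Injective ι)
include H hι

omit [Finite G] in
theorem cent_of {x y : G} (h : ι (σ x) = ι (σ y)) : x⁻¹ * y ∈ center G := by
  rw [← H.ker, MonoidHom.mem_ker, map_mul, map_inv, hι h, inv_mul_cancel]

/-- two `3`-elements with the same image -/
theorem eq_of {x y : G} (hx : PElt 3 x) (hy : PElt 3 y) (h : ι (σ x) = ι (σ y)) : x = y := by
  have h1 := cent_of H hι h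
  obtain ⟨m, hm⟩ := pElt_iff.1 hx
  obtain ⟨n, hn⟩ := pElt_iff.1 hy
  have hc : Commute x (x⁻¹ * y) := mem_center_iff.1 h1 x
  have h2 : (x⁻¹ * y) ^ 3 ^ (m + n) = 1 := by
    have h3 : y ^ 3 ^ (m + n) = 1 := by rw [add_comm, pow_add, pow_mul, hn, one_pow]
    have h4 : x ^ 3 ^ (m + n) = 1 := by rw [pow_add, pow_mul, hm, one_pow]
    have h5 := hc.mul_pow (3 ^ (m + n))
    rwa [mul_inv_cancel_left, h3, h4, one_mul, eq_comm] at h5
  have h3 : orderOf (x⁻¹ * y) ∣ Nat.card (center G) := by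
    rw [← orderOf_mk _ h1]
    exact _root_.orderOf_dvd_natCard _
  have h4 : orderOf (x⁻¹ * y) = 1 := Nat.eq_one_of_dvd_coprimes
    (Nat.Coprime.pow_left _ ((Nat.Prime.coprime_iff_not_dvd Nat.prime_three).2 H.zp)) (orderOf_dvd_of_pow_eq_one h2) h3
  exact inv_mul_eq_one.1 (orderOf_eq_one_iff.1 h4)

theorem pD {d : G} (hd : d ∈ D) : PElt 3 d := pElt_of_mem (BHZ.Nil.isPGroup_defect H.hD) hd

theorem memD {x : G} (hx : PElt 3 x) (h : ι (σ x) ∈ (D.map σ).map ι) : x ∈ D := by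
  obtain ⟨_, ⟨d, hd, rfl⟩, h⟩ := h
  exact eq_of H hι (pD H hι hd) hx h ▸ hd

omit H hι [Finite G] in
theorem memQ {x : G} (h : x ∈ D) : ι (σ x) ∈ (D.map σ).map ι := ⟨_, ⟨x, h, rfl⟩, rfl⟩

omit H hι [Finite G] in
theorem pElt_aut (α : MulAut G) {x : G} (h : PElt 3 x) : PElt 3 (α x) := by
  obtain ⟨k, hk⟩ := h
  exact ⟨k, by rw [← hk]; exact α.orderOf_eq x⟩

theorem cen_iff {g : G} : g ∈ Ce D ↔ ι (σ g) ∈ centralizer (((D.map σ).map ι : Subgroup Y) : Set Y) := by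
  refine ⟨fun h => mem_centralizer_iff.2 ?_, fun h => mem_centralizer_iff.2 fun d hd => ?_⟩
  · rintro _ ⟨_, ⟨d, hd, rfl⟩, rfl⟩
    rw [← map_mul, ← map_mul, ← map_mul, ← map_mul, mem_centralizer_iff.1 h d hd]
  · refine (mul_inv_eq_iff_eq_mul.1 (eq_of H hι (pElt_aut (MulAut.conj g) (pD H hι hd)) (pD H hι hd) ?_)).symm
    simp only [map_mul, map_inv]
    rw [← mem_centralizer_iff.1 h _ (memQ hd), mul_inv_cancel_right]

theorem aut_iff {γ : MulAut G} {β : MulAut Y} (h : ∀ g, ι (σ (γ g)) = β (ι (σ g))) :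
    (∀ x, γ x ∈ D ↔ x ∈ D) ↔ ∀ y, β y ∈ (D.map σ).map ι ↔ y ∈ (D.map σ).map ι := by
  refine ⟨fun h1 y => ⟨?_, ?_⟩, fun h1 x => ⟨fun h2 => ?_, fun h2 => ?_⟩⟩
  · rintro ⟨_, ⟨d, hd, rfl⟩, h2⟩
    obtain ⟨d, rfl⟩ := γ.surjective d
    rw [h] at h2
    exact β.injective h2 ▸ memQ ((h1 d).1 hd)
  · rintro ⟨_, ⟨d, hd, rfl⟩, rfl⟩
    rw [← h]
    exact memQ ((h1 d).2 hd)
  · refine memD H hι ?_ ((h1 _).1 (h x ▸ memQ h2))
    simpa using pElt_aut γ⁻¹ (pD H hι h2)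
  · exact memD H hι (pElt_aut γ (pD H hι h2)) (h x ▸ (h1 _).2 (memQ h2))

theorem norm_iff {g : G} : g ∈ normalizer (D : Set G) ↔
    ι (σ g) ∈ normalizer (((D.map σ).map ι : Subgroup Y) : Set Y) := by
  have h := aut_iff H hι (γ := MulAut.conj g) (β := MulAut.conj (ι (σ g))) fun x => by simp only [_root_.MulAut.conj_apply, _root_.map_mul, _root_.map_inv]
  rw [mem_normalizer_iff, mem_normalizer_iff]
  exact ⟨fun h1 y => (h.1 (fun x => (h1 x).symm) y).symm, fun h1 x => (h.2 (fun y => (h1 y).symm) x).symm⟩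

theorem ne_one {d : G} (hd : d ∈ D) (h : d ≠ 1) : ι (σ d) ≠ 1 := fun h1 =>
  h (eq_of H hι (pD H hι hd) (pD H hι (one_mem D)) (by rw [h1, map_one, map_one]))

variable (C : Cf ((D.map σ).map ι) e u v)
include C

theorem ab : D ≤ Ce D := fun _ hd => (cen_iff H hι).2 (mem_centralizer_iff.2 fun _ hy => C.comm hy (memQ hd))

theorem card9 : Nat.card D = 9 := by
  rw [← C.card, card_map_of_injective hι]
  exact Nat.card_eq_of_bijective _ ⟨H.injD, σ.subgroupMap_surjective D⟩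

theorem cube {t d : G} (ht : t ∈ normalizer (D : Set G)) (hd : d ∈ D) (h1 : d ≠ 1) (h2 : t * d * t⁻¹ = d) :
    t ^ 3 ∈ Ce D := by
  rw [cen_iff H hι, map_pow, map_pow]
  refine C.cube_cen ((norm_iff H hι).1 ht) (memQ hd) (ne_one H hι hd h1) ?_
  have h3 := congrArg (fun x => ι (σ x)) h2
  simpa only [map_mul, map_inv] using h3

theorem trans (hc : ∀ x ∈ NN ((D.map σ).map ι), ∀ y ∈ NN ((D.map σ).map ι), ⁅x, y⁆ ∈ ι.range) {d d' : G} (hd : d ∈ D)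
    (hd' : d' ∈ D) (h1 : d ≠ 1) (h2 : d' ≠ 1) : ∃ k : G, ι (σ k) ∈ NN ((D.map σ).map ι) ∧ k * d * k⁻¹ = d' := by
  obtain ⟨_, ⟨k, rfl⟩, h3, h4⟩ := C.trans (map_le_range ι _) hc (memQ hd) (memQ hd') (ne_one H hι hd h1)
    (ne_one H hι hd' h2)
  obtain ⟨k, rfl⟩ := H.surj k
  refine ⟨k, h3, eq_of H hι (pElt_aut (MulAut.conj k) (pD H hι hd)) (pD H hι hd') ?_⟩
  simpa only [MulAut.conj_apply, map_mul, map_inv] using h4

/-- **trivial centre** -/
theorem false_inj (hσ : Function.Injective σ)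
    (hc : ∀ x ∈ NN ((D.map σ).map ι), ∀ y ∈ NN ((D.map σ).map ι), ⁅x, y⁆ ∈ ι.range)
    (ext : ∀ α : MulAut S, ∃ β : MulAut Y, ∀ s, ι (α s) = β (ι s)) : False := by
  obtain ⟨θ, hθ⟩ := blk.can0 G 3 M b D H.hM H.hb H.hD (ab H hι C)
  refine blk.q8b G M b D θ H.toTwo hθ (card9 H hι C) (fun t ht h3 d hd h1 h2 => ?_)
    ((NN ((D.map σ).map ι)).comap (ι.comp σ)) ⟨fun α hα x hx => ?_, fun x hx hx' => ?_⟩ fun d hd d' hd' h1 h2 => ?_
  · have h4 := cube H hι C ht hd h1 h2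
    obtain ⟨m, hm⟩ := exists_pow_eq_self_of_coprime (x := t) ((Nat.Prime.coprime_iff_not_dvd Nat.prime_three).2 h3)
    exact hm ▸ pow_mem h4 m
  · obtain ⟨α', -, h1⟩ := H.exists_ind (hθ.le_Stab hα)
    obtain ⟨β, h2⟩ := ext α'
    have h3 : ∀ g, ι (σ (α g)) = β (ι (σ g)) := fun g => by rw [h1, h2]
    show ι (σ (α x)) ∈ NN _
    rw [h3]
    exact map_NN ((aut_iff H hι h3).1 hα.1) hx
  · obtain ⟨_, ⟨d, hd, rfl⟩, h⟩ := C.mem_of_cen hx ((cen_iff H hι).1 hx')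
    exact hσ (hι h) ▸ hθ.triv d hd
  · obtain ⟨k, h3, h4⟩ := trans H hι C hc hd hd' h1 h2
    exact ⟨k, h3, (norm_iff H hι).2 (NN_le _ h3), h4⟩

omit C in
theorem aut_eq {γ γ' : MulAut G} (h : ∀ g, ι (σ (γ g)) = ι (σ (γ' g))) : γ = γ' :=
  R2.RkInt.eq_of_perfect ⟨H.perf⟩ _ _ fun g => cent_of H hι (h g).symm

omit H hι C in
/-- an automorphism which normalises `D` and fixes the `3`-regular elements of `C(D)` -/
theorem mem_LA_of {θ : G → ℂ} (hθ : Can 3 M b D θ) {γ : MulAut G} (h1 : ∀ x, γ x ∈ D ↔ x ∈ D)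
    (h2 : ∀ c ∈ Ce D, ¬ 3 ∣ orderOf c → γ c = c) : γ ∈ LA D θ := by
  have P := blk.can1 G 3 M b D θ hθ
  refine ⟨h1, fun g => ?_⟩
  by_cases hg : g ∈ Ce D
  · obtain ⟨x, y, y1, y2, ⟨k, y3⟩, y4⟩ := Blocks.PPart.exists_isPPart 3 (⟨g, hg⟩ : Ce D)
    have e1 : (x : G) * y = g := congrArg Subtype.val y1
    have e2 : ¬ 3 ∣ orderOf (y : G) := by rwa [orderOf_coe]
    have e3 : IsPPart 3 g x := ⟨y, e1, congrArg Subtype.val y2.eq, ⟨k, by rw [orderOf_coe, y3]⟩, e2⟩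
    by_cases hx : (x : G) ∈ D
    · rw [← e1, map_mul, h2 y y.2 e2, P.mul _ hx, P.mul _ ((h1 _).2 hx)]
    · rw [P.van _ _ e3 hx]
      exact P.van _ _ (Blocks.PPart.isPPart_map γ.toMonoidHom γ.injective e3) fun h => hx ((h1 _).1 h)
  · rw [hθ.zero g hg, hθ.zero _ fun h => hg ((LA_Ce h1 g).1 h)]

/-- **the diagonal automorphisms stabilise the block** -/
theorem false_two (h2 : Nat.card (center G) ∣ 2)
    (hc : ∀ x ∈ NN ((D.map σ).map ι), ∀ y ∈ NN ((D.map σ).map ι), ⁅x, y⁆ ∈ ι.range)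
    (hl : ∀ w ∈ NN ((D.map σ).map ι), ∃ α ∈ Ind σ b, ∀ s, ι (α s) = w * ι s * w⁻¹)
    (h12 : (Inn S).relIndex (Ind σ b) ∣ 12) (h6 : ∀ β ∈ Ind σ b, β ^ 6 ∈ Inn S) : False := by
  obtain ⟨θ, hθ⟩ := blk.can0 G 3 M b D H.hM H.hb H.hD (ab H hι C)
  have hz : ∀ z ∈ center G, z ^ 2 = 1 := fun z hz => by
    have h := pow_card_eq_one' (x := (⟨z, hz⟩ : center G))
    obtain ⟨m, hm⟩ := h2
    rw [hm, pow_mul]
    have h' : z ^ Nat.card (center G) = 1 := congrArg Subtype.val h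
    rw [h', one_pow]
  let Λ : Subgroup Y :=
    { carrier := {w | ∃ γ ∈ LA D θ, ∀ g, ι (σ (γ g)) = w * ι (σ g) * w⁻¹}
      one_mem' := ⟨1, one_mem _, fun g => by simp⟩
      mul_mem' := by
        rintro w w' ⟨γ, h1, h3⟩ ⟨γ', h4, h5⟩
        exact ⟨γ * γ', mul_mem h1 h4, fun g => by rw [MulAut.mul_apply, h3, h5]; group⟩
      inv_mem' := by
        rintro w ⟨γ, h1, h3⟩
        refine ⟨γ⁻¹, inv_mem h1, fun g => ?_⟩
        have h4 := h3 (γ⁻¹ g)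
        rw [MulAut.apply_inv_self] at h4
        rw [h4]
        group }
  have hΛ : NN ((D.map σ).map ι) ≤ Λ := (closure_le _).2 fun s ⟨s1, d, d1, d2, s2⟩ => by
    have s3 : s ∈ NN ((D.map σ).map ι) := subset_closure ⟨s1, d, d1, d2, s2⟩
    obtain ⟨α, ⟨γ, -, h3⟩, h4⟩ := hl s s3
    have h5 : ∀ g, ι (σ (γ g)) = s * ι (σ g) * s⁻¹ := fun g => by rw [h3, h4]
    have h6 : ∀ x, γ x ∈ D ↔ x ∈ D :=
      (aut_iff H hι (β := MulAut.conj s) h5).2 fun y => (mem_normalizer_iff.1 s1 y).symm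
    refine ⟨γ, mem_LA_of hθ h6 fun c hc h7 => ?_, h5⟩
    -- the order of `s` divides `9`
    have h8 : s * d * s⁻¹ = d := by
      obtain ⟨k, -, -, rfl⟩ := C.trans (K := ⊤) le_top (fun _ _ _ _ => trivial) (C.mem' (1, 0)) d1 (C.ne (by decide)) d2
      have h9 := conj_SC k⁻¹ s2
      rw [show k⁻¹ * (k * e (1, 0) * k⁻¹) * k⁻¹⁻¹ = e (1, 0) by group] at h9
      calc s * (k * e (1, 0) * k⁻¹) * s⁻¹ = k * (k⁻¹ * s * k⁻¹⁻¹ * e (1, 0)) * k⁻¹ * s⁻¹ := by group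
        _ = _ := by rw [C.cen _ h9]; group
    have h9 : s ^ 9 = 1 := by
      obtain ⟨x, hx⟩ := (C.mem _).1 (C.mem_of_cen (pow_mem s3 3) (C.cube_cen s1 d1 d2 h8))
      rw [show 9 = 3 * 3 from rfl, pow_mul, ← hx, pow_succ, pow_two, ← C.add, ← C.add,
        (by decide : ∀ x : V, x + x + x = 0), C.zero]
    have h10 : ∀ n : ℕ, ∀ g, ι (σ ((γ ^ n) g)) = s ^ n * ι (σ g) * (s ^ n)⁻¹ := fun n => by
      induction n with
      | zero => simp
      | succ n ih =>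
        intro g
        rw [pow_succ, MulAut.mul_apply, ih, h5, pow_succ]
        group
    have h11 : γ ^ 9 = 1 := aut_eq H hι fun g => by rw [h10, h9]; simp
    obtain ⟨m, hm⟩ := exists_pow_eq_self_of_coprime (x := c) ((Nat.Prime.coprime_iff_not_dvd Nat.prime_three).2 h7)
    have h13 : ι (σ c) = ι (σ (γ c)) := by
      have h14 := cube_comm ((cen_iff H hι).1 (pow_mem hc m)) s3
      rw [← map_pow, ← map_pow, ← pow_mul, mul_comm, pow_mul, hm] at h14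
      rw [h5, ← h14, mul_inv_cancel_right]
    have h14 := cent_of H hι h13
    obtain ⟨ζ, hζ⟩ : ∃ ζ, ζ = c⁻¹ * γ c := ⟨_, rfl⟩
    rw [← hζ] at h14
    have h15 : γ c = c * ζ := by rw [hζ, mul_inv_cancel_left]
    have h16 : γ ζ = ζ := by
      by_cases h : ζ = 1
      · rw [h, map_one]
      · have hcard : Nat.card (center G) ≤ 2 := Nat.le_of_dvd two_pos h2
        by_contra h'
        have h17 : (3 : ℕ) ≤ Nat.card (center G) := by
          have h18 : γ ζ ≠ 1 := fun h18 => h (γ.map_eq_one_iff.1 h18)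
          have h19 := Set.ncard_le_ncard (s := {1, ζ, γ ζ}) (t := (center G : Set G)) (by
            rintro _ (rfl | rfl | rfl)
            exacts [one_mem _, h14, aut_center γ h14])
          rwa [Set.ncard_eq_three.2 ⟨_, _, _, Ne.symm h, Ne.symm h18, Ne.symm h', rfl⟩] at h19
        omega
    have h17 : ∀ n : ℕ, (γ ^ n) c = c * ζ ^ n := fun n => by
      induction n with
      | zero => simp
      | succ n ih => rw [pow_succ', MulAut.mul_apply, ih, map_mul, map_pow, h15, h16, pow_succ', mul_assoc]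
    have h18 := h17 9
    rw [h11, MulAut.one_apply, left_eq_mul, show 9 = 2 * 4 + 1 from rfl, pow_succ, pow_mul, hz ζ h14, one_pow,
      one_mul] at h18
    rw [h15, h18, mul_one]
  refine blk.q8c G M b D θ S σ H hθ (card9 H hι C) ⟨fun d hd d' hd' h1 h3 => ?_, fun t ht d hd h1 h3 => ?_⟩ h12 h6
  · obtain ⟨k, h4, h5⟩ := trans H hι C hc hd hd' h1 h3
    obtain ⟨γ, h7, h8⟩ := hΛ h4
    have h9 : γ = MulAut.conj k := aut_eq H hι fun g => by rw [h8]; simp only [_root_.MulAut.conj_apply, _root_.map_mul, _root_.map_inv]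
    exact ⟨k, show MulAut.conj k ∈ LA D θ from h9 ▸ h7, h5⟩
  · exact hθ.mem_Ce_of_pow ht (k := 1) (by rw [pow_one]; exact cube H hι C (In_le_norm ht) hd h1 h3)

end

end Cfsg.Agent.TO.E6N
end

-- part: TO/E6N/Main
section
/-!
# S4817, `E₆`, `p = 3`, nontoral planes (helper28): `nonT`
-/

set_option autoImplicit false
set_option linter.unusedSectionVars false

namespace Cfsg.Agent.TO.E6N

open Cfsg Cfsg.Lie Subgroup Cfsg.Agent.BHZ Cfsg.Agent.BHZ.Exc Cfsg.Agent.BHZ.Exc.DT Cfsg.Agent.TO.E6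
open Cfsg.Agent.Nodes Cfsg.Agent.DS.Nt Cfsg.Agent.DL.Ex Cfsg.Agent.KFacts.RgdField Cfsg.Agent.BpExc.TowChev
open Cfsg.Agent.KFacts.RgdChevCoord Cfsg.Agent.BpExc
open Cfsg.Agent.H469.Exc (KK)
open Cfsg.Agent.DS.Ex (YY hpE6)
open Cfsg.Agent.H720.TwFr (rho6)
open scoped commutatorElement

variable {r : ℕ} [hr : Fact r.Prime]

section Cover

variable {L : Type} [Group L] {θ : L →* YY chevE6 r} {z : L}

theorem ds_std (h3 : r ≠ 3) (C : Cov6 θ z) {ζ : KK r} {x : L} (h : StdD ζ (θ x)) : Ds θ x := by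
  refine ⟨dt_std boxTY2 h3 C h, fun u hu => (mem_SS_iff C.toCov (cop3 h3) h.2.1 (StdD.pow h)).2 ?_⟩
  have hT : θ u ∈ TT chevE6 (KK r) := mem_T_of_comm hpE6 fun s hs => by
    obtain ⟨s', h1, rfl⟩ := exists_root' hpE6 hs three_ne_zero
    exact (mem_SC.1 hu s' (T_comm hpE6 h1 h.2.1)).symm
  refine ⟨hT, fun a ha => cX_eq_one_of_comm hT ha.1 one_ne_zero ?_⟩
  obtain ⟨m, hm⟩ := exists_pow_eq_self_of_coprime (n := 3) (x := xc hpE6 a (1 : KK r))
    ((cop3 h3).symm.coprime_dvd_right (orderOf_dvd_of_pow_eq_one (xc_pow a 1)))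
  have h1 : Commute (xc hpE6 a (1 : KK r)) (θ x) :=
    Mz_comm (Set.singleton_subset_iff.2 h.2.1) (X_le_Mz ha (xc_mem ha.1 1)) rfl
  have h2 := mem_SC.1 hu _ (h1.pow_left m).eq
  rw [← pow_mul, mul_comm m, pow_mul, hm] at h2
  exact h2.symm

theorem ds_of (h3 : r ≠ 3) (C : Cov6 θ z) {x : L} (h : TypD (θ x)) : Ds θ x := by
  obtain ⟨g, ζ, h⟩ := h
  obtain ⟨w, rfl⟩ := C.surj g
  exact Ds.of_conj (w := w) (ds_std h3 C (ζ := ζ) (by rwa [map_mul, map_mul, map_inv]))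

theorem typA_conj {x : YY chevE6 r} (h : TypA x) (w : YY chevE6 r) : TypA (w * x * w⁻¹) := by
  obtain ⟨g, ζ, h⟩ := h
  exact ⟨g * w⁻¹, ζ, by rwa [show g * w⁻¹ * (w * x * w⁻¹) * (g * w⁻¹)⁻¹ = g * x * g⁻¹ by group]⟩

theorem not_DZ (h3 : r ≠ 3) (C : Cov6 θ z) {a b : L} (hne : b * a ≠ a * b) (w : L)
    (hw : θ w * θ a * (θ w)⁻¹ ∈ TT chevE6 (KK r)) : θ w * θ b * (θ w)⁻¹ ∉ DZ hpE6 r {θ w * θ a * (θ w)⁻¹} := fun h => by
  rw [← map_inv, ← map_mul, ← map_mul] at hw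
  rw [← map_inv, ← map_mul, ← map_mul, ← map_mul, ← map_mul] at h
  have h1 := comm_of_DZ_one C.toCov (cop3 h3) hw h
  rw [conj_mul, conj_mul, mul_left_inj, mul_right_inj] at h1
  exact hne h1

theorem typ_or (h3 : r ≠ 3) (C : Cov6 θ z) {a b : L} (ha : θ a ^ 3 = 1) (hab : θ b * θ a = θ a * θ b)
    (hne : b * a ≠ a * b) : TypA (θ a) ∨ TypD (θ a) := by
  obtain ⟨g, hg⟩ := exists_conj_T hpE6 (x := θ a) Nat.prime_three h3.symm (n := 1) (show θ a ^ 3 = 1 from ha)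
  obtain ⟨w, rfl⟩ := C.surj g
  have e : (θ w)⁻¹ * (θ w * θ a * (θ w)⁻¹) * (θ w)⁻¹⁻¹ = θ a := by group
  rcases boxTY1 r h3 _ hg (by rw [conj_pow, ha, mul_one, mul_inv_cancel]) _ (by rw [conj_mul, conj_mul, hab])
    (not_DZ h3 C hne w hg) with h | h
  · exact Or.inl (e ▸ typA_conj h _)
  · exact Or.inr (e ▸ TypD.conj h _)

theorem not_allA (hA : NoA) (h3 : r ≠ 3) (C : Cov6 θ z) {a b : L} (hb : θ b ^ 3 = 1) (hab : θ b * θ a = θ a * θ b)
    (hne : b * a ≠ a * b) (h1 : TypA (θ a)) (h2 : TypA (θ b)) (h4 : TypA (θ a * θ b)) (h5 : TypA (θ a * θ a * θ b)) :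
    False := by
  obtain ⟨g, ζ, h⟩ := h1
  obtain ⟨w, rfl⟩ := C.surj g
  refine hA r h3 ζ _ _ h (by rw [conj_mul, conj_mul, hab]) (not_DZ h3 C hne w h.2.1)
    (by rw [conj_pow, hb, mul_one, mul_inv_cancel]) (typA_conj h2 _) ?_ ?_
  · rw [conj_mul]
    exact typA_conj h4 _
  · rw [conj_mul, conj_mul]
    exact typA_conj h5 _

end Cover

variable {S : Type} [Group S] (Γ : St r S)

theorem ext_aut (α : MulAut S) : ∃ β : MulAut (YY chevE6 r), ∀ s, Γ.s.ι (α s) = β (Γ.s.ι s) := by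
  obtain ⟨g, -, β, -, -, -, h⟩ := Γ.s.aut α
  exact ⟨MulAut.conj g * β, h⟩

theorem inn_le : Inn S ≤ Γ.Dg := by
  rintro _ ⟨x, rfl⟩
  exact ⟨Γ.s.ι x, Γ.fix x, fun a => by simp only [_root_.MulAut.conj_apply, _root_.map_mul, _root_.map_inv]⟩

theorem mem_inn {α : MulAut S} {g : YY chevE6 r} (h : ∀ a, Γ.s.ι (α a) = g * Γ.s.ι a * g⁻¹) (hg : g ∈ Γ.s.ι.range) :
    α ∈ Inn S := by
  obtain ⟨x, rfl⟩ := hg
  exact ⟨x, MulEquiv.ext fun a => Γ.inj (by rw [h]; simp only [_root_.MulAut.conj_apply, _root_.map_mul, _root_.map_inv])⟩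

theorem pow_act {α : MulAut S} {g : YY chevE6 r} (h : ∀ a, Γ.s.ι (α a) = g * Γ.s.ι a * g⁻¹) (n : ℕ) (a : S) :
    Γ.s.ι ((α ^ n) a) = g ^ n * Γ.s.ι a * (g ^ n)⁻¹ := by
  induction n with
  | zero => simp
  | succ n ih =>
    rw [pow_succ', MulAut.mul_apply, h, ih, pow_succ']
    group

/-- all diagonal automorphisms from one of them -/
theorem exists_of {A : Subgroup (MulAut S)} (hA : Inn S ≤ A) {α : MulAut S} (h1 : α ∈ A) {g : YY chevE6 r}
    (hg : Γ.X.F g = g) (h : ∀ a, Γ.s.ι (α a) = g * Γ.s.ι a * g⁻¹) (hn : g ∉ Γ.s.ι.range) {w : YY chevE6 r}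
    (hw : Γ.X.F w = w) : ∃ β ∈ A, ∀ a, Γ.s.ι (β a) = w * Γ.s.ι a * w⁻¹ := by
  obtain ⟨n, x, hx⟩ := Γ.exists_zpow hg hn hw
  obtain ⟨y, hy⟩ := Γ.cube hg
  obtain ⟨m, hm⟩ := Int.eq_ofNat_of_zero_le (Int.emod_nonneg n three_ne_zero)
  have e : w = Γ.s.ι (x * y ^ (n / 3)) * g ^ m := by
    rw [map_mul, map_zpow, hx, hy, ← zpow_natCast, ← zpow_natCast, ← hm, ← zpow_mul, mul_assoc, ← zpow_add]
    rw [show ((3 : ℕ) : ℤ) * (n / 3) + n % 3 = n from Int.mul_ediv_add_emod n 3, inv_mul_cancel_right]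
  refine ⟨MulAut.conj (x * y ^ (n / 3)) * α ^ m, mul_mem (hA ⟨_, rfl⟩) (pow_mem h1 m), fun a => ?_⟩
  rw [MulAut.mul_apply, MulAut.conj_apply, map_mul, map_mul, map_inv, pow_act Γ h, e]
  group

theorem relIndex_Dg : (Inn S).relIndex Γ.Dg ∣ 3 := by
  by_cases h : Γ.Dg ≤ Inn S
  · rw [relIndex_eq_one.2 h]
    exact one_dvd _
  obtain ⟨α, ⟨g, hg, h1⟩, h2⟩ := SetLike.not_le_iff_exists.1 h
  let π := QuotientGroup.mk' ((Inn S).subgroupOf Γ.Dg)
  have h3 : ∀ x, x ∈ zpowers (π ⟨α, g, hg, h1⟩) := fun x => by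
    obtain ⟨⟨β, w, hw, h4⟩, rfl⟩ := QuotientGroup.mk'_surjective _ x
    obtain ⟨γ, h5, h6⟩ := exists_of Γ (A := ((zpowers (π ⟨α, g, hg, h1⟩)).comap π).map Γ.Dg.subtype)
      (fun y hy => ⟨⟨y, inn_le Γ hy⟩, by
        rw [SetLike.mem_coe, mem_comap, show π ⟨y, inn_le Γ hy⟩ = 1 from (QuotientGroup.eq_one_iff _).2 hy]
        exact one_mem _, rfl⟩) ⟨⟨α, g, hg, h1⟩, mem_zpowers _, rfl⟩ hg h1 (fun h => h2 (mem_inn Γ h1 h)) hw
    obtain ⟨γ, h7, rfl⟩ := h5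
    have h8 : γ = ⟨β, w, hw, h4⟩ := Subtype.ext (MulEquiv.ext fun a => Γ.inj ((h6 a).trans (h4 a).symm))
    exact h8 ▸ h7
  rw [relIndex, index, ← orderOf_eq_card_of_forall_mem_zpowers h3]
  refine orderOf_dvd_of_pow_eq_one ?_
  rw [← map_pow]
  exact (QuotientGroup.eq_one_iff _).2 (mem_inn Γ (pow_act Γ h1 3) (Γ.cube hg))

theorem index_Dg (hq : r ^ Γ.e = 2) (hπ : Γ.π = rho6) : Γ.Dg.index ∣ 2 := by
  have he : Γ.e = 1 := ((Nat.Prime.pow_eq_iff Nat.prime_two).1 hq).2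
  have h1 : ∀ (i j : ℕ) (y : YY chevE6 r), frobA hpE6.inList r (i + j) y =
      frobA hpE6.inList r i (frobA hpE6.inList r j y) := fun i j y => by
    rw [frobA_apply, frobA_apply, frobA_apply, emb_comp, iterateFrobenius_add]
  have h2 : ∀ a, frobA hpE6.inList r 2 (Γ.s.ι a) = Γ.s.ι a := fun a => by
    have h := Γ.sq hπ
    rw [he] at h
    rw [← h, pow_two, MulAut.mul_apply, Γ.fix, Γ.fix]
  have h4 : ∀ j : ℕ, (∀ a, frobA hpE6.inList r j (Γ.s.ι a) = Γ.s.ι a) ∨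
      ∀ a, frobA hpE6.inList r j (Γ.s.ι a) = frobA hpE6.inList r 1 (Γ.s.ι a) := fun j => by
    induction j using Nat.twoStepInduction with
    | zero =>
      refine Or.inl fun a => (frobA hpE6.inList r 2).injective ?_
      rw [← h1]
    | one => exact Or.inr fun _ => rfl
    | more n ih _ => simpa only [h1, h2] using ih
  have h5 : ∀ α, α ∉ Γ.Dg → ∃ g, Γ.X.F g = g ∧ ∀ a, Γ.s.ι (α a) = g * frobA hpE6.inList r 1 (Γ.s.ι a) * g⁻¹ :=
    fun α hα => by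
      obtain ⟨g, hg, j, h⟩ := Γ.tw hπ α
      rcases h4 j with h6 | h6
      · exact absurd ⟨g, hg, fun a => by rw [h, h6]⟩ hα
      · exact ⟨g, hg, fun a => by rw [h, h6]⟩
  by_cases h : ∀ α, α ∈ Γ.Dg
  · exact index_dvd_two_iff.2 ⟨1, fun β => Or.inr (h β)⟩
  obtain ⟨α, hα⟩ := not_forall.1 h
  refine index_dvd_two_iff.2 ⟨α⁻¹, fun β => or_iff_not_imp_right.2 fun hβ => ?_⟩
  obtain ⟨g, g1, g2⟩ := h5 α hα
  obtain ⟨k, k1, k2⟩ := h5 β hβ
  refine ⟨k * g⁻¹, by rw [map_mul, map_inv, g1, k1], fun a => ?_⟩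
  have h6 := g2 (α⁻¹ a)
  rw [MulAut.apply_inv_self] at h6
  rw [MulAut.mul_apply, k2, h6]
  group

/-- **[NonT]** -/
theorem nonT (hA : NoA) (hT : SameT) : NonT := by
  intro r _ S _ Γ G _ _ σ M b D H hN
  obtain ⟨z, C⟩ := boxCovII r Γ.h3
  have K := k3 C
  have P := blk.pure G 3 M b D S σ H
  have hS : commutator S = ⊤ := by
    rw [commutator_def, ← map_top_of_surjective σ H.surj, ← map_commutator, ← commutator_def, H.perf]
  have : Finite S := Finite.of_surjective σ H.surj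
  -- generators
  have hnt : Nontrivial (D.map σ) := by
    by_contra h
    have := not_nontrivial_iff_subsingleton.1 h
    exact P.nc inferInstance
  have := P.pg.center_nontrivial
  obtain ⟨⟨x, hx⟩, hx1⟩ := exists_ne (1 : center (D.map σ))
  have x1 : (x : S) ≠ 1 := fun h => hx1 (Subtype.ext (Subtype.ext h))
  have xc : ∀ y ∈ D.map σ, y * x = x * y := fun y hy => congrArg Subtype.val (mem_center_iff.1 hx ⟨y, hy⟩)
  obtain ⟨y, hy⟩ : ∃ y : D.map σ, y ∉ zpowers x := by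
    by_contra h
    exact P.nc ⟨x, fun y => not_not.1 fun h1 => h ⟨y, h1⟩⟩
  obtain ⟨a, a1, a2⟩ := Γ.exists_fix hS x
  obtain ⟨c, c1, c2⟩ := Γ.exists_fix hS y
  have hm : ∀ s : D.map σ, Γ.s.ι s ∈ (D.map σ).map Γ.s.ι := fun s => ⟨s, s.2, rfl⟩
  have hab : th6 r c * th6 r a = th6 r a * th6 r c := by rw [a2, c2, ← map_mul, ← map_mul, xc y y.2]
  have a0 : th6 r a ≠ 1 := fun h => x1 (Γ.inj (by rw [← a2, h, map_one]))
  have hne : c * a ≠ a * c := fun h => by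
    rcases hN a c (a2 ▸ hm x) (c2 ▸ hm y) h.symm with h1 | ⟨n, h1⟩
    · exact a0 h1
    · refine hy ⟨n, Subtype.ext (Γ.inj ?_)⟩
      rw [← c2, ← h1]
      simp [a2]
  have hQ : ∀ w, w ∈ (D.map σ).map Γ.s.ι ↔ ∃ i j : ℕ, w = th6 r a ^ i * th6 r c ^ j := fun w => by
    refine ⟨fun hw => ?_, ?_⟩
    · obtain ⟨w, rfl⟩ := C.surj w
      have h1 : th6 r w * th6 r a = th6 r a * th6 r w := by
        obtain ⟨s, hs, e⟩ := hw
        rw [← e, a2, ← map_mul, ← map_mul, xc s hs]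
      obtain ⟨j, hj⟩ := K.gen _ _ (comm_ker hab.symm) (comm_ne hne.symm) (comm_ker h1.symm)
      have h2 : a * ((c ^ j)⁻¹ * w) = (c ^ j)⁻¹ * w * a := by
        have h3 := Nil.cent_conj_pow K.cent hab j
        rw [← hj, commutatorElement_def, inv_mul_cancel_right] at h3
        calc a * ((c ^ j)⁻¹ * w) = (c ^ j)⁻¹ * (c ^ j * a * (c ^ j)⁻¹) * w := by group
          _ = _ := by rw [h3]; group
      have h3 : th6 r ((c ^ j)⁻¹ * w) ∈ (D.map σ).map Γ.s.ι := by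
        rw [map_mul, map_inv, map_pow, c2]
        exact mul_mem (inv_mem (pow_mem (hm y) j)) hw
      rcases hN a _ (a2 ▸ hm x) h3 h2 with h4 | h4
      · exact absurd h4 a0
      · have h5 : IsOfFinOrder (th6 r a) := a2 ▸ Γ.s.ι.isOfFinOrder (isOfFinOrder_of_finite _)
        obtain ⟨i, hi⟩ := h5.mem_powers_iff_mem_zpowers.2 h4
        refine ⟨i, j, ?_⟩
        have h6 : th6 r a ^ i = th6 r ((c ^ j)⁻¹ * w) := hi
        rw [(Commute.pow_pow hab.symm i j).eq, h6, map_mul, map_inv, map_pow, mul_inv_cancel_left]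
    · rintro ⟨i, j, rfl⟩
      exact mul_mem (pow_mem (a2 ▸ hm x) i) (pow_mem (c2 ▸ hm y) j)
  have hab' : D.map σ ≤ Ce (D.map σ) := fun s hs => mem_centralizer_iff.2 fun t ht => Γ.inj (by
    obtain ⟨i, j, h1⟩ := (hQ _).1 (hm ⟨s, hs⟩)
    obtain ⟨i', j', h2⟩ := (hQ _).1 (hm ⟨t, ht⟩)
    have h3 : Commute (th6 r a) (th6 r c) := hab.symm
    rw [map_mul, map_mul, h1, h2]
    exact ((((Commute.refl _).pow_pow _ _).mul_right (h3.pow_pow _ _)).mul_left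
      ((h3.symm.pow_pow _ _).mul_right ((Commute.refl _).pow_pow _ _))).eq)
  have h3 : ∀ s ∈ D.map σ, s ^ 3 = 1 := fun s hs =>
    P.expo s (mem_centralizer_iff.2 fun t ht => ((closure_le (centralizer {s})).2 (fun t ht =>
      mem_centralizer_singleton_iff.2 (mem_centralizer_iff.1 ht.1 s hs).symm) ht : _)
      |> mem_centralizer_singleton_iff.1) (pElt_of_mem P.pg hs)
  have a3 : th6 r a ^ 3 = 1 := by rw [a2, ← map_pow, h3 x x.2, map_one]
  have c3 : th6 r c ^ 3 = 1 := by rw [c2, ← map_pow, h3 y y.2, map_one]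
  have y1 : ∀ n : ℕ, (x : S) ^ n * y ≠ 1 := fun n h => hy (by
    rw [show y = (x ^ n)⁻¹ from Subtype.ext (eq_inv_of_mul_eq_one_right h)]
    exact inv_mem (pow_mem (mem_zpowers x) n))
  have ta : TypD (th6 r a) := (typ_or Γ.h3 C a3 hab hne).resolve_left fun h => by
    have h1 : ∀ n : ℕ, TypA (th6 r a ^ n * th6 r c) := fun n => by
      rw [a2, c2, ← map_pow, ← map_mul]
      exact (hT r S Γ _ _ P x x.2 _ (mul_mem (pow_mem x.2 n) y.2) x1 (y1 n)).1 (a2 ▸ h)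
    exact not_allA hA Γ.h3 C c3 hab hne h (by simpa only [_root_.pow_zero, _root_.one_mul] using h1 0) (by simpa using h1 1) (by simpa [pow_two] using h1 2)
  have tc : TypD (th6 r c) := c2 ▸ (hT r S Γ _ _ P x x.2 y y.2 x1 (by simpa using y1 0)).2 (a2 ▸ ta)
  obtain ⟨e, u, v, Cf, hF⟩ := exists_cf_fix K hab hne C.surj (ds_of Γ.h3 C ta) (ds_of Γ.h3 C tc) hQ Γ.lift a1 c1
  have hc : ∀ x ∈ NN ((D.map σ).map Γ.s.ι), ∀ y ∈ NN ((D.map σ).map Γ.s.ι), ⁅x, y⁆ ∈ Γ.s.ι.range :=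
    fun x hx y hy => Γ.comm_mem (hF x hx) (hF y hy)
  rcases Γ.centre H with h | ⟨q2, hπ, h⟩
  · exact false_inj H Γ.inj Cf ((MonoidHom.ker_eq_bot_iff σ).1 (H.ker.trans h)) hc (ext_aut Γ)
  have i2 := index_Dg Γ q2 hπ
  have i6 : (Inn S).index ∣ 6 := by
    rw [← relIndex_mul_index (inn_le Γ)]
    exact mul_dvd_mul (relIndex_Dg Γ) i2
  by_cases h1 : Γ.Dg ⊓ Ind σ b ≤ Inn S
  · have h2 : (Inn S).relIndex (Ind σ b) = Γ.Dg.relIndex (Ind σ b) := by
      rw [← inf_relIndex_right, ← inf_relIndex_right Γ.Dg]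
      congr 1
      exact le_antisymm (inf_le_inf_right _ (inn_le Γ)) (le_inf h1 inf_le_right)
    have h4 : Γ.Dg.relIndex (Ind σ b) ≤ Γ.Dg.relIndex ⊤ := relIndex_le_of_le_right le_top (by
      rw [relIndex_top_right]
      exact ne_zero_of_dvd_ne_zero two_ne_zero i2)
    rw [relIndex_top_right] at h4
    exact absurd (blk.s1 G 3 M b D S σ H (h2 ▸ h4.trans (Nat.le_of_dvd two_pos i2))).1 (by decide)
  · obtain ⟨α, ⟨⟨g, g1, g2⟩, h2⟩, h4⟩ := SetLike.not_le_iff_exists.1 h1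
    refine false_two H Γ.inj Cf h.dvd hc (fun w hw => exists_of Γ H.inn_le h2 g1 g2
      (fun h5 => h4 (mem_inn Γ g2 h5)) (hF w hw)) (((relIndex_dvd_index_of_normal _ _).trans i6).trans (by decide))
      fun β _ => ?_
    obtain ⟨m, hm⟩ := i6
    rw [hm, pow_mul]
    exact pow_mem (pow_index_mem _ β) m

end Cfsg.Agent.TO.E6N
end

-- part: TO/E6A/Tr
section
/-!
# S4817, `E₆`, `p = 3`: traces on the coset of the connected centralizer of type `A₂³` (helper39)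

* `trace_sum` : `tr b + tr (t b) + tr (t² b) = 0` if `b` permutes the three components;
* `trace_typA` : the elements of type `A₂³` have the trace `-3`.
-/

set_option autoImplicit false
set_option linter.unusedSectionVars false
set_option maxRecDepth 100000

namespace Cfsg.Agent.TO.E6.NA

open Cfsg Cfsg.Lie Matrix Cfsg.Agent.BHZ.Exc Cfsg.Agent.BHZ.Exc.AA
open Cfsg.Agent.Nodes Cfsg.Agent.Nodes.BNOf Cfsg.Agent.Nodes.RGDChev Cfsg.Agent.KFacts.RgdChevCoord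
open Cfsg.Agent.ChevalleyStructure.Columns (car cor xMat_inl_inl xMat_inr_inl xMat_inl_inr xMat_inr_inr)
open Cfsg.Agent.H469.Exc (KK)
open Cfsg.Agent.DS.Ex (YY hpE6)
open Cfsg.Agent.DS.Nt (DZ)
open Cfsg.Agent.H129.TorusChar (cX)

section Rows

variable {F : Type*} [Field F] {D : ChevalleyDatum} {a n s : Fin D.nroots} {u : F} {v : D.Idx → F}

theorem row_inl (hn : n.val = D.neg a) (hna : n ≠ a) (i : Fin D.rank) :
    (D.xMat F a u *ᵥ v) (.inl i) = v (.inl i) + (cor D a i : F) * u * v (.inr n) := by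
  rw [mulVec, dotProduct, Fintype.sum_sum_type, Finset.sum_eq_single i, Finset.sum_eq_single n]
  · rw [xMat_inl_inl, xMat_inl_inr, if_pos rfl, if_neg hna, if_pos (show n.val = D.negIdx.getD a.val 0 from hn), one_mul]
  · intro s _ hs
    rw [xMat_inl_inr, if_neg (show ¬ s.val = D.negIdx.getD a.val 0 from fun e => hs (Fin.ext (e.trans hn.symm))), ite_self,
      zero_mul]
  · exact fun h => absurd (Finset.mem_univ _) h
  · intro j _ hj
    rw [xMat_inl_inl, if_neg hj.symm, zero_mul]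
  · exact fun h => absurd (Finset.mem_univ _) h

theorem row_inr (hn : n.val = D.neg a) (h0 : v (.inr n) = 0) (hc : ∀ s : Fin D.nroots, D.chainCoeff a s a = []) :
    (D.xMat F a u *ᵥ v) (.inr a) = -(u * ∑ i : Fin D.rank, (car D i a : F) * v (.inl i)) + v (.inr a) := by
  rw [mulVec, dotProduct, Fintype.sum_sum_type, Finset.sum_eq_single a, Finset.mul_sum, ← Finset.sum_neg_distrib]
  · rw [xMat_inr_inr, if_pos rfl, if_pos rfl, one_mul]
    refine congrArg (· + _) (Finset.sum_congr rfl fun i _ => ?_)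
    rw [xMat_inr_inl, if_pos rfl]
    ring
  · intro s _ hs
    by_cases e : s.val = D.negIdx.getD a.val 0
    · rw [show s = n from Fin.ext (e.trans hn.symm), h0, mul_zero]
    · rw [xMat_inr_inr, if_neg hs, if_neg e, if_neg hs.symm, hc, List.map_nil, List.sum_nil, add_zero, zero_mul]
  · exact fun h => absurd (Finset.mem_univ _) h

theorem col_e (h1 : s ≠ a) (h2 : s.val ≠ D.neg a) (h3 : (D.chain.getD a #[]).toList.filter (fun e => e.1 = s.val) = []) :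
    D.xMat F a u *ᵥ Pi.single (.inr s) 1 = Pi.single (.inr s) 1 := by
  rw [mulVec_single_one]
  funext w
  rcases w with i | w
  · show D.xMat F a u (.inl i) (.inr s) = _
    rw [xMat_inl_inr, if_neg h1, if_neg (show ¬ s.val = D.negIdx.getD a.val 0 from h2), Pi.single_eq_of_ne (by simp)]
  · show D.xMat F a u (.inr w) (.inr s) = _
    rw [xMat_inr_inr, if_neg h1, if_neg (show ¬ s.val = D.negIdx.getD a.val 0 from h2), ChevalleyDatum.chainCoeff, h3,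
      List.flatMap_nil, List.map_nil, List.sum_nil, add_zero, Pi.single_apply]
    simp only [Sum.inr.injEq]

/-- the coroot as a vector -/
def hv (F : Type*) [Field F] (D : ChevalleyDatum) (s : ℕ) : D.Idx → F := Sum.elim (fun i => (cor D s i : F)) 0

theorem col_h (h : ∑ i : Fin D.rank, car D i a * cor D s i = 0) : D.xMat F a u *ᵥ hv F D s = hv F D s := by
  funext w
  rw [mulVec, dotProduct, Fintype.sum_sum_type, Finset.sum_eq_zero (s := (Finset.univ : Finset (Fin D.nroots)))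
    fun x _ => mul_zero _, add_zero]
  rcases w with i | w
  · rw [Finset.sum_eq_single i, xMat_inl_inl, if_pos rfl, one_mul]
    · intro j _ hj
      rw [xMat_inl_inl, if_neg hj.symm, zero_mul]
    · exact fun h => absurd (Finset.mem_univ _) h
  · by_cases e : w = a
    · have h1 := congrArg (fun z : ℤ => -((z : F) * u)) h
      simp only [Int.cast_sum, Int.cast_mul, Int.cast_zero, zero_mul, neg_zero, Finset.sum_mul,
        ← Finset.sum_neg_distrib] at h1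
      refine Eq.trans (Finset.sum_congr rfl fun i _ => ?_) h1
      rw [xMat_inr_inl, if_pos e]
      show _ * (cor D s i : F) = _
      ring
    · exact Finset.sum_eq_zero fun i _ => by rw [xMat_inr_inl, if_neg e, zero_mul]

end Rows

/-- the component of a root (`3` : none) -/
def cmp (s : ℕ) : ℕ := [0, 0, 3, 3, 3, 3, 3, 3, 3, 3, 3, 3, 3, 3, 1, 1, 3, 3, 3, 3, 3, 3, 3, 3, 3, 0, 3, 3, 3, 1, 3, 3, 3, 2, 2,
  2, 2, 2, 2, 3, 3, 3, 1, 3, 3, 3, 0, 3, 3, 3, 3, 3, 3, 3, 3, 3, 1, 1, 3, 3, 3, 3, 3, 3, 3, 3, 3, 3, 3, 3, 0, 0].getD s 3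

theorem c1 : ∀ (s : Fin chevE6.nroots) (j : Fin 3),
    (∃ i i' : Fin 3, i ≠ i' ∧ ∀ m, _root_.Cfsg.Agent.Nodes.RGDChev.vec chevE6 6 s m = ev6 j i m - ev6 j i' m) ↔ cmp s = j := by (delta Cfsg.Agent.Nodes.RGDChev.vec Cfsg.Agent.ChevalleyStructure.RootVec.rt; set_option synthInstance.maxSize 100000 in exact Cfsg.Agent.Lib.Refl.of (by decide +kernel))

theorem c2 : ∀ a s : Fin chevE6.nroots, cmp a < 3 → cmp s < 3 → cmp a ≠ cmp s → s ≠ a ∧ s.val ≠ chevE6.neg a ∧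
    (chevE6.chain.getD a #[]).toList.filter (fun e => e.1 = s.val) = [] ∧
    ∑ i : Fin chevE6.rank, car chevE6 i a * cor chevE6 s i = 0 := by (set_option synthInstance.maxSize 100000 in exact Cfsg.Agent.Lib.Refl.of (by decide +kernel))

theorem c3 : ∀ a : Fin chevE6.nroots, cmp a < 3 → (∃ n : Fin chevE6.nroots, n.val = chevE6.neg a ∧ a.val = chevE6.neg n ∧
    n ≠ a ∧ cmp n = cmp a ∧ ∃ i : Fin chevE6.rank, cor chevE6 n i * cor chevE6 n i = 1) ∧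
    ∀ s : Fin chevE6.nroots, chevE6.chainCoeff a s a = [] := by decide +kernel

theorem c4 : ∀ i i' : Fin chevE6.rank, ∑ s : Fin chevE6.nroots, (if cmp s < 3 ∧ 36 ≤ s.val then
    car chevE6 i s * cor chevE6 s i' else 0) = if i = i' then 3 else 0 := by (set_option synthInstance.maxSize 100000 in exact Cfsg.Agent.Lib.Refl.of (by decide +kernel))

theorem c5 : ∀ s : Fin chevE6.nroots, _root_.Cfsg.Agent.Nodes.RGDChev.vec chevE6 6 s 3 % 3 = 0 → cmp s < 3 := by decide +kernel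

theorem c6 : ∑ s : Fin chevE6.nroots, (if _root_.Cfsg.Agent.Nodes.RGDChev.vec chevE6 6 s 3 % 3 = 0 then 1 else 0 : ℤ) = 18 ∧
    ∑ s : Fin chevE6.nroots, (if _root_.Cfsg.Agent.Nodes.RGDChev.vec chevE6 6 s 3 % 3 = 1 then 1 else 0 : ℤ) = 27 ∧
    ∑ s : Fin chevE6.nroots, (if _root_.Cfsg.Agent.Nodes.RGDChev.vec chevE6 6 s 3 % 3 = 2 then 1 else 0 : ℤ) = 27 := by decide +kernel

variable {r : ℕ} [Fact r.Prime]

/-- the matrix of an element -/
noncomputable def mx (y : YY chevE6 r) : Matrix chevE6.Idx chevE6.Idx (KK r) := (y : GL chevE6.Idx (KK r))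

theorem mx_mul (x y : YY chevE6 r) : mx (x * y) = mx x * mx y := rfl

theorem mx_one : mx (1 : YY chevE6 r) = 1 := rfl

theorem mx_xc (a : Fin chevE6.nroots) (u : KK r) : mx (xc hpE6 (_root_.Cfsg.Agent.Nodes.RGDChev.vec chevE6 6 a) u) = chevE6.xMat (KK r) a u := by
  unfold mx
  rw [coe_xc hpE6 a.2]
  exact dif_pos a.2

/-- the vectors fixed by a component -/
def Fx (j : Fin 3) (v : chevE6.Idx → KK r) : Prop := ∀ y ∈ MJ r j, mx y *ᵥ v = v

variable {j : Fin 3} {v : chevE6.Idx → KK r}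

theorem fx_of (h : ∀ a : Fin chevE6.nroots, cmp a = j → ∀ u, chevE6.xMat (KK r) a u *ᵥ v = v) : Fx j v := by
  let S : Subgroup (YY chevE6 r) :=
    { carrier := {y | mx y *ᵥ v = v}
      one_mem' := by
        show mx 1 *ᵥ v = v
        rw [mx_one, one_mulVec]
      mul_mem' := fun {x y} (hx : mx x *ᵥ v = v) (hy : mx y *ᵥ v = v) => by
        show mx (x * y) *ᵥ v = v
        rw [mx_mul, ← mulVec_mulVec, hy, hx]
      inv_mem' := fun {x} (hx : mx x *ᵥ v = v) => by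
        show mx x⁻¹ *ᵥ v = v
        conv_lhs => rw [← hx]
        rw [mulVec_mulVec, ← mx_mul, inv_mul_cancel, mx_one, one_mulVec] }
  refine fun y hy => RGD.Sup_le (K := S) ?_ hy
  rintro _ ⟨i, i', h1, rfl⟩ x hx
  obtain ⟨-, a, ha⟩ := chk2 j i i' h1
  rw [← show _root_.Cfsg.Agent.Nodes.RGDChev.vec chevE6 6 a = ev6 j i - ev6 j i' from funext ha] at hx
  obtain ⟨u, hu⟩ := (LangThm.mem_XX_vec hpE6 a.2).1 hx
  show mx x *ᵥ v = v
  have e : mx x = chevE6.xMat (KK r) a u := by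
    unfold mx
    rw [hu]
    exact dif_pos a.2
  rw [e]
  exact h a ((c1 a j).1 ⟨i, i', h1, ha⟩) u

theorem Fx.gen (h : Fx j v) {a : Fin chevE6.nroots} (ha : cmp a = j) (u : KK r) : chevE6.xMat (KK r) a u *ᵥ v = v := by
  obtain ⟨i, i', h1, h2⟩ := (c1 a j).2 ha
  rw [← mx_xc]
  exact h _ (RGD.le_Sup (S := Rts (ev6 j)) ⟨i, i', h1, funext h2⟩
    ((LangThm.mem_XX_vec hpE6 a.2).2 ⟨u, coe_xc hpE6 a.2 u⟩))

theorem Fx.root (h : Fx j v) {a : Fin chevE6.nroots} (ha : cmp a = j) : v (.inr a) = 0 := by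
  obtain ⟨⟨n, -, h2, h3, h4, i, h5⟩, -⟩ := c3 a (ha ▸ j.2)
  have h6 := congrFun (h.gen (h4.trans ha) 1) (.inl i)
  rw [row_inl h2 h3.symm, add_eq_left, mul_one] at h6
  have h7 : (cor chevE6 n i : KK r) * cor chevE6 n i = 1 := by exact_mod_cast congrArg (fun z : ℤ => (z : KK r)) h5
  rw [← one_mul (v _), ← h7, mul_assoc, h6, mul_zero]

theorem Fx.cart (h : Fx j v) {a : Fin chevE6.nroots} (ha : cmp a = j) :
    ∑ i : Fin chevE6.rank, (car chevE6 i a : KK r) * v (.inl i) = 0 := by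
  obtain ⟨⟨n, h1, -, -, h4, -⟩, h5⟩ := c3 a (ha ▸ j.2)
  have h6 := congrFun (h.gen ha 1) (.inr a)
  rwa [row_inr h1 (h.root (h4.trans ha)) h5, add_eq_right, one_mul, neg_eq_zero] at h6

variable {ζ : KK r} {t b : YY chevE6 r}

theorem mx_std (h : StdA ζ t) : mx t = diagonal (Sum.elim (fun _ => 1) fun s : Fin chevE6.nroots => ζ ^ _root_.Cfsg.Agent.Nodes.RGDChev.vec chevE6 6 s 3) := by
  refine (H83.RootCount.coe_eq_diagonal hpE6 h.2.1).trans ?_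
  simp only [h.2.2]

theorem zpow_cases (hζ : IsPrimitiveRoot ζ 3) (g : ℤ) : ζ ^ g = ((if g % 3 = 0 then 1 else 0 : ℤ) : KK r) +
    (if g % 3 = 1 then 1 else 0 : ℤ) * ζ + (if g % 3 = 2 then 1 else 0 : ℤ) * ζ ^ 2 := by
  have h1 : ζ ^ g = ζ ^ (g % 3) := by
    conv_lhs => rw [← Int.mul_ediv_add_emod g 3, zpow_add₀ (hζ.ne_zero (by norm_num)), _root_.zpow_mul,
      show ζ ^ (3 : ℤ) = 1 from hζ.zpow_eq_one, _root_.one_zpow, one_mul]
  rw [h1]
  obtain h | h | h : g % 3 = 0 ∨ g % 3 = 1 ∨ g % 3 = 2 := by omega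
  all_goals simp [h]

theorem geom (hζ : IsPrimitiveRoot ζ 3) : 1 + ζ + ζ ^ 2 = 0 := by
  simpa only [Finset.sum_range_succ, _root_.Finset.range_one, _root_.Finset.sum_singleton, _root_.pow_zero, _root_.pow_one] using hζ.geom_sum_eq_zero (by norm_num)

/-- the trace of an element of type `A₂³` -/
theorem trace_typA {y : YY chevE6 r} (h : TypA y) : trace (mx y) = -3 := by
  obtain ⟨g, ζ, h⟩ := h
  have h1 : trace (mx y) = trace (mx (g * y * g⁻¹)) := by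
    rw [mx_mul, trace_mul_comm, ← mx_mul, inv_mul_cancel_left]
  have h2 := congrArg (fun z : ℤ => (z : KK r)) c6.1
  have h3 := congrArg (fun z : ℤ => (z : KK r)) c6.2.1
  have h4 := congrArg (fun z : ℤ => (z : KK r)) c6.2.2
  simp only [Int.cast_sum] at h2 h3 h4
  rw [h1, mx_std h, trace_diagonal, Fintype.sum_sum_type]
  simp only [Sum.elim_inl, Sum.elim_inr, zpow_cases h.1]
  rw [Finset.sum_add_distrib, Finset.sum_add_distrib, ← Finset.sum_mul, ← Finset.sum_mul, h2, h3, h4, Finset.sum_const,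
    Finset.card_univ, Fintype.card_fin, show chevE6.rank = 6 from rfl]
  push_cast
  linear_combination 27 * geom h.1

/-- **the traces on a coset** -/
theorem trace_sum (h : StdA ζ t) (hb : ∀ j, ∃ j', j' ≠ j ∧ ∀ y ∈ MJ r j, b⁻¹ * y * b ∈ MJ r j') :
    trace (mx b) + trace (mx (t * b)) + trace (mx (t * t * b)) = 0 := by
  have h1 : ∀ s : Fin chevE6.nroots, cmp s < 3 → mx b (.inr s) (.inr s) = 0 ∧
      ∑ i : Fin chevE6.rank, (car chevE6 i s : KK r) * (mx b *ᵥ hv (KK r) chevE6 s) (.inl i) = 0 := fun s hs => by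
    obtain ⟨j', h2, h3⟩ := hb ⟨cmp s, hs⟩
    have h4 : ∀ v, Fx j' v → Fx ⟨cmp s, hs⟩ (mx b *ᵥ v) := fun v hv y hy => by
      conv_rhs => rw [← hv _ (h3 y hy)]
      rw [mulVec_mulVec, mulVec_mulVec, ← mx_mul, ← mx_mul, ← mul_assoc, mul_inv_cancel_left]
    have h5 := fun (a : Fin chevE6.nroots) (ha : cmp a = j') => c2 a s (ha ▸ j'.2) hs fun e => h2 (Fin.ext (ha.symm.trans e))
    refine ⟨?_, (h4 _ (fx_of fun a ha u => col_h (h5 a ha).2.2.2)).cart rfl⟩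
    have h6 := (h4 _ (fx_of fun a ha u => col_e (h5 a ha).1 (h5 a ha).2.1 (h5 a ha).2.2.1)).root rfl
    rwa [mulVec_single_one] at h6
  have h2 : 3 * ∑ i : Fin chevE6.rank, mx b (.inl i) (.inl i) = 0 := by
    have h3 : ∀ i : Fin chevE6.rank, 3 * mx b (.inl i) (.inl i) = ∑ s : Fin chevE6.nroots, if cmp s < 3 ∧ 36 ≤ s.val then
        (car chevE6 i s : KK r) * (mx b *ᵥ hv (KK r) chevE6 s) (.inl i) else 0 := fun i => by
      have h4 : 3 * mx b (.inl i) (.inl i) = ∑ i' : Fin chevE6.rank,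
          ((if i = i' then 3 else 0 : ℤ) : KK r) * mx b (.inl i) (.inl i') := by
        rw [Finset.sum_eq_single i, if_pos rfl, Int.cast_ofNat]
        · intro i' _ h5
          rw [if_neg h5.symm, Int.cast_zero, zero_mul]
        · exact fun h => absurd (Finset.mem_univ _) h
      simp only [h4, ← c4, Int.cast_sum, Finset.sum_mul]
      rw [Finset.sum_comm]
      refine Finset.sum_congr rfl fun s _ => ?_
      split_ifs
      · rw [mulVec, dotProduct, Fintype.sum_sum_type, Finset.sum_eq_zero (s := (Finset.univ : Finset (Fin chevE6.nroots)))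
          fun x _ => mul_zero _, add_zero, Finset.mul_sum]
        refine Finset.sum_congr rfl fun i' _ => ?_
        show _ = _ * (_ * (cor chevE6 s i' : KK r))
        push_cast
        ring
      · simp only [_root_.Int.cast_zero, _root_.MulZeroClass.zero_mul, _root_.Finset.sum_const_zero]
    rw [Finset.mul_sum, Finset.sum_congr rfl fun i _ => h3 i, Finset.sum_comm]
    refine Finset.sum_eq_zero fun s _ => ?_
    split_ifs with h4
    · exact (h1 s h4.1).2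
    · exact Finset.sum_const_zero
  rw [mx_mul, mx_mul, mx_mul, mx_std h, diagonal_mul_diagonal]
  simp only [trace, diag_apply, diagonal_mul, ← Finset.sum_add_distrib]
  simp only [Fintype.sum_sum_type, Sum.elim_inl, Sum.elim_inr]
  rw [← add_zero (0 : KK r)]
  refine congrArg₂ (· + ·) (Eq.trans ?_ h2) (Finset.sum_eq_zero fun s _ => ?_)
  · rw [Finset.mul_sum]
    exact Finset.sum_congr rfl fun i _ => by ring
  · by_cases h3 : _root_.Cfsg.Agent.Nodes.RGDChev.vec chevE6 6 s 3 % 3 = 0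
    · rw [(h1 s (c5 s h3)).1]
      ring
    · have h4 := geom h.1
      have h5 := h.1.pow_eq_one
      rw [zpow_cases h.1]
      obtain h6 | h6 : _root_.Cfsg.Agent.Nodes.RGDChev.vec chevE6 6 s 3 % 3 = 1 ∨ _root_.Cfsg.Agent.Nodes.RGDChev.vec chevE6 6 s 3 % 3 = 2 := by omega
      · simp only [h6]
        norm_num only [_root_.ite_false, _root_.Int.cast_zero, _root_.ite_true, _root_.Int.cast_one, _root_.one_mul, _root_.zero_add, _root_.MulZeroClass.zero_mul, _root_.add_zero]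
        linear_combination (mx b (.inr s) (.inr s)) * h4
      · simp only [h6]
        norm_num only [_root_.ite_false, _root_.Int.cast_zero, _root_.MulZeroClass.zero_mul, _root_.add_zero, _root_.ite_true, _root_.Int.cast_one, _root_.one_mul, _root_.zero_add]
        linear_combination (mx b (.inr s) (.inr s)) * h4 + (mx b (.inr s) (.inr s)) * ζ * h5

/-- **no nontoral plane of type `A₂³`** -/
theorem noA (hr : r ≠ 3) (h : StdA ζ t) (hc : b * t = t * b) (hn : b ∉ DZ hpE6 r {t}) (h1 : TypA b) (h2 : TypA (t * b))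
    (h3 : TypA (t * t * b)) : False := by
  have h4 := trace_sum h (b := b) fun j => by
    rcases r1_or hr h hc hn with h5 | h5
    · refine ⟨j - 1, by revert j; decide, fun y hy => (h5.conj h _ _).1 ?_⟩
      rwa [sub_add_cancel, show b * (b⁻¹ * y * b) * b⁻¹ = y by group]
    · refine ⟨j + 1, by revert j; decide, fun y hy => ?_⟩
      simpa only [_root_.Fin.isValue, _root_.inv_inv] using (h5.conj h j y).2 hy
  rw [trace_typA h1, trace_typA h2, trace_typA h3] at h4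
  have h5 : ((3 ^ 2 : ℕ) : KK r) = 0 := by
    push_cast
    linear_combination -h4
  exact hr ((Nat.prime_dvd_prime_iff_eq Fact.out Nat.prime_three).1
    ((Fact.out : r.Prime).dvd_of_dvd_pow ((CharP.cast_eq_zero_iff (KK r) r _).1 h5)))

end Cfsg.Agent.TO.E6.NA
end

-- part: TO/E6A/Main
section
/-!
# S4817, `E₆`, `p = 3`: the box `NoA` (helper39)
-/

set_option autoImplicit false

namespace Cfsg.Agent.TO.E6

/-- **[NoA]** -/
theorem boxNoA : NoA := fun _ _ hr _ _ _ h hc hn _ h1 h2 h3 => NA.noA hr h hc hn h1 h2 h3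

end Cfsg.Agent.TO.E6
end

-- part: TO/E6/Asm
section
/-!
# S4817, rows `E₆(q)`, `²E₆(q)` at `p = 3`: assembly (helper13)
-/

set_option autoImplicit false
set_option linter.unusedSectionVars false

namespace Cfsg.Agent.TO.E6

open Cfsg Cfsg.Lie Matrix Cfsg.Agent.KZ.DatX Cfsg.Agent.Nodes Cfsg.Agent.DL Cfsg.Agent.DL.Ex
open Cfsg.Agent.TO.X Cfsg.Agent.BHZ.Exc
open Cfsg.Agent.H469.Exc (KK locFin)
open Cfsg.Agent.DS.Ex (YY)
open Cfsg.Agent.DS.Nt (Tp tp_of_mem_DZ exists_conj_T)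

attribute [local instance] Nat.fact_prime_three

/-- [TorB] the case of a toral plane -/
def TorB : Prop := ∀ (r : ℕ) [Fact r.Prime] (S : Type) [Group S] (Γ : St r S) (G : Type) [Group G] [Finite G]
  (σ : G →* S) (M : Ideal AlgInt) (b : Set (IrrCharacter G)) (D : Subgroup G), Hyp 3 M b D σ →
    ∀ (ζ : (KK r)ˣ) (hζ : IsPrimitiveRoot ζ 3) (E : Tor Γ.X), u0 ∈ vs Γ.s hζ E (D.map σ) →
      x0 ∈ vs Γ.s hζ E (D.map σ) → False

variable {r : ℕ} [Fact r.Prime]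

/-- commuting lifts have toral images -/
theorem tp_of_comm (h3 : r ≠ 3) {a b : St6 r} (ha : th6 r a ^ 3 = 1) (hb : th6 r b ^ 3 = 1) (h : a * b = b * a) :
    Tp r (th6 r a) (th6 r b) := by
  obtain ⟨g, hg⟩ := exists_conj_T hpE6 Nat.prime_three h3.symm (n := 1) (x := th6 r a) ha
  obtain ⟨c, rfl⟩ := (cov0_th6 r).surj g
  have e : ∀ x, th6 r (c * x * c⁻¹) = th6 r c * th6 r x * (th6 r c)⁻¹ := fun x => by rw [map_mul, map_mul, map_inv]
  have k : ∀ x, th6 r x ^ 3 = 1 → th6 r (c * x * c⁻¹) ^ 3 = 1 := fun x hx => by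
    rw [e, conj_pow, hx, mul_one, mul_inv_cancel]
  rw [← e] at hg
  obtain ⟨y, h1, h2⟩ := tp_of_mem_DZ Nat.prime_three h3.symm hg ⟨1, k a ha⟩
    (CovII.conn6 h3 _ (c * b * c⁻¹) hg (k a ha) (by
      calc c * b * c⁻¹ * (c * a * c⁻¹) = c * (b * a) * c⁻¹ := by group
        _ = _ := by rw [← h]; group)) ⟨1, k b hb⟩
  have e' : ∀ x, y * th6 r (c * x * c⁻¹) * y⁻¹ = y * th6 r c * th6 r x * (y * th6 r c)⁻¹ := fun x => by
    rw [e]
    group
  exact ⟨y * th6 r c, e' a ▸ h1, e' b ▸ h2⟩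

/-- **the standard plane** -/
theorem exists_std_plane {S : Type} [Group S] (Γ : St r S) {A : Subgroup (MulAut S)} {Q : Subgroup S} (P : Pure 3 S A Q)
    (h : ¬ NoTor Γ Q) {ζ : (KK r)ˣ} (hζ : IsPrimitiveRoot ζ 3) :
    ∃ E : Tor Γ.X, u0 ∈ vs Γ.s hζ E Q ∧ x0 ∈ vs Γ.s hζ E Q := by
  unfold NoTor at h
  push Not at h
  obtain ⟨a, b, ⟨x, hx, h1⟩, ⟨y, hy, h2⟩, h3, h4, h5⟩ := h
  have k : ∀ z ∈ Q, Γ.s.ι z ^ 3 = 1 := fun z hz => by rw [← map_pow, Pure.pow_eq hζ P hz, map_one]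
  obtain ⟨g, h6, h7⟩ := tp_of_comm Γ.h3 (h1 ▸ k x hx) (h2 ▸ k y hy) h3
  rw [← h1] at h4 h5 h6
  rw [← h2] at h5 h7
  obtain ⟨E, hE⟩ := exists_tor_of_conj Γ.X (Z := {Γ.s.ι x, Γ.s.ι y}) (x := g⁻¹) (by
    rintro _ (rfl | rfl) <;> rw [Γ.fix]
    exacts [Set.mem_insert _ _, Set.mem_insert_of_mem _ rfl]) (by
    rintro _ (rfl | rfl) <;> rw [inv_inv]
    exacts [h6, h7])
  obtain ⟨u, u1, u2⟩ := exists_vec Γ.s hζ P E hx (hE (Set.mem_insert _ _))
  obtain ⟨v, v1, v2⟩ := exists_vec Γ.s hζ P E hy (hE (Set.mem_insert_of_mem _ rfl))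
  obtain ⟨W, hW, h8⟩ := pn.pl u v ((plane_of Γ.s hζ P E (le_KK hx) (le_KK hy) (fun h0 => h4 (by rw [h0, map_one]))
    (fun ⟨n, hn⟩ => h5 ⟨n, by rw [← hn, map_zpow]⟩) u2 v2).mono fun _ =>
      admS_of_admL Nat.prime_three Fact.out Γ.h3.symm)
  obtain ⟨E', -, -, h9⟩ := exists_std Γ.s hζ E u1 v1 hW h8
  exact ⟨E', h9⟩

theorem row_of (hT : TorB) {S : Type} [Group S] (Γ : St r S) : Row 3 S := by
  intro G _ _ σ M b D H
  obtain ⟨ζ, hζ⟩ := exists_prim (r := r) (KK r) (n := 3)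
    fun h0 => Γ.h3 ((Nat.prime_dvd_prime_iff_eq Fact.out Nat.prime_three).1 h0)
  obtain ⟨E, h1, h2⟩ := exists_std_plane Γ (blk.pure G 3 M b D S σ H)
    (E6N.nonT boxNoA sameT r S Γ G σ M b D H) hζ
  exact hT r S Γ G σ M b D H ζ hζ E h1 h2

/-- **the rows** -/
theorem rows (hT : TorB) : RE6 3 ∧ RT6 3 :=
  ⟨fun F _ _ _ _ _ _ hF h => let ⟨Γ⟩ := st_E6 h.symm F hF; row_of hT Γ,
    fun K _ _ _ _ _ _ hK h => let ⟨Γ⟩ := st_2E6 h.symm K hK; row_of hT Γ⟩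

end Cfsg.Agent.TO.E6
end

-- part: TO/E6/TorA
section
/-!
# S4817, rows `E₆(q)`, `²E₆(q)` at `p = 3`: a toral plane, the consequences of `Pure` (helper91)
-/

set_option autoImplicit false
set_option linter.unusedSectionVars false

namespace Cfsg.Agent.TO.E6

open Cfsg Cfsg.Lie Matrix Cfsg.Agent.KZ.DatX Cfsg.Agent.Nodes Cfsg.Agent.DL Cfsg.Agent.DL.PP Cfsg.Agent.DL.Uni
open Cfsg.Agent.TO.X Cfsg.Agent.BHZ.Exc
open Cfsg.Agent.TO.X.Stab (RA Gm Gm_symm)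
open Cfsg.Agent.TO.X.Pl (cz mv_cz vl_cz)
open Cfsg.Agent.TO.X7 (nz nz_cj)
open Cfsg.Agent.H469.Exc (KK)
open Cfsg.Agent.DS.Ex (YY)
open Cfsg.Agent.H720.TwFr (rho6)

attribute [local instance] Nat.fact_prime_three

/-! ### reflections -/

/-- the reflection in a root -/
def R6 (a : Fin 6 → ℤ) : Matrix (Fin 6) (Fin 6) ℤ := 1 - vecMulVec (G6 *ᵥ a) a

theorem bl_comm (a b : Fin 6 → ℤ) : a ⬝ᵥ G6 *ᵥ b = b ⬝ᵥ G6 *ᵥ a := by
  rw [dotProduct_mulVec, ← mulVec_transpose, Gm_symm hpE6, dotProduct_comm]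

theorem ra_cor {N : Matrix (Fin 6) (Fin 6) ℤ} (h : RA chevE6 6 N) (a : Fin 6 → ℤ) :
    N *ᵥ (G6 *ᵥ (a ᵥ* N)) = G6 *ᵥ a := by rw [← mulVec_transpose, mulVec_mulVec, mulVec_mulVec, h.fm]

theorem ra_bl {N : Matrix (Fin 6) (Fin 6) ℤ} (h : RA chevE6 6 N) (a b : Fin 6 → ℤ) :
    (a ᵥ* N) ⬝ᵥ G6 *ᵥ (b ᵥ* N) = a ⬝ᵥ G6 *ᵥ b := by rw [← dotProduct_mulVec, ra_cor h]

theorem ra_R6 {N : Matrix (Fin 6) (Fin 6) ℤ} (h : RA chevE6 6 N) (a : Fin 6 → ℤ) : N * R6 (a ᵥ* N) = R6 a * N := by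
  rw [R6, R6, mul_sub, sub_mul, mul_one, one_mul, mul_vecMulVec, vecMulVec_mul, ra_cor h]

theorem vecMul_R6 (a b : Fin 6 → ℤ) : b ᵥ* R6 a = b - (b ⬝ᵥ G6 *ᵥ a) • a := Pl.vecMul_refl _ _ _

theorem R6_mulVec (a v : Fin 6 → ℤ) : R6 a *ᵥ v = v - (a ⬝ᵥ v) • G6 *ᵥ a := Pl.refl_mulVec _ _ _

theorem bl_tab : ∀ s < chevE6.nroots, RGDChev.vec chevE6 6 s ⬝ᵥ G6 *ᵥ RGDChev.vec chevE6 6 s = 2 := by (set_option synthInstance.maxSize 100000 in exact Cfsg.Agent.Lib.Refl.of (by decide +kernel))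

theorem bl_self {a : Fin 6 → ℤ} (ha : Rt chevE6 6 a) : a ⬝ᵥ G6 *ᵥ a = 2 := by
  obtain ⟨s, hs, rfl⟩ := ha
  exact bl_tab s hs

theorem two_step {a b : Fin 6 → ℤ} (ha : Rt chevE6 6 a) (h : a ⬝ᵥ G6 *ᵥ b = -1) : a ᵥ* (R6 b * R6 a) = b := by
  rw [← vecMul_vecMul, vecMul_R6, vecMul_R6, h, sub_dotProduct, smul_dotProduct, bl_self ha, bl_comm b, h]
  module

theorem cz_neg (v : Fin 6 → ℤ) : cz 3 (-v) = -cz 3 v := funext fun _ => Int.cast_neg _

theorem cz_ne {a v : Fin 6 → ℤ} (h : a ⬝ᵥ v = 2) : cz 3 v ≠ 0 := fun e => by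
  have h1 := vl_cz (p := 3) a v
  rw [e, h] at h1
  simp only [vl, Pi.zero_apply, mul_zero, Finset.sum_const_zero] at h1
  exact absurd h1 (by decide)

theorem finrank_B0 : Module.finrank (ZMod 3) B0 = 2 := by
  have h : LinearIndependent (ZMod 3) ![u0, x0] := LinearIndependent.pair_iff.2 (by decide +kernel)
  have h1 := finrank_span_eq_card h
  rwa [Matrix.range_cons, Matrix.range_cons, Matrix.range_empty, Set.union_empty, Set.singleton_union] at h1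

theorem mon_pow_fix {k : Type} [Field k] {A : Matrix (Fin 6) (Fin 6) ℤ} {c : Fin 6 → kˣ} (h : mon A c = c) (n : ℕ) :
    mon (A ^ n) c = c := by
  induction n with
  | zero => rw [pow_zero, mon_one]
  | succ n ih => rw [pow_succ, mon_mul, h, ih]

theorem mon_zero' {k : Type} [Field k] (c : Fin 6 → kˣ) : mon (0 : Matrix (Fin 6) (Fin 6) ℤ) c = 1 :=
  funext fun _ => chr_zero c

variable {r : ℕ} [hr : Fact r.Prime] {S : Type} [Group S] {Γ : St r S}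

theorem ra_wm (w : CoxeterMatrix.E₆.Group) : RA chevE6 6 (wm Γ.X w) := RA.Wm Γ.X w

theorem wm_rf6 (E : Tor Γ.X) {a : Fin 6 → ℤ} (ha : Rt chevE6 6 a) : wm Γ.X (E.rf a) = R6 a := by
  have h1 : a ⬝ᵥ E.cor a = 2 :=
    (E.D.pair_cor ((E.rt_iff a).2 ha) a).trans (Coroot.cpr_self _ _ ((E.rt_iff a).2 ha))
  have h2 := ra_cor (ra_wm (Γ := Γ) (E.rf a)) a
  rw [E.wm_rf ha, Pl.vecMul_refl, Pl.refl_mulVec, h1, mulVec_sub, mulVec_smul, dotProduct_sub, dotProduct_smul,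
    bl_self ha] at h2
  rw [E.wm_rf ha, R6]
  congr 2
  refine smul_right_injective _ (two_ne_zero (α := ℤ)) ?_
  linear_combination (exp := 1) h2

/-- the form of the matrix of `F` -/
structure Fq (E : Tor Γ.X) (q : ℤ) (h : Matrix (Fin 6) (Fin 6) ℤ) : Prop where
  A : E.A = q • h
  q1 : (q : ZMod 3) = 1
  qr : q = (r : ℤ) ^ Γ.e ∨ q = -(r : ℤ) ^ Γ.e
  ra : RA chevE6 6 h
  d : Γ.d = 1 ∨ WM chevE6 6 h
  two : r ^ Γ.e = 2 → Γ.π = rho6 → q = -2 ∧ WM chevE6 6 h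

theorem exists_fq (E : Tor Γ.X) : ∃ q h, Fq E q h := by
  have h0 : r ^ Γ.e % 3 = 1 ∨ r ^ Γ.e % 3 = 2 := by
    have h1 : ¬ 3 ∣ r ^ Γ.e := (Nat.Prime.coprime_iff_not_dvd Nat.prime_three).1 (Six.cop3 Γ.h3 _).symm
    omega
  have c1 : r ^ Γ.e % 3 = 1 → (((r : ℤ) ^ Γ.e : ℤ) : ZMod 3) = 1 := fun h => by
    rw [← Nat.cast_pow, Int.cast_natCast, ← ZMod.natCast_mod, h, Nat.cast_one]
  have c2 : r ^ Γ.e % 3 = 2 → ((-(r : ℤ) ^ Γ.e : ℤ) : ZMod 3) = 1 := fun h => by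
    rw [Int.cast_neg, ← Nat.cast_pow, Int.cast_natCast, ← ZMod.natCast_mod, h]
    decide
  have g : ∀ n, ¬ 3 ∣ n → Nat.gcd 3 n = 1 := fun n h => (Nat.Prime.coprime_iff_not_dvd Nat.prime_three).2 h
  have h2 : (1 : Equiv.Perm (Fin 6)) ≠ rho6 := by decide
  obtain ⟨w0, h4⟩ : ∃ w, wm Γ.X w = -P6 := Γ.X.exists_neg_E6
  have h5 : ∀ N, Γ.Mx = N → E.A = wm Γ.X E.w * N := fun _ e => e ▸ E.A_eq
  rcases Γ.typ with ⟨t1, t2, t3⟩ | ⟨t1, t2, t3⟩ <;> rcases h0 with h0 | h0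
  · exact ⟨_, wm Γ.X E.w, by rw [h5 _ t2, mul_smul_comm, mul_one], c1 h0, Or.inl rfl, ra_wm _, Or.inr (WM_wm _ _),
      fun _ h => absurd (t1.symm.trans h) h2⟩
  · exact ⟨_, -wm Γ.X E.w, by rw [h5 _ t2, mul_smul_comm, mul_one, neg_smul_neg], c2 h0, Or.inr rfl,
      (ra_wm _).neg hpE6, Or.inl (t3.trans (g _ (by omega))), fun _ h => absurd (t1.symm.trans h) h2⟩
  · exact ⟨_, -wm Γ.X (E.w * w0), by rw [h5 _ t2, mul_smul_comm, map_mul, h4, mul_neg, neg_neg], c1 h0, Or.inl rfl,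
      (ra_wm _).neg hpE6, Or.inl (t3.trans (g _ (by omega))), fun h _ => by omega⟩
  · exact ⟨_, wm Γ.X (E.w * w0), by rw [h5 _ t2, mul_smul_comm, map_mul, h4, mul_neg, neg_smul_neg], c2 h0,
      Or.inr rfl, ra_wm _, Or.inr (WM_wm _ _), fun h _ => ⟨by rw [← Nat.cast_pow, h]; rfl, WM_wm _ _⟩⟩

variable {E : Tor Γ.X} {q : ℤ} {h : Matrix (Fin 6) (Fin 6) ℤ}

theorem Fq.mv_A (F : Fq E q h) (v : Fin 6 → ZMod 3) : mv E.A v = mv h v := by rw [F.A, smul_mv, F.q1, one_smul]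

theorem Fq.eq_one (F : Fq E q h) {x : (KK r)ˣ} (hx : x ^ q = 1) : x = 1 := by
  have h1 : x ^ r ^ Γ.e = 1 := by
    rcases F.qr with h1 | h1
    · rwa [h1, ← Nat.cast_pow, zpow_natCast] at hx
    · rwa [h1, ← Nat.cast_pow, _root_.zpow_neg, inv_eq_one, zpow_natCast] at hx
  refine Units.ext (sub_eq_zero.1 ((pow_eq_zero_iff (pow_pos hr.out.pos Γ.e).ne').1 ?_))
  rw [sub_pow_char_pow, ← Units.val_pow_eq_pow_val, h1, Units.val_one, one_pow, sub_self]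

theorem Fq.comm (F : Fq E q h) {N : Matrix (Fin 6) (Fin 6) ℤ} : E.A * N = N * E.A ↔ h * N = N * h := by
  have h0 : q ≠ 0 := fun e => absurd F.q1 (by rw [e]; decide)
  rw [F.A, smul_mul_assoc, mul_smul_comm, (smul_right_injective _ h0).eq_iff]

theorem Fq.Sz (F : Fq E q h) {Z : Set (YY chevE6 r)} (hZ : Z ⊆ E.T) (hF : ∀ z ∈ Z, Γ.X.F z = z) {a : Fin 6 → ℤ}
    (ha : a ∈ E.Sz Z) : a ᵥ* h ∈ E.Sz Z := by
  obtain ⟨h1, h2⟩ := E.mem_Sz.1 ha
  refine E.mem_Sz.2 ⟨F.ra.rt a h1, fun z hz => ?_⟩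
  obtain ⟨c, rfl⟩ := E.mem_T.1 (hZ hz)
  have h3 := h2 _ hz
  rw [← hF _ hz, E.F_τ, E.χ_τ, chr_mon, F.A, vecMul_smul, chr_zsmul, Units.val_eq_one] at h3
  rw [E.χ_τ, F.eq_one h3, Units.val_one]

/-- the exponent of `T ^ F` -/
theorem Fq.pow_odd (F : Fq E q h) (hg : Good h) {t : YY chevE6 r} (ht : t ∈ E.T) (hF : Γ.X.F t = t) :
    t ^ (1 + q ^ 2 + q ^ 4) = 1 := by
  obtain ⟨c, rfl⟩ := E.mem_T.1 ht
  have h1 := E.fix_τ.1 hF
  have h2 : E.A ^ 4 + q ^ 2 • E.A ^ 2 + q ^ 4 • (1 : Matrix (Fin 6) (Fin 6) ℤ) = 0 := by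
    rw [F.A, smul_pow, smul_pow, smul_smul, ← pow_add, ← smul_add, ← smul_add, hg, smul_zero]
  have h3 := mon_zero' c
  rw [← h2, mon_add, mon_add, mon_zsmul, mon_zsmul, mon_pow_fix h1, mon_pow_fix h1, mon_one] at h3
  rw [← map_zpow, _root_.zpow_add, _root_.zpow_add, zpow_one, h3, map_one]

theorem Fq.pow_three (F : Fq E (-2) h) (hg : h * h + h + 1 = 0) {t : YY chevE6 r} (ht : t ∈ E.T) (hF : Γ.X.F t = t) :
    t ^ 3 = 1 := by
  obtain ⟨c, rfl⟩ := E.mem_T.1 ht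
  have h1 := E.fix_τ.1 hF
  have h2 : E.A ^ 2 + (-2 : ℤ) • E.A + (4 : ℤ) • (1 : Matrix (Fin 6) (Fin 6) ℤ) = 0 := by
    rw [F.A, smul_pow, smul_smul, pow_two h, show (-2 : ℤ) ^ 2 = 4 by norm_num, show (-2 : ℤ) * -2 = 4 by norm_num,
      ← smul_add, ← smul_add, hg, smul_zero]
  have h3 := mon_zero' c
  rw [← h2, mon_add, mon_add, mon_zsmul, mon_zsmul, mon_pow_fix h1, h1, mon_one] at h3
  rw [← map_pow, show c ^ 3 = c * c ^ (-2 : ℤ) * c ^ (4 : ℤ) by group, h3, map_one]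

/-! ### the plane -/

variable (Γ) in
/-- the `3'`-elements of the centraliser -/
def T0 (Q : Subgroup S) : Set (YY chevE6 r) := Γ.s.ι '' {y | y ∈ Ce Q ∧ ¬ 3 ∣ orderOf y}

theorem T0_fix {Q : Subgroup S} : ∀ z ∈ T0 Γ Q, Γ.X.F z = z := by
  rintro _ ⟨y, -, rfl⟩
  exact Γ.fix y

/-- the situation -/
structure Sp (E : Tor Γ.X) {ζ : (KK r)ˣ} (hζ : IsPrimitiveRoot ζ 3) (A : Subgroup (MulAut S)) (Q : Subgroup S) :
    Prop where
  L : Lt
  P : Pure 3 S A Q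
  u : u0 ∈ vs Γ.s hζ E Q
  x : x0 ∈ vs Γ.s hζ E Q

namespace Sp

variable {ζ : (KK r)ˣ} {hζ : IsPrimitiveRoot ζ 3} {A : Subgroup (MulAut S)} {Q : Subgroup S} (H : Sp E hζ A Q)
include H

theorem B_le : B0 ≤ vs Γ.s hζ E Q := Submodule.span_le.2 (by
  rintro _ (rfl | rfl)
  exacts [H.u, H.x])

theorem reg (a : Fin 6 → ℤ) (ha : Rt chevE6 6 a) : ∃ v ∈ (B0 : Set (Fin 6 → ZMod 3)), vl a v ≠ 0 :=
  (H.L.reg a ha).elim (fun h => ⟨_, Submodule.subset_span (Set.mem_insert _ _), h⟩)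
    fun h => ⟨_, Submodule.subset_span (Set.mem_insert_of_mem _ rfl), h⟩

theorem Sz_B : E.Sz (E.e ζ '' (B0 : Set (Fin 6 → ZMod 3))) = ∅ := Set.eq_empty_of_forall_notMem fun a ha => by
  obtain ⟨h1, h2⟩ := (E.mem_Sz_e hζ).1 ha
  obtain ⟨v, h3, h4⟩ := H.reg a h1
  exact h4 (h2 v h3)

theorem comm {y : S} (hy : y ∈ Ce Q) : ∀ v ∈ (B0 : Set (Fin 6 → ZMod 3)), E.e ζ v * Γ.s.ι y = Γ.s.ι y * E.e ζ v :=
  fun v hv => by
    obtain ⟨a, a1, a2⟩ := H.B_le hv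
    rw [← a2, ← map_mul, ← map_mul, hy a a1]

theorem T0_le : T0 Γ Q ⊆ E.T := by
  rintro _ ⟨y, ⟨h1, h2⟩, rfl⟩
  rw [← E.cen_eq_T H.Sz_B]
  refine E.ppr (p := 3) ?_ ?_ _ ?_ (by rwa [orderOf_injective _ Γ.inj])
  · rintro _ ⟨v, -, rfl⟩
    exact E.e_mem ζ v
  · rintro _ ⟨v, -, rfl⟩
    exact ⟨1, by rw [pow_one, E.e_pow hζ]⟩
  · rintro _ ⟨v, hv, rfl⟩
    exact H.comm h1 v hv

theorem fx (F : Fq E q h) : Fx h :=
  ⟨F.ra, (F.mv_A _).symm.trans (fix_of_mem_vs _ hζ H.u), (F.mv_A _).symm.trans (fix_of_mem_vs _ hζ H.x)⟩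

theorem mem_KK {a : S} (ha : Γ.s.ι a ∈ E.T) : a ∈ BHZ.Nil.KK 3 Q :=
  mem_KK_of fun y h1 h2 => Γ.inj (by rw [map_mul, map_mul, E.T_comm (H.T0_le ⟨y, ⟨h1, h2⟩, rfl⟩) ha])

theorem not_cj (E' : Tor Γ.X) {a : S} (ha : a ∈ BHZ.Nil.KK 3 Q) {t : Fin 6 → ZMod 3} (h1 : Γ.s.ι a = E'.e ζ t)
    (h2 : t ≠ 0) (h3 : 18 < nz chevE6 t) : False := by
  obtain ⟨b, b1, b2⟩ := H.u
  have h4 := cj_of_pure Γ.s hζ H.P E E' (le_KK b1) ha b2 h1 (by decide) h2
  have h5 := nz_cj hpE6 (Pl.cj_P6 (h4.mono fun _ => admS_of_admL Nat.prime_three hr.out Γ.h3.symm))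
  rw [H.L.nz0] at h5
  omega

/-- **LT** -/
theorem kill (F : Fq E q h) {v : CoxeterMatrix.E₆.Group} (hv : v ∈ Subgroup.closure (E.rf '' E.Sz (T0 Γ Q)))
    {t : Fin 6 → ZMod 3} (h2 : t ≠ 0) (h3 : 18 < nz chevE6 t) (h4 : mv (wm Γ.X v * h) t = t)
    {u : CoxeterMatrix.E₆.Group} (h5 : wm Γ.X v * h * wm Γ.X u = wm Γ.X u * (wm Γ.X v * h))
    (h6 : mv (wm Γ.X u) t = -t) : False := by
  obtain ⟨m, m1, m2⟩ := E.exists_rp_cen hv
  obtain ⟨c, c1, E', c2, c3⟩ := E.exists_twist H.T0_le (fun z hz => (T0_fix z hz).symm ▸ hz) m2 m1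
  rw [F.A, mul_smul_comm] at c3
  have k1 : Γ.X.F (E'.e ζ t) = E'.e ζ t := (E'.fix_iff hζ).2 (by rw [c3, smul_mv, F.q1, one_smul, h4])
  obtain ⟨g, g1, g2⟩ := E'.exists_rp_fix (v := u) (by rw [c3, smul_mul_assoc, mul_smul_comm, h5])
  have k2 := E'.conj_e hζ g1 t
  rw [h6, E'.e_neg hζ] at k2
  obtain ⟨a, ha⟩ := mem_of_real (H := GF Γ.X.F ⊤) (K := Γ.s.ι.range) (fun a ha b hb => Γ.comm_mem ha.2 hb.2)
    ⟨Subgroup.mem_top _, k1⟩ ⟨Subgroup.mem_top _, g2⟩ k2 (n := 3) (by decide) (E'.e_pow hζ t)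
  refine H.not_cj E' (mem_KK_of fun y y1 y2 => Γ.inj ?_) ha h2 h3
  have k3 : Γ.s.ι y * c = c * Γ.s.ι y := E.cen_le H.T0_le c1 _ ⟨y, ⟨y1, y2⟩, rfl⟩
  have k4 := E.T_comm (H.T0_le ⟨y, ⟨y1, y2⟩, rfl⟩) (E.e_mem ζ t)
  rw [map_mul, map_mul, ha, show E'.e ζ t = c * E.e ζ t * c⁻¹ from c2 _]
  calc _ = Γ.s.ι y * c * E.e ζ t * c⁻¹ := by group
    _ = c * E.e ζ t * c⁻¹ * (c * Γ.s.ι y) * c⁻¹ := by rw [k3, mul_assoc c, k4]; group
    _ = _ := by rw [← k3]; group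

theorem kill1 (F : Fq E q h) {v : CoxeterMatrix.E₆.Group} (hv : v ∈ Subgroup.closure (E.rf '' E.Sz (T0 Γ Q)))
    {a : Fin 6 → ℤ} (ha : Rt chevE6 6 a) (e : a ᵥ* (wm Γ.X v * h) = a) : False := by
  have h1 := (ra_wm (Γ := Γ) v).mul F.ra
  have h2 := ra_cor h1 a
  have h3 := ra_R6 h1 a
  rw [e] at h2 h3
  refine H.kill F hv (cz_ne (bl_self ha)) (H.L.nzr a ha) (by rw [mv_cz, h2]) (u := E.rf a) (by rwa [wm_rf6 E ha]) ?_
  rw [wm_rf6 E ha, mv_cz, R6_mulVec, bl_self ha, ← cz_neg]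
  congr 1
  module

theorem kill2 (F : Fq E q h) {v : CoxeterMatrix.E₆.Group} (hv : v ∈ Subgroup.closure (E.rf '' E.Sz (T0 Γ Q)))
    {a b : Fin 6 → ℤ} (ha : Rt chevE6 6 a) (hb : Rt chevE6 6 b) (e : a ᵥ* (wm Γ.X v * h) = b)
    (e' : b ᵥ* (wm Γ.X v * h) = a) (h0 : b ⬝ᵥ G6 *ᵥ a = 0) (hn : 18 < nz chevE6 (cz 3 (G6 *ᵥ (a + b)))) : False := by
  have h1 := (ra_wm (Γ := Γ) v).mul F.ra
  have h2 := ra_cor h1 a
  have h3 := ra_R6 h1 a
  have h4 := ra_cor h1 b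
  have h5 := ra_R6 h1 b
  have h6 := ra_R6 (wm_rf6 E ha ▸ ra_wm (Γ := Γ) (E.rf a)) b
  rw [e] at h2 h3
  rw [e'] at h4 h5
  rw [vecMul_R6, h0, zero_smul, sub_zero] at h6
  refine H.kill F hv (cz_ne (a := b) ?_) hn (by rw [mv_cz, mulVec_add, mulVec_add, h2, h4, add_comm])
    (u := E.rf a * E.rf b) ?_ ?_
  · rw [mulVec_add, dotProduct_add, h0, bl_self hb, zero_add]
  · rw [map_mul, wm_rf6 E ha, wm_rf6 E hb, ← mul_assoc, h5, mul_assoc (R6 b), h3, h6, mul_assoc (R6 b)]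
  · rw [map_mul, wm_rf6 E ha, wm_rf6 E hb, mv_cz, ← mulVec_mulVec, R6_mulVec, R6_mulVec, ← cz_neg]
    simp only [mulVec_add, dotProduct_add, dotProduct_sub, dotProduct_smul, bl_self ha, bl_self hb, bl_comm a b, h0]
    congr 1
    module

theorem good (F : Fq E q h) : Good h :=
  (H.L.dich h (H.fx F)).resolve_left fun ⟨_, h1, h2⟩ => H.kill1 F (one_mem _) h1 (by rwa [map_one, one_mul])

theorem Sz_T0 : E.Sz (T0 Γ Q) = ∅ := Set.eq_empty_of_forall_notMem fun a ha => by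
  obtain ⟨q, h, F⟩ := exists_fq E
  have h1 := F.Sz H.T0_le T0_fix ha
  have h2 := F.Sz H.T0_le T0_fix h1
  have r0 := (E.mem_Sz.1 ha).1
  have r1 := (E.mem_Sz.1 h1).1
  have r2 := (E.mem_Sz.1 h2).1
  have k : ∀ b ∈ E.Sz (T0 Γ Q), E.rf a * E.rf b ∈ Subgroup.closure (E.rf '' E.Sz (T0 Γ Q)) := fun b hb =>
    mul_mem (Subgroup.subset_closure ⟨a, ha, rfl⟩) (Subgroup.subset_closure ⟨b, hb, rfl⟩)
  rcases H.L.good h (H.fx F) (H.good F) a r0 with h3 | ⟨h3, h4, h5⟩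
  · exact H.kill1 F (k _ h1) r1 (by rw [map_mul, wm_rf6 E r0, wm_rf6 E r1, ← vecMul_vecMul, two_step r1 h3])
  · have h6 : (a ᵥ* h ᵥ* h) ⬝ᵥ G6 *ᵥ (a ᵥ* h) = 0 := (ra_bl F.ra _ _).trans h3
    refine H.kill2 F (k _ h2) r1 r2 ?_ ?_ h6 h5
    · rw [map_mul, wm_rf6 E r0, wm_rf6 E r2, ← vecMul_vecMul, ← vecMul_vecMul, vecMul_R6 a, h3, zero_smul, sub_zero,
        vecMul_R6, bl_comm, h6, zero_smul, sub_zero]
    · rw [map_mul, wm_rf6 E r0, wm_rf6 E r2, ← vecMul_vecMul, two_step r2 h4]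

theorem cop : Cop (T0 Γ Q) 3 := by
  rintro _ ⟨y, ⟨-, h1⟩, rfl⟩
  exact ⟨orderOf y, ((Nat.Prime.coprime_iff_not_dvd Nat.prime_three).2 h1).symm,
    by rw [← map_pow, pow_orderOf_eq_one, map_one]⟩

/-- `Q` lies in the torus -/
theorem Q_le {a : S} (ha : a ∈ Q) : Γ.s.ι a ∈ E.T := by
  refine mem_T_of_cop E.D H.T0_le H.Sz_T0 (Subgroup.mem_top _) ?_ three_pos H.cop ?_
  · rintro _ ⟨y, ⟨h1, -⟩, rfl⟩
    rw [← map_mul, ← map_mul, h1 a ha]
  · rw [← map_pow, Pure.pow_eq hζ H.P ha, map_one]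
    exact one_mem _

theorem vs_eq : vs Γ.s hζ E (BHZ.Nil.KK 3 Q) = B0 :=
  (Submodule.eq_of_le_of_finrank_le (H.B_le.trans (vs_mono _ hζ E le_KK)) (by
    rw [finrank_B0]
    exact Pl.rkE63 ((pureSp Γ.s hζ H.P E).mono fun _ => admS_of_admL Nat.prime_three hr.out Γ.h3.symm))).symm

/-- `Q` is the plane -/
theorem mem_Q {a : S} : a ∈ Q ↔ ∃ v ∈ B0, Γ.s.ι a = E.e ζ v := by
  refine ⟨fun ha => ?_, fun ⟨v, h1, h2⟩ => ?_⟩
  · obtain ⟨v, h1, h2⟩ := exists_vec Γ.s hζ H.P E ha (H.Q_le ha)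
    exact ⟨v, H.vs_eq ▸ vs_mono _ hζ E le_KK h1, h2⟩
  · obtain ⟨b, b1, b2⟩ := H.B_le h1
    rwa [Γ.inj (h2.trans b2.symm)]

theorem not_two (h2 : r ^ Γ.e = 2) (hπ : Γ.π = rho6) : False := by
  obtain ⟨q, h, F⟩ := exists_fq E
  obtain ⟨rfl, h1⟩ := F.two h2 hπ
  refine Set.eq_empty_iff_forall_notMem.1 H.Sz_T0 _ (E.mem_Sz.2 ⟨Lat.rt_sr hpE6 0, fun z hz => ?_⟩)
  obtain ⟨m, m1, m2⟩ := H.cop z hz
  have h3 := pow_gcd_eq_one.2 ⟨m2, F.pow_three (H.L.gw h (H.fx F) (H.good F) h1).1 (H.T0_le hz) (T0_fix z hz)⟩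
  rw [m1.gcd_eq_one, pow_one] at h3
  rw [h3]
  exact E.D.χ_one _

end Sp

end Cfsg.Agent.TO.E6
end

-- part: TO/E6/Fin
section
/-!
# S4817, type `E₆`, `p = 3`: an element which fixes a linear constituent of the canonical character (helper54)
-/

set_option autoImplicit false

namespace Cfsg.Agent.TO.E6

open Cfsg Subgroup
open Cfsg.Agent.TO.Cn Cfsg.Agent.Characters.Core Cfsg.Agent.Characters Cfsg.Agent.TO.T3

namespace Fn

/-- characters with a common constituent -/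
theorem inner_ne {N : Type} [Group N] [Fintype N] {φ ψ f : N → ℂ} (hφ : IsCharacter N φ) (hψ : IsCharacter N ψ)
    (hf : IsIrrCharacter N f) (h1 : classInner φ f ≠ 0) (h2 : classInner ψ f ≠ 0) : classInner φ ψ ≠ 0 := by
  classical
  have := finite_irr (G := N)
  have := Fintype.ofFinite (IrrCharacter N)
  choose a ha using fun χ : IrrCharacter N => classInner_isNat hφ (isIrr_isCharacter χ.2)
  choose c hc using fun χ : IrrCharacter N => classInner_isNat hψ (isIrr_isCharacter χ.2)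
  rw [classInner_eq_sum (isCharacter_isClassFunction hφ) (isCharacter_isClassFunction hψ)]
  simp only [ha, hc, map_natCast]
  rw [ha ⟨f, hf⟩] at h1
  rw [hc ⟨f, hf⟩] at h2
  norm_cast at h1 h2 ⊢
  exact fun h => mul_ne_zero h1 h2 (Finset.sum_eq_zero_iff.1 h _ (Finset.mem_univ _))

variable {H : Type} [Group H] [Finite H] {N : Subgroup H} [N.Normal]

/-- an involution fixes a constituent -/
theorem exists_fix [Fintype N] (ho : Odd (Nat.card H)) {χ : H → ℂ} (hχ : IsIrrCharacter H χ) (γ : N →* N)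
    (hγ : ∀ n : N, χ (γ n) = χ n) (h2 : ∀ n, γ (γ n) = n) :
    ∃ f : N → ℂ, IsIrrCharacter N f ∧ classInner (fun n : N => χ n) f ≠ 0 ∧ ∀ n, f (γ n) = f n := by
  classical
  have := Fact.mk Nat.prime_two
  have hs : Function.Bijective γ := Function.Involutive.bijective h2
  have h1 := KF.card_con (N := N) hχ Nat.prime_two fun c =>
    ⟨_, fun h => Nat.not_even_iff_odd.2 ho (even_iff_two_dvd.2 h), by rw [pow_card_eq_one']; exact one_mem _⟩
  set Ω := {f : N → ℂ | IsIrrCharacter N f ∧ classInner (fun n : N => χ n) f ≠ 0} with hΩ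
  have h3 : Finite Ω := Nat.finite_of_card_ne_zero fun h => h1 (h ▸ dvd_zero 2)
  have := Fintype.ofFinite Ω
  let F : Function.End Ω := fun f => ⟨f.1 ∘ γ, KF.comp_mem γ hs hγ f.2.1 f.2.2⟩
  have h4 := Equiv.Perm.card_fixedPoints_modEq (f := F) (p := 2) (n := 1)
    (funext fun f => Subtype.ext (funext fun n => congrArg f.1 (h2 n)))
  have h5 : Nonempty F.fixedPoints := by
    by_contra h6
    rw [not_nonempty_iff, ← Fintype.card_eq_zero_iff] at h6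
    rw [h6, ← Nat.card_eq_fintype_card] at h4
    exact h1 (Nat.modEq_zero_iff_dvd.1 h4)
  obtain ⟨⟨f, f1, f2⟩, h6⟩ := h5
  exact ⟨f, f1, f2, congrFun (congrArg Subtype.val h6)⟩

omit [N.Normal] in
/-- two irreducible characters which vanish outside `N` and have a common constituent -/
theorem eq_of_van [Fintype N] {χ ψ : H → ℂ} (hχ : IsIrrCharacter H χ) (hψ : IsIrrCharacter H ψ) (hv : ∀ c, c ∉ N → χ c = 0)
    {f : N → ℂ} (hf : IsIrrCharacter N f) (h1 : classInner (fun n : N => χ n) f ≠ 0)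
    (h2 : classInner (fun n : N => ψ n) f ≠ 0) : χ = ψ := by
  classical
  have := Fintype.ofFinite H
  by_contra h
  have h3 := classInner_irr_ne hχ hψ h
  refine inner_ne (isCharacter_comp N.subtype (isIrr_isCharacter hχ)) (isCharacter_comp N.subtype (isIrr_isCharacter hψ))
    hf h1 h2 ?_
  rw [classInner_def, mul_eq_zero] at h3 ⊢
  refine .inr (Eq.trans ?_ (h3.resolve_left (inv_ne_zero card_ne_zero_complex)))
  show ∑ g : N, χ g * starRingEnd ℂ (ψ g) = _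
  rw [← Finset.sum_subtype (Finset.univ.filter (· ∈ N)) (by simp) fun g => χ g * (starRingEnd ℂ) (ψ g), Finset.sum_filter]
  refine Finset.sum_congr rfl fun g _ => ?_
  split_ifs with h4
  · rfl
  · rw [hv g h4, zero_mul]

/-- an inverted element of odd order lies in the kernel of a linear character -/
theorem mul_eq {K : Type} [Group K] [Finite K] (hab : ∀ x y : K, x * y = y * x) {f : K → ℂ} (hf : IsIrrCharacter K f) {u : K}
    (ho : Odd (orderOf u)) (h : f u⁻¹ = f u) (g : K) : f (u * g) = f g := by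
  obtain ⟨c, c1, -⟩ := Cfsg.Agent.ODD.Red.exists_central hf (z := u) (mem_center_iff.2 fun g => hab _ _)
  have h0 := isIrr_apply_one_ne_zero hf
  have h1 : c * c = 1 := mul_right_cancel₀ h0 (by
    have h2 := c1 u⁻¹
    rw [mul_inv_cancel, h, ← mul_one u, c1] at h2
    rw [one_mul, mul_assoc, ← h2])
  have h2 : ∀ n : ℕ, f (u ^ n) = c ^ n * f 1 := fun n => by
    induction n with
    | zero => simp
    | succ n ih => rw [pow_succ', c1, ih, pow_succ', mul_assoc]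
  obtain ⟨k, hk⟩ := ho
  have h3 := h2 (orderOf u)
  rw [pow_orderOf_eq_one, hk, pow_succ, pow_mul, pow_two, h1, one_pow, one_mul] at h3
  rw [c1, mul_right_cancel₀ h0 (h3.symm.trans (one_mul _).symm), one_mul]

end Fn

/-- **[FIN]** -/
theorem mem_In_of_inv {G : Type} [Group G] [Finite G] {p : ℕ} [Fact p.Prime] {M : Ideal AlgInt}
    {b : Set (IrrCharacter G)} {D : Subgroup G} {θ : G → ℂ} (h : Can p M b D θ) {A : Subgroup G} (hA : A ≤ Ce D)
    (hc : ∀ a ∈ A, ∀ a1 ∈ A, a * a1 = a1 * a) (hn : ∀ c ∈ Ce D, ∀ a ∈ A, c * a * c⁻¹ ∈ A)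
    (hv : ∀ c ∈ Ce D, c ∉ A → θ c = 0) (ho : Odd (Nat.card (Ce D))) {t : G} (ht : t ∈ In D θ)
    (htA : ∀ a ∈ A, t * a * t⁻¹ ∈ A) (ht2 : ∀ a ∈ A, t * (t * a * t⁻¹) * t⁻¹ = a) {m : G}
    (hm : m ∈ Subgroup.normalizer (D : Set G)) (hmA : ∀ a ∈ A, m * a * m⁻¹ ∈ A)
    (hi : ∀ a ∈ A, t * (m * a * m⁻¹ * a⁻¹) * t⁻¹ = (m * a * m⁻¹ * a⁻¹)⁻¹) : m ∈ In D θ := by
  have : (A.subgroupOf (Ce D)).Normal := ⟨fun n hn' c => hn c c.2 n hn'⟩
  have := Fintype.ofFinite (A.subgroupOf (Ce D))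
  let cj : ∀ x : G, (∀ a ∈ A, x * a * x⁻¹ ∈ A) → (A.subgroupOf (Ce D) →* A.subgroupOf (Ce D)) := fun x hx =>
    { toFun := fun n => ⟨⟨x * n.1.1 * x⁻¹, hA (hx _ n.2)⟩, hx _ n.2⟩
      map_one' := Subtype.ext (Subtype.ext (by simp only [_root_.OneMemClass.coe_one, _root_.mul_one, _root_.mul_inv_cancel]))
      map_mul' := fun a c => Subtype.ext (Subtype.ext (by simp only [mul_assoc, _root_.Subgroup.coe_mul, _root_.MulMemClass.mk_mul_mk, _root_.inv_mul_cancel_left])) }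
  have hab : ∀ x y : A.subgroupOf (Ce D), x * y = y * x := fun x y => Subtype.ext (Subtype.ext (hc _ x.2 _ y.2))
  obtain ⟨f, f1, f2, f3⟩ := Fn.exists_fix ho h.irr (cj t htA) (fun n => ht.2 _)
    fun n => Subtype.ext (Subtype.ext (ht2 _ n.2))
  have h1 : ∀ n, f (cj m hmA n) = f n := fun n => by
    rw [← Fn.mul_eq hab f1 (u := cj m hmA n * n⁻¹) ?_ ?_ n, inv_mul_cancel_right]
    · exact ho.of_dvd_nat ((_root_.orderOf_dvd_natCard _).trans (card_subgroup_dvd_card _))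
    · rw [← f3 (cj m hmA n * n⁻¹)]
      exact congrArg f (Subtype.ext (Subtype.ext (hi _ n.2).symm))
  let β : Ce D →* Ce D :=
    { toFun := fun c => ⟨m * c * m⁻¹, conj_mem_Ce hm c.2⟩
      map_one' := Subtype.ext (by simp)
      map_mul' := fun a c => Subtype.ext (by simp only [mul_assoc, _root_.Subgroup.coe_mul, _root_.MulMemClass.mk_mul_mk, _root_.inv_mul_cancel_left]) }
  have h2 : Function.Injective β := fun a c e => by
    have h6 := congrArg Subtype.val e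
    change m * a * m⁻¹ = m * c * m⁻¹ at h6
    exact Subtype.ext (mul_left_cancel (mul_right_cancel h6))
  have h3 : Function.Injective (cj m hmA) := fun a c e => Subtype.ext (h2 (congrArg Subtype.val e))
  have h4 := Fn.eq_of_van h.irr (isIrr_comp β (Finite.injective_iff_surjective.1 h2) h.irr) (fun c => hv c c.2) f1 f2
    fun e => f2 (by
      refine Eq.trans ?_ e
      rw [classInner_def, classInner_def, ← Equiv.sum_comp (Equiv.ofBijective _ (Finite.injective_iff_bijective.1 h3))]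
      exact congrArg _ (Finset.sum_congr rfl fun n _ => congrArg (_ * starRingEnd ℂ ·) (h1 n)))
  refine ⟨fun y => (mem_normalizer_iff.1 hm y).symm, fun g => ?_⟩
  show θ (m * g * m⁻¹) = θ g
  by_cases hg : g ∈ Ce D
  · exact (congrFun h4 ⟨g, hg⟩).symm
  · rw [h.zero g hg, h.zero _ fun h5 => hg ?_]
    have h6 := conj_mem_Ce (inv_mem hm) h5
    rwa [show m⁻¹ * (m * g * m⁻¹) * m⁻¹⁻¹ = g by group] at h6

end Cfsg.Agent.TO.E6
end

-- part: TO/E6/TorB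
section
/-!
# S4817, rows `E₆(q)`, `²E₆(q)` at `p = 3`: a toral plane, the block (helper91)
-/

set_option autoImplicit false
set_option linter.unusedSectionVars false

namespace Cfsg.Agent.TO.E6

open Cfsg Cfsg.Lie Matrix Cfsg.Agent.KZ.DatX Cfsg.Agent.Nodes Cfsg.Agent.DL Cfsg.Agent.DL.PP Cfsg.Agent.DL.Uni
open Cfsg.Agent.TO.X Cfsg.Agent.BHZ.Exc
open Cfsg.Agent.H469.Exc (KK)
open Cfsg.Agent.DS.Ex (YY)

attribute [local instance] Nat.fact_prime_three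

theorem Fx.mul {A B : Matrix (Fin 6) (Fin 6) ℤ} (h : Fx A) (h' : Fx B) : Fx (A * B) :=
  ⟨h.ra.mul h'.ra, by rw [mv_mul, h'.u, h.u], by rw [mv_mul, h'.x, h.x]⟩

theorem mv_neg (A : Matrix (Fin 6) (Fin 6) ℤ) (v : Fin 6 → ZMod 3) : mv (-A) v = -mv A v := by
  rw [← neg_one_smul ℤ A, smul_mv, Int.cast_neg, Int.cast_one, neg_one_smul]

theorem u0_mem : u0 ∈ B0 := Submodule.subset_span (Set.mem_insert _ _)

theorem x0_mem : x0 ∈ B0 := Submodule.subset_span (Set.mem_insert_of_mem _ rfl)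

variable {r : ℕ} [hr : Fact r.Prime] {S : Type} [Group S] {Γ : St r S} {E : Tor Γ.X} {ζ : (KK r)ˣ}
  {hζ : IsPrimitiveRoot ζ 3} {G : Type} [Group G] [Finite G] {σ : G →* S} {A : Subgroup (MulAut S)} {D : Subgroup G}

theorem rp_T {w : CoxeterMatrix.E₆.Group} {m t : YY chevE6 r} (hm : E.Rp w m) (ht : t ∈ E.T) : m * t * m⁻¹ ∈ E.T := by
  obtain ⟨c, rfl⟩ := E.mem_T.1 ht
  rw [E.conj_τ hm]
  exact E.τ_mem _

namespace Sp

variable (K : Sp E hζ A (D.map σ)) (hσ : Function.Bijective σ)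
include K hσ

theorem finj : Function.Injective (Γ.s.ι.comp σ) := Γ.inj.comp hσ.1

theorem memD {g : G} : g ∈ D ↔ ∃ v ∈ B0, (Γ.s.ι.comp σ) g = E.e ζ v := (Subgroup.mem_map_iff_mem hσ.1).symm.trans K.mem_Q

theorem exD {v : Fin 6 → ZMod 3} (hv : v ∈ B0) : ∃ d ∈ D, (Γ.s.ι.comp σ) d = E.e ζ v := by
  obtain ⟨_, ⟨d, h1, rfl⟩, h2⟩ := K.B_le hv
  exact ⟨d, h1, h2⟩

theorem ceQ {g : G} (hg : g ∈ Ce D) : σ g ∈ Ce (D.map σ) := by
  rintro _ ⟨d, h1, rfl⟩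
  rw [← map_mul, ← map_mul, hg d h1]

theorem T_le : E.T.comap (Γ.s.ι.comp σ) ≤ Ce D := fun g hg d hd => K.finj hσ (by
  rw [map_mul, map_mul]
  exact E.T_comm (K.Q_le ⟨d, hd, rfl⟩) hg)

theorem D_le : D ≤ E.T.comap (Γ.s.ι.comp σ) := fun d hd => K.Q_le ⟨d, hd, rfl⟩

theorem card_D : Nat.card D = 9 := by
  have h1 : (Γ.s.ι.comp σ) '' D = E.e ζ '' (B0 : Set (Fin 6 → ZMod 3)) := by
    refine Set.Subset.antisymm ?_ ?_
    · rintro _ ⟨d, hd, rfl⟩
      obtain ⟨v, h1, h2⟩ := (K.memD hσ).1 hd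
      exact ⟨v, h1, h2.symm⟩
    · rintro _ ⟨v, hv, rfl⟩
      exact K.exD hσ hv
  have h2 := Nat.card_image_of_injective (K.finj hσ) (D : Set G)
  rw [h1, Nat.card_image_of_injective (E.e_inj hζ)] at h2
  refine h2.symm.trans ((Module.natCard_eq_pow_finrank (K := ZMod 3) (V := B0)).trans ?_)
  rw [finrank_B0, Nat.card_zmod]
  rfl

theorem reg_mem {g : G} (hg : g ∈ Ce D) (h : ¬ 3 ∣ orderOf g) : g ∈ E.T.comap (Γ.s.ι.comp σ) :=
  K.T0_le ⟨σ g, ⟨K.ceQ hσ hg, by rwa [orderOf_injective _ hσ.1]⟩, rfl⟩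

theorem odd : Odd (Nat.card (Ce D)) := by
  by_contra h0
  obtain ⟨c, hc⟩ := exists_prime_orderOf_dvd_card' (G := Ce D) 2 (Nat.not_odd_iff_even.1 h0).two_dvd
  rw [← Subgroup.orderOf_coe] at hc
  obtain ⟨q, h, F⟩ := exists_fq E
  have h1 := F.pow_odd (K.good F) (K.reg_mem hσ c.2 (by rw [hc]; decide)) (Γ.fix _)
  obtain ⟨n, hn⟩ := Int.even_mul_succ_self (q ^ 2)
  have h2 : (c : G) ^ (2 : ℤ) = 1 := by rw [← pow_orderOf_eq_one (c : G), hc, ← zpow_natCast, Nat.cast_ofNat]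
  rw [show 1 + q ^ 2 + q ^ 4 = 1 + 2 * n by linear_combination hn, ← map_zpow, _root_.zpow_add, _root_.zpow_mul, h2,
    _root_.one_zpow, mul_one, zpow_one, map_eq_one_iff _ (K.finj hσ)] at h1
  rw [h1, orderOf_one] at hc
  exact absurd hc (by decide)

/-- an element which inverts `D` -/
theorem exists_inv {t : G} (ht : ∀ d ∈ D, t * d * t⁻¹ = d⁻¹) : ∃ w, E.Rp w ((Γ.s.ι.comp σ) t) ∧ Fx (-wm Γ.X w) := by
  obtain ⟨w, hw⟩ := E.mem_NN.1 (mem_NN_of_empty E.D (Z := E.e ζ '' (B0 : Set (Fin 6 → ZMod 3))) (by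
    rintro _ ⟨v, -, rfl⟩
    exact E.e_mem ζ v) K.Sz_B (Subgroup.mem_top ((Γ.s.ι.comp σ) t)) (by
    rintro _ ⟨v, hv, rfl⟩
    obtain ⟨d, h1, h2⟩ := K.exD hσ hv
    have h3 := ht _ (inv_mem h1)
    rw [inv_inv] at h3
    rw [← h2, ← map_inv, ← map_mul, ← map_mul, ← h3, show t⁻¹ * (t * d⁻¹ * t⁻¹) * t = d⁻¹ by group]
    exact K.D_le hσ (inv_mem h1)))
  have key : ∀ v ∈ B0, mv (-wm Γ.X w) v = v := fun v hv => by
    obtain ⟨d, h1, h2⟩ := K.exD hσ hv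
    rw [mv_neg, neg_eq_iff_eq_neg]
    refine E.e_inj hζ ?_
    rw [← E.conj_e hζ hw, E.e_neg hζ, ← h2, ← map_inv, ← map_mul, ← map_mul, ht d h1, map_inv]
  exact ⟨w, hw, (ra_wm w).neg hpE6, key _ u0_mem, key _ x0_mem⟩

/-- representatives in the finite group -/
theorem exists_rep {q : ℤ} {h : Matrix (Fin 6) (Fin 6) ℤ} (F : Fq E q h) {w : CoxeterMatrix.E₆.Group}
    (hw : h * wm Γ.X w = wm Γ.X w * h) : ∃ m, E.Rp w ((Γ.s.ι.comp σ) m) := by
  obtain ⟨m, m1, m2⟩ := E.exists_rp_fix (F.comm.2 hw)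
  have key : ∀ y ∈ Γ.s.ι.range, E.Rp w y → ∃ m, E.Rp w ((Γ.s.ι.comp σ) m) := by
    rintro _ ⟨a, rfl⟩ h1
    obtain ⟨g, rfl⟩ := hσ.2 a
    exact ⟨g, h1⟩
  rcases F.d with h1 | h1
  · exact key m (Γ.mem_of_one h1 m2) m1
  · obtain ⟨n, hn⟩ := Γ.exists_zpow (g := E.e ζ mu)
      ((E.fix_iff hζ).2 ((F.mv_A _).trans (K.L.gw h (K.fx F) (K.good F) h1).2))
      (fun ⟨a, ha⟩ => K.not_cj E (K.mem_KK (ha ▸ E.e_mem ζ mu)) ha (by decide) K.L.nzm) m2
    exact key _ hn (by simpa only [mul_one] using m1.mul (E.rp_one_iff.2 (inv_mem (zpow_mem (E.e_mem ζ mu) n))))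

theorem fin {M : Ideal AlgInt} {b : Set (IrrCharacter G)} (H : Two 3 M b D) : False := by
  obtain ⟨θ, hθ⟩ := blk.can0 G 3 M b D H.hM H.hb H.hD ((K.D_le hσ).trans (K.T_le hσ))
  obtain ⟨t, t1, t2⟩ := blk.neg G 3 M b D θ H hθ (Or.inr (K.card_D hσ))
  obtain ⟨q, h, F⟩ := exists_fq E
  obtain ⟨w, w1, w2⟩ := K.exists_inv hσ t2
  have w3 : E.Rp (w * w * w) ((Γ.s.ι.comp σ) (t * t * t)) := by
    rw [map_mul, map_mul]
    exact (w1.mul w1).mul w1
  have w4 : wm Γ.X (w * w * w) * wm Γ.X (w * w * w) = 1 := by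
    rw [← K.L.six _ w2, map_mul, map_mul]
    noncomm_ring
  have w5 : Fx (-wm Γ.X (w * w * w)) := by
    have h1 := (w2.mul w2).mul w2
    rwa [neg_mul_neg, mul_neg, ← map_mul, ← map_mul] at h1
  obtain ⟨c, c1, c2, c3, c4, c5, c6⟩ := K.L.fin h _ (K.fx F) (K.good F) w5 (WM_wm _ _) w4
    (F.comm.1 (E.comm_of_fix w3 (Γ.fix _))).symm
  obtain ⟨v, rfl⟩ := c1.exists_w Γ.X
  obtain ⟨m, hm⟩ := K.exists_rep hσ F c3.symm
  have k0 : ∀ {x : G} {u : CoxeterMatrix.E₆.Group}, E.Rp u ((Γ.s.ι.comp σ) x) → ∀ a ∈ E.T.comap (Γ.s.ι.comp σ),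
      x * a * x⁻¹ ∈ E.T.comap (Γ.s.ι.comp σ) := fun hx a ha => by
    rw [Subgroup.mem_comap, map_mul, map_mul, map_inv]
    exact rp_T hx ha
  have k1 : m ∈ In D θ := by
    refine mem_In_of_inv hθ (K.T_le hσ) (fun a ha a' ha' => K.finj hσ ?_) (fun c hc => ?_) (fun c hc hn => ?_) (K.odd hσ)
      (mul_mem (mul_mem t1 t1) t1) (k0 w3) (fun a ha => K.finj hσ ?_) (Subgroup.mem_normalizer_fintype fun d hd => ?_)
      (k0 hm) fun a ha => K.finj hσ ?_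
    · rw [map_mul, map_mul]
      exact E.T_comm ha ha'
    · obtain ⟨u, h1, -⟩ := cent_of_empty hζ E K.reg (K.comm (K.ceQ hσ hc))
      exact k0 h1
    · obtain ⟨x, y, y1, y2, ⟨k, y3⟩, y4⟩ := Blocks.PPart.exists_isPPart 3 (⟨c, hc⟩ : Ce D)
      have y5 : (x : G) * y = c := congrArg Subtype.val y1
      refine hθ.van (x := x) ⟨y, y5, congrArg Subtype.val y2.eq, ⟨k, by rw [Subgroup.orderOf_coe, y3]⟩,
        by rwa [Subgroup.orderOf_coe]⟩ fun h4 => hn ?_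
      rw [← y5]
      exact mul_mem (K.D_le hσ h4) (K.reg_mem hσ y.2 (by rwa [Subgroup.orderOf_coe]))
    · obtain ⟨x, hx⟩ := E.mem_T.1 ha
      rw [map_mul _ _ (_⁻¹), map_mul _ _ (_ * _⁻¹), map_mul _ _ (_⁻¹), map_mul _ _ a, map_inv, ← hx, E.conj_τ w3,
        E.conj_τ w3, ← mon_mul, w4, mon_one]
    · obtain ⟨x, h1, h2⟩ := (K.memD hσ).1 hd
      exact (K.memD hσ).2 ⟨_, c5 x h1, by rw [map_mul, map_mul, map_inv, h2, E.conj_e hζ hm]⟩
    · obtain ⟨x, hx⟩ := E.mem_T.1 ha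
      have h1 : (Γ.s.ι.comp σ) (m * a * m⁻¹ * a⁻¹) = E.τ (mon (wm Γ.X v - 1) x) := by
        rw [map_mul, map_mul, map_mul, map_inv, map_inv, ← hx, E.conj_τ hm, mon_sub, mon_one, map_mul, map_inv]
      rw [add_mul, one_mul, add_eq_zero_iff_eq_neg] at c4
      rw [map_inv, map_mul _ _ (_⁻¹), map_mul _ _ (_ * a⁻¹), map_inv, h1, E.conj_τ w3, ← mon_mul, c4, mon_neg, map_inv]
  have k2 : m ∈ Ce D := by
    refine hθ.mem_Ce_of_pow k1 (k := 1) (K.T_le hσ ?_)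
    have h1 : v * v * v = 1 := wm_inj Γ.X (by rw [map_one, ← c2, map_mul, map_mul, pow_three'])
    have h2 := (hm.mul hm).mul hm
    rw [h1, ← map_mul, ← map_mul] at h2
    rw [pow_one, pow_three']
    exact E.rp_one_iff.1 h2
  have k3 : ∀ x ∈ B0, mv (wm Γ.X v) x = x := fun x hx => E.e_inj hζ (by
    rw [← E.conj_e hζ hm, mul_inv_eq_iff_eq_mul]
    exact (K.comm (K.ceQ hσ k2) x hx).symm)
  exact c6 ⟨k3 _ u0_mem, k3 _ x0_mem⟩

end Sp

/-- **the toral case** -/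
theorem tor_false (L : Lt) (Γ : St r S) {M : Ideal AlgInt} {b : Set (IrrCharacter G)} (H : Hyp 3 M b D σ)
    (hζ : IsPrimitiveRoot ζ 3) (E : Tor Γ.X) (hu : u0 ∈ vs Γ.s hζ E (D.map σ)) (hx : x0 ∈ vs Γ.s hζ E (D.map σ)) :
    False := by
  have K : Sp E hζ (Ind σ b) (D.map σ) := ⟨L, blk.pure G 3 M b D S σ H, hu, hx⟩
  rcases Γ.centre H with h | ⟨h1, h2, -⟩
  · exact K.fin ⟨(MonoidHom.ker_eq_bot_iff σ).1 (H.ker.trans h), H.surj⟩ H.toTwo
  · exact K.not_two h1 h2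

end Cfsg.Agent.TO.E6
end

private theorem dce_c13672e2fb84 : _root_.True := by
  try have : _root_.True := by simp only [_root_.Cfsg.Agent.TO.E6.R6.eq_1]
  try have : _root_.True := by simp only [_root_.Cfsg.Agent.TO.E6N.ee.eq_1]
  exact _root_.True.intro
end
end
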