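import Cfsg.Agent.TO.T3.Qf
import Cfsg.Agent.TO.G2D.G2_mg_m3
import Cfsg.Agent.TO.Blk_m3
import Cfsg.Agent.TO.X.Plane
import Cfsg.Agent.TO.X5.Abs_mg_m3
import Cfsg.Agent.DS.Nt.Kac
import Cfsg.Agent.Lib.FinFast
import Cfsg.Agent.Lib.FastDecM
import Cfsg.Agent.DS.Nt.JThree
import Cfsg.Agent.DS.Nt.Cnt
import Cfsg.Agent.ChevFast.E7
import Cfsg.Agent.ChevFast.E8
import Cfsg.Agent.TO.X7F.Main_m3
import Cfsg.Agent.SB.TwF.Tor
import Cfsg.Agent.H670.Hg.Cls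
import Cfsg.Agent.Blocks.FullDefect
import Cfsg.Agent.TO.LU.Main_m3
import Cfsg.Agent.FastGrp
import Cfsg.Agent.Prune
set_option linter.all false

section
prune_inst 0x7f9cbcf9ada8a5dfdfff7e3ffefddffdd9a86fffe6dffdcbffe863df3bdf63008fe5fb8f8fe090ff0ed6e29410387853fbfffeffe86bdc7ffffd5ff41ffbee1fe5f63508519498340f300fff0bf07f8a7f3fffffffffffffffffffffffffffbeffffffffffff

-- part: TO/T3/Pk
section
prune_inst 0x62010242501a20000000400002000220519000000002000000802080000c0870000020100042001000002a81c2030004000100060420000000a000400011c018018880004a0480008e00006008004400000000000000000000000000000000000000000000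
set_option linter.all false
open scoped Cfsg.Agent.FastGrp

/-!
# S4817, `p = 3`, `E₇` and `E₈`: the package (helper1)
-/

set_option autoImplicit false
set_option linter.unusedSectionVars false

namespace Cfsg.Agent.TO.T3

open CoxeterSystem Cfsg Cfsg.Lie Cfsg.Lie.ChevalleyDatum Subgroup
open Cfsg.Agent.ChevalleyStructure Cfsg.Agent.ChevalleyStructure.Elts Cfsg.Agent.ChevalleyStructure.CoxeterGeom
  Cfsg.Agent.ChevalleyStructure.CoxeterGeomTypes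
open Cfsg.Agent.Tits.Roots Cfsg.Agent.Nodes Cfsg.Agent.Nodes.RGDChev
open Cfsg.Agent.KFacts.RgdField Cfsg.Agent.KFacts.RgdChevCoord Cfsg.Agent.BpExc Cfsg.Agent.BpExc.Fr
  Cfsg.Agent.BpExc.LangFr
open Cfsg.Agent.H469.Exc Cfsg.Agent.H129.TorusChar Cfsg.Agent.DS.Ex Cfsg.Agent.DS.Nt Cfsg.Agent.H931.KC
open Cfsg.Agent.H605.MX Cfsg.Agent.H81.TorOrth
open Matrix.SpecialLinearGroup (transvection)

variable {D : ChevalleyDatum} {l : ℕ} {M : CoxeterMatrix (Fin l)} (hp : IsType D l M) (r : ℕ) [Fact r.Prime]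

/-- the data -/
structure Cx (i : Fin l) (ρ : Fin 3 → Fin 3 → ℕ) (ψ : Matrix.SpecialLinearGroup (Fin 3) (KK r) →* YY D r) : Prop where
  typ : D = chevE7 ∨ D = chevE8
  jd : ∃ cf, JD hp r 3 i ρ cf ψ
  tb : ∃ j B d ε, Tb D l i j ρ B d ε

variable {hp r}

theorem exists_cx (h3 : r ≠ 3) (typ : D = chevE7 ∨ D = chevE8) {i j : Fin l} {ρ : Fin 3 → Fin 3 → ℕ}
    {cf : List (ℕ × ℤ)} {B : Fin l → Fin l → ℤ} {d ε : ℤ} (T : Tab D 3 i ρ cf) (T' : Tb D l i j ρ B d ε)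
    (hb : TitsThree.KExcRT.RTb D ρ fun _ _ => 1) (hc : TitsThree.KExcRT.RTc D ρ)
    (h : ∀ j < D.rank, 0 ≤ RootVec.rt D (ρ 0 1) j ∧ 0 ≤ RootVec.rt D (ρ 1 2) j) (h4 : ρ 0 1 ≠ ρ 1 2) :
    ∃ ψ, Cx hp r i ρ ψ := by
  obtain ⟨ψ, hψ⟩ := exists_psi3 hp (KK r) (fun _ _ hab => T.lt hab) hb hc fun _ _ hab => T.neg hab
  exact ⟨ψ, typ, ⟨cf, Nat.prime_three, h3.symm, by norm_num, T, hψ, 0, 2, by decide, 2, by norm_num,
    pos_three hp T (fun j => (h j (lt_rank hp j)).1) (fun j => (h j (lt_rank hp j)).2) (funext T'.sum) h4⟩,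
    j, B, d, ε, T'⟩

theorem cx_E7 {M : CoxeterMatrix (Fin 7)} (hp : IsType chevE7 7 M) (h3 : r ≠ 3) :
    ∃ ψ, Cx hp r 2 (rho3 chevE7 93 124) ψ :=
  exists_cx h3 (Or.inl rfl) tab_E7_3 tb_E7 (by decide +kernel) (by decide +kernel) (by decide +kernel)
    (by decide +kernel)

theorem cx_E8 {M : CoxeterMatrix (Fin 8)} (hp : IsType chevE8 8 M) (h3 : r ≠ 3) :
    ∃ ψ, Cx hp r 6 (rho3 chevE8 120 238) ψ :=
  exists_cx h3 (Or.inr rfl) tab_E8_3 tb_E8 (by decide +kernel) (by decide +kernel) (by decide +kernel)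
    (by decide +kernel)

theorem cen_TT (hp : IsType D l M) {s : YY D r} (h : ∀ t ∈ TT D (KK r), t * s = s * t) : s ∈ TT D (KK r) :=
  (DL.Ex.chev (p := r) hp (locFin r) one_pos).centralizer_T.le ⟨trivial, h⟩

theorem conn3 {P : Fin 3 → Fin 3 → Prop} (h1 : ∀ x y, x ≠ y → P x y → P y x)
    (h2 : ∀ x y w, x ≠ y → y ≠ w → x ≠ w → P x y → P y w) {x y : Fin 3} (hxy : x ≠ y) (h : P x y) :
    ∀ a b, a ≠ b → P a b := by
  have a1 := h2 0 1 2 (by decide) (by decide) (by decide)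
  have a2 := h2 1 2 0 (by decide) (by decide) (by decide)
  have a3 := h2 2 0 1 (by decide) (by decide) (by decide)
  have e : ∀ a b : Fin 3, a ≠ b → (a = 0 ∧ b = 1) ∨ (a = 1 ∧ b = 2) ∨ (a = 2 ∧ b = 0) ∨ (a = 1 ∧ b = 0) ∨
      (a = 2 ∧ b = 1) ∨ (a = 0 ∧ b = 2) := by decide
  have a4 : P 0 1 := by
    rcases e x y hxy with ⟨rfl, rfl⟩ | ⟨rfl, rfl⟩ | ⟨rfl, rfl⟩ | ⟨rfl, rfl⟩ | ⟨rfl, rfl⟩ | ⟨rfl, rfl⟩
    exacts [h, a3 (a2 h), a3 h, h1 _ _ hxy h, a3 (a2 (h1 _ _ hxy h)), a3 (h1 _ _ hxy h)]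
  intro a b hab
  rcases e a b hab with ⟨rfl, rfl⟩ | ⟨rfl, rfl⟩ | ⟨rfl, rfl⟩ | ⟨rfl, rfl⟩ | ⟨rfl, rfl⟩ | ⟨rfl, rfl⟩
  exacts [a4, a1 a4, a2 (a1 a4), h1 _ _ hab.symm a4, h1 _ _ hab.symm (a1 a4), h1 _ _ hab.symm (a2 (a1 a4))]

/-- the Frobenius maps preserve the class -/
theorem frob_mem_Om {σ : MulAut (YY D r)} {e : ℕ} (hσ : IsFrob r e σ)
    (F : Fr M.toCoxeterSystem hp.isCartan (TT D (KK r)) (XX D l (KK r)) σ (AddEquiv.refl _)) (h3 : r ≠ 3) {i : Fin l}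
    {z : YY D r} (hz : z ∈ Om hp r 3 i) : σ z ∈ Om hp r 3 i := by
  obtain ⟨g, ζ, hζ, hs⟩ := hz
  have e1 : σ g * σ z * (σ g)⁻¹ = σ (g * z * g⁻¹) := by rw [map_mul, map_mul, map_inv]
  refine ⟨σ g, ζ ^ r ^ e, hζ.pow_of_coprime _ (Nat.Coprime.pow_left _
    ((Nat.coprime_primes Fact.out Nat.prime_three).2 h3)), ?_, fun x => ?_⟩
  · rw [e1]
    exact (F.tor _).2 hs.1
  · have h1 := cX_sigma hp M.toCoxeterSystem hσ F hs.1 x
    rw [e1, ← zpow_natCast, ← zpow_mul, mul_comm, zpow_mul, zpow_natCast, ← hs.2]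
    exact h1

namespace Cx

variable {i : Fin l} {ρ : Fin 3 → Fin 3 → ℕ} {ψ : Matrix.SpecialLinearGroup (Fin 3) (KK r) →* YY D r}
  (C : Cx hp r i ρ ψ)

include C

theorem ne : r ≠ 3 := let ⟨_, J⟩ := C.jd; J.ne.symm

theorem ty : Typ D := C.typ.elim (fun h => Or.inr (Or.inr (Or.inl h))) fun h => Or.inr (Or.inr (Or.inr h))

theorem js : JS hp r 3 i (JJ hp r i ψ) := let ⟨_, J⟩ := C.jd; J.js fun _ h => absurd h (by norm_num)

theorem tp {z y : YY D r} (hz : z ^ 3 = 1) (hy : y ^ 3 = 1) (h : y * z = z * y) : Tp r z y := by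
  obtain ⟨K, h1, -, h2 | ⟨h2, -⟩ | ⟨-, h2, -⟩⟩ := exists_DD hp C.ty Nat.prime_three C.ne.symm hz
  · exact (h1 y h ⟨1, hy⟩).2 (h2 y h)
  · have a := typ_l hp
    rcases C.typ with h3 | h3
    · have := a.2.1 h2; have := a.2.2.1 h3; omega
    · have := a.2.1 h2; have := a.2.2.2 h3; omega
  · omega

theorem pair {z y : YY D r} (hz : z ∈ Om hp r 3 i) (hy : y ^ 3 = 1) (h : y * z = z * y) :
    ∃ (g : YY D r) (ζ : KK r), IsPrimitiveRoot ζ 3 ∧ Std hp r ζ i (g * z * g⁻¹) ∧ g * y * g⁻¹ ∈ TT D (KK r) :=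
  exists_std_pair hz (C.tp (Qf.pow_of_Om hz) hy h)

/-- the roots of the block as differences -/
theorem exists_e : ∃ e : Fin 3 → Fin l → ℤ, ∀ a b, a ≠ b → vec D l (ρ a b) = e a - e b := by
  obtain ⟨cf, J⟩ := C.jd
  obtain ⟨j, B, d, ε, T⟩ := C.tb
  have h3 : vec D l (ρ 0 2) = vec D l (ρ 0 1) + vec D l (ρ 1 2) := funext T.sum
  have n : ∀ a b, a ≠ b → vec D l (ρ b a) = -vec D l (ρ a b) := fun a b h => by
    rw [J.tab.neg h, vec_neg hp (J.tab.lt h)]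
  refine ⟨![vec D l (ρ 0 1) + vec D l (ρ 1 2), vec D l (ρ 1 2), 0], conn_aux n h3⟩
where
  conn_aux {f : Fin 3 → Fin 3 → Fin l → ℤ} (n : ∀ a b, a ≠ b → f b a = -f a b) (h3 : f 0 2 = f 0 1 + f 1 2) :
      ∀ a b, a ≠ b → f a b = ![f 0 1 + f 1 2, f 1 2, 0] a - ![f 0 1 + f 1 2, f 1 2, 0] b := by
    have n1 := n 0 1 (by decide)
    have n2 := n 1 2 (by decide)
    have n3 := n 0 2 (by decide)
    intro a b hab
    fin_cases a <;> fin_cases b <;> first | exact absurd rfl hab | simp [n1, n2, n3, h3]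

/-- the torus acts by diagonal matrices -/
theorem T_inn {t : YY D r} (ht : t ∈ TT D (KK r)) : ∃ d v, SL.Dg d v ∧ JL.Inn ψ t d ∧
    ∀ a b, a ≠ b → v a = cX hp t (vec D l (ρ a b)) * v b := by
  obtain ⟨cf, J⟩ := C.jd
  obtain ⟨e, he⟩ := C.exists_e
  have hm := isMC_cX hp ht
  have h0 : cX hp t (e 0) * cX hp t (e 1) * cX hp t (e 2) ≠ 0 :=
    mul_ne_zero (mul_ne_zero (hm.ne_zero _) (hm.ne_zero _)) (hm.ne_zero _)
  obtain ⟨μ, hμ⟩ := IsAlgClosed.exists_pow_nat_eq (cX hp t (e 0) * cX hp t (e 1) * cX hp t (e 2))⁻¹ (n := 3) (by norm_num)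
  obtain ⟨d, hd⟩ := SL.exists_dg (fun a => μ * cX hp t (e a)) (by
    have h1 := inv_mul_cancel₀ h0
    rw [← hμ] at h1
    linear_combination h1)
  have h1 : ∀ a b, a ≠ b → μ * cX hp t (e a) = cX hp t (vec D l (ρ a b)) * (μ * cX hp t (e b)) := fun a b hab => by
    rw [he a b hab, hm.sub]
    field_simp [hm.ne_zero (e b)]
  refine ⟨d, _, hd, fun g => ?_, h1⟩
  have := J.nontriv
  refine LieClassical.SLGen.transvection_induction (fun g => t * ψ g * t⁻¹ = ψ (d * g * d⁻¹)) (fun a b hab c => ?_)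
    (fun a b ha hb => ?_) g
  · show t * ψ (transvection hab c) * t⁻¹ = ψ (d * transvection hab c * d⁻¹)
    have h2 : d * transvection hab c = transvection hab (cX hp t (vec D l (ρ a b)) * c) * d := by
      apply Subtype.ext
      show (d : Matrix _ _ _) * (1 + Matrix.single a b c) = (1 + Matrix.single a b (_ * c)) * (d : Matrix _ _ _)
      rw [hd, Matrix.mul_add, Matrix.add_mul, Matrix.mul_one, Matrix.one_mul]
      refine congrArg (HAdd.hAdd _) ?_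
      ext x y
      rw [Matrix.diagonal_mul, Matrix.mul_diagonal, Matrix.single_apply, Matrix.single_apply]
      split_ifs with h
      · obtain ⟨rfl, rfl⟩ := h
        rw [h1 a b hab]
        ring
      · rw [mul_zero, zero_mul]
    rw [h2, mul_inv_cancel_right, J.tv, J.tv, xs_eq_xc hp (J.tab.lt hab), xs_eq_xc hp (J.tab.lt hab),
      cX_vec hp ht (J.tab.lt hab)]
    exact (act hp (J.tab.lt hab) ht).2 c
  · show t * ψ (a * b) * t⁻¹ = ψ (d * (a * b) * d⁻¹)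
    calc t * ψ (a * b) * t⁻¹ = t * ψ a * t⁻¹ * (t * ψ b * t⁻¹) := by rw [map_mul]; group
      _ = ψ (d * a * d⁻¹ * (d * b * d⁻¹)) := by rw [ha, hb, ← map_mul]
      _ = _ := congrArg ψ (by group)

theorem reg_std {ζ : KK r} (hζ : IsPrimitiveRoot ζ 3) {z y : YY D r} (hz : Std hp r ζ i z) (hy : y ∈ TT D (KK r))
    (h1 : y ∈ Om hp r 3 i) (h2 : y * z ∈ Om hp r 3 i) (h3 : y ∉ Ce ψ.range) :
    ∃ d v ω, IsPrimitiveRoot ω 3 ∧ SL.Dg d v ∧ v 0 = ω * v 1 ∧ v 1 = ω * v 2 ∧ JL.Inn ψ y d := by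
  obtain ⟨cf, J⟩ := C.jd
  obtain ⟨j, B, d, ε, T⟩ := C.tb
  obtain ⟨d, v, a1, a2, a3⟩ := C.T_inn hy
  have a4 := a3 0 1 (by decide)
  have a5 := a3 1 2 (by decide)
  rw [← Qf.dich T hζ hz hy h1 h2] at a5
  refine ⟨d, v, _, JL.prim_of Nat.prime_three (by rw [← cX_pow hp hy, Qf.pow_of_Om h1, cX_one]) fun h => h3 ?_,
    a1, a4, a5, a2⟩
  rw [h, one_mul] at a4 a5
  refine (a2.cen_iff (J.inj hζ hz)).2 (SL.Dg.cen (c := v 0) ?_)
  have e : (fun _ => v 0) = v := by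
    funext x
    fin_cases x
    exacts [rfl, a4, a4.trans a5]
  rw [e]
  exact a1

omit C in
theorem conj_Om {z y : YY D r} (h : y * z ∈ Om hp r 3 i) (g : YY D r) :
    g * y * g⁻¹ * (g * z * g⁻¹) ∈ Om hp r 3 i := by
  rw [show g * y * g⁻¹ * (g * z * g⁻¹) = g * (y * z) * g⁻¹ by group]
  exact conj_mem_Om h g

theorem reg {z y : YY D r} (h : Pl (· ∈ Om hp r 3 i) z y) (hn : y ∉ Ce (JJ hp r i ψ z)) :
    ∃ m, Reg (JJ hp r i ψ z) z y m := by
  obtain ⟨cf, J⟩ := C.jd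
  obtain ⟨g, ζ, hζ, hs, hy⟩ := C.pair h.t1 (Qf.pow_of_Om h.t2) h.comm
  obtain ⟨d, v, ω, a1, a2, a3, a4, a5⟩ := C.reg_std hζ hs hy (conj_mem_Om h.t2 g) (conj_Om h.t3 g)
    fun h1 => hn ((J.cen_JJ hζ hs).2 h1)
  rw [J.JJ_eq hζ hs]
  refine ⟨_, SL.reg a1 a2 a3 a4 (J.sd_conj hζ hs) (fun h1 => one_not_mem_Om Nat.prime_three (h1 ▸ h.t1)) fun x => ?_⟩
  show y * (g⁻¹ * ψ x * g⁻¹⁻¹) * y⁻¹ = g⁻¹ * ψ (d * x * d⁻¹) * g⁻¹⁻¹
  rw [← a5]
  group

theorem tor {z y : YY D r} (h : Pl (· ∈ Om hp r 3 i) z y) (hn : y ∉ Ce (JJ hp r i ψ z)) (hz : z ∈ TT D (KK r))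
    (hy : y ∈ TT D (KK r)) : JJ hp r i ψ z ⊓ Cu y ≤ TT D (KK r) := by
  obtain ⟨cf, J⟩ := C.jd
  obtain ⟨w, g, ζ, hg, hζ, hs⟩ := Qf.exists_std hz h.t1
  obtain ⟨d, v, ω, a1, a2, a3, a4, a5⟩ := C.reg_std hζ hs (hg.conj_mem hy) (conj_mem_Om h.t2 g) (conj_Om h.t3 g)
    fun h1 => hn ((J.cen_JJ hζ hs).2 h1)
  rintro s ⟨b1, b2⟩
  obtain ⟨x, u, hx, e⟩ := (SL.mem_iff a1 a2 a3 a4 (J.inj hζ hs) a5 (t := g * s * g⁻¹)).1
    ⟨(J.mem_JJ hζ hs).1 b1, mem_centralizer_singleton_iff.2 (conj_comm (mem_centralizer_singleton_iff.1 b2))⟩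
  rw [← hg.conj_iff, ← e]
  refine cen_TT hp fun t ht => ?_
  obtain ⟨d', v', c1, c2, -⟩ := C.T_inn ht
  exact (c2.comm (c1.comm hx)).symm

theorem three {z b : YY D r} (hz : z ∈ Om hp r 3 i) (hb : b ∈ JJ hp r i ψ z) (h : b ∈ Om hp r 3 i) :
    b ∈ zpowers z := by
  obtain ⟨cf, J⟩ := C.jd
  obtain ⟨j, B, d, ε, T⟩ := C.tb
  obtain ⟨g, ζ, hζ, hs, hy⟩ := C.pair hz (Qf.pow_of_Om h) (C.js.cen z hz b hb)
  obtain ⟨n, hn⟩ := Qf.mem_zpowers T hζ hs hy (conj_mem_Om h g) fun m h1 h2 => by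
    have a1 := isRoot_sr M.toCoxeterSystem hp.isCartan m
    refine cX_eq_one_of_comm hy a1 one_ne_zero (mem_centralizer_iff.1 (J.comm_out a1 ?_ ?_ (xc_mem a1 1)) _
      ((J.mem_JJ hζ hs).1 hb))
    · rw [sr_ne h1.symm]
      exact dvd_zero _
    · rintro ⟨x, y, hxy, e⟩
      exact T.blk x y hxy (by rw [← e, sr_ne h2.symm])
  refine ⟨n, ?_⟩
  have h1 : (g * z * g⁻¹) ^ n = g * b * g⁻¹ := hn
  rw [conj_zpow] at h1
  exact mul_left_cancel (mul_right_cancel h1)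

theorem two {z y : YY D r} (h : Pl (· ∈ Om hp r 3 i) z y) (hc : y ∈ Ce (JJ hp r i ψ z)) :
    JJ hp r i ψ y ≤ Ce (JJ hp r i ψ z) := by
  obtain ⟨cf, J⟩ := C.jd
  obtain ⟨e, he⟩ := C.exists_e
  obtain ⟨g, ζ, hζ, hs, hz⟩ := C.pair h.t2 (Qf.pow_of_Om h.t1) h.comm.symm
  obtain ⟨w, k, ζ', hk, hζ', hs'⟩ := Qf.exists_std hz (conj_mem_Om h.t1 g)
  have e1 : ∀ x : YY D r, k * g * x * (k * g)⁻¹ = k * (g * x * g⁻¹) * k⁻¹ := fun x => by group
  have hs'' : Std hp r ζ' i (k * g * z * (k * g)⁻¹) := by rw [e1]; exact hs'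
  have a1 := (J.cen_JJ hζ' hs'').1 hc
  rw [e1, J.T_cen_iff (hk.conj_mem hs.1)] at a1
  have a2 : ∀ a ∈ SR D l ρ, IsRoot M.toCoxeterSystem hp.isCartan (rep M.toCoxeterSystem hp.isCartan w⁻¹ a) :=
    fun a ha => (hk.inv.fr.root a).2 (J.tab.root hp ha)
  have a3 : ∀ a ∈ SR D l ρ, ((3 : ℕ) : ℤ) ∣ rep M.toCoxeterSystem hp.isCartan w⁻¹ a i := fun a ha => by
    have h1 := hk.inv.cX (hk.conj_mem hs.1) a
    rw [a1 a ha, show k⁻¹ * (k * (g * y * g⁻¹) * k⁻¹) * k⁻¹⁻¹ = g * y * g⁻¹ by group, hs.2] at h1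
    exact (hζ.zpow_eq_one_iff_dvd _).1 h1
  have a4 : ∀ K : Subgroup (YY D r), (∀ a ∈ SR D l ρ, XX D l (KK r) (rep M.toCoxeterSystem hp.isCartan w⁻¹ a) ≤ K) →
      ∀ x ∈ ψ.range, k⁻¹ * x * k ∈ K := fun K hK x hx => by
    have h1 : ψ.range ≤ K.comap (MulAut.conj k⁻¹).toMonoidHom := J.range_le fun a b hab c => by
      refine hK _ ⟨a, b, hab, rfl⟩ ((hk.inv.fr.map _ (J.tab.root hp ⟨a, b, hab, rfl⟩) _).2 ?_)
      rw [J.tv]
      exact xs_mem hp (J.tab.lt hab) c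
    have h2 : k⁻¹ * x * k⁻¹⁻¹ ∈ K := h1 hx
    rwa [inv_inv] at h2
  by_cases h1 : ∀ a ∈ SR D l ρ, rep M.toCoxeterSystem hp.isCartan w⁻¹ a ∉ SR D l ρ
  · intro s hs1
    rw [J.cen_JJ hζ' hs'', e1]
    intro x hx
    have h2 := a4 _ (fun a ha => J.comm_out (a2 a ha) (a3 a ha) (h1 a ha)) x hx _ ((J.mem_JJ hζ hs).1 hs1)
    calc x * (k * (g * s * g⁻¹) * k⁻¹) = k * (k⁻¹ * x * k * (g * s * g⁻¹)) * k⁻¹ := by group
      _ = _ := by rw [← h2]; group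
  exfalso
  push Not at h1
  obtain ⟨_, ⟨x₀, y₀, hxy, rfl⟩, h1⟩ := h1
  have h2 := conn3 (P := fun a b => rep M.toCoxeterSystem hp.isCartan w⁻¹ (vec D l (ρ a b)) ∈ SR D l ρ)
    (fun a b hab ⟨u, v, huv, h2⟩ => ⟨v, u, huv.symm, by
      rw [he b a hab.symm, he v u huv.symm, ← neg_sub (e a), map_neg, ← he a b hab, h2, he u v huv, neg_sub]⟩)
    (fun a b c hab hbc hac h2 => J.tab.nb hp h2 (a2 _ ⟨b, c, hbc, rfl⟩) (a3 _ ⟨b, c, hbc, rfl⟩) (by
      rw [← map_add, he a b hab, he b c hbc, sub_add_sub_cancel, ← he a c hac]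
      exact a2 _ ⟨a, c, hac, rfl⟩)) hxy h1
  have h3 := a4 _ (fun a ⟨u, v, huv, ha⟩ => J.X_le (by rw [ha]; exact h2 u v huv)) _ (J.std_mem hζ' hs')
  rw [show k⁻¹ * (k * (g * z * g⁻¹) * k⁻¹) * k = g * z * g⁻¹ by group, ← J.mem_JJ hζ hs] at h3
  obtain ⟨n, hn⟩ := C.three h.t2 h3 h.t1
  have h4 : y ^ n = z := hn
  have h5 : y ^ (3 : ℤ) = 1 := by exact_mod_cast Qf.pow_of_Om h.t2
  have n1 : ∀ x : YY D r, x = 1 → x ∉ Om hp r 3 i := fun x hx => hx ▸ one_not_mem_Om Nat.prime_three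
  rw [← Int.mul_ediv_add_emod n 3, zpow_add, zpow_mul, h5, one_zpow, one_mul] at h4
  have h6 : n % 3 = 0 ∨ n % 3 = 1 ∨ n % 3 = 2 := by omega
  rcases h6 with h6 | h6 | h6 <;> rw [h6] at h4
  · exact n1 _ (by rw [← h4, zpow_zero]) h.t1
  · exact n1 _ (by rw [← h4, zpow_one, mul_inv_cancel]) h.t4
  · exact n1 _ (by rw [← h4, ← h5]; group) h.t3

theorem Si {z : YY D r} (hz : z ∈ Om hp r 3 i) : JJ hp r i ψ z⁻¹ = JJ hp r i ψ z := by
  obtain ⟨cf, J⟩ := C.jd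
  obtain ⟨g, ζ, hζ, hs⟩ := hz
  have e : g * z⁻¹ * g⁻¹ = (g * z * g⁻¹)⁻¹ := by group
  have h1 : Std hp r ζ⁻¹ i (g * z⁻¹ * g⁻¹) := by
    rw [e]
    refine ⟨inv_mem hs.1, fun x => ?_⟩
    have h2 := cX_mul hp (inv_mem hs.1) hs.1 x
    rw [inv_mul_cancel, cX_one, hs.2] at h2
    rw [inv_zpow, eq_inv_of_mul_eq_one_left h2.symm]
  rw [J.JJ_eq hζ.inv h1, J.JJ_eq hζ hs]

/-- frame automorphisms -/
theorem map {β : MulAut (YY D r)} {g : (Fin l → ℤ) ≃+ (Fin l → ℤ)}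
    (F : Fr M.toCoxeterSystem hp.isCartan (TT D (KK r)) (XX D l (KK r)) β g) {z : YY D r} (hz : z ∈ Om hp r 3 i)
    {s : YY D r} (hs : s ∈ JJ hp r i ψ z) : β s ∈ JJ hp r i ψ (β z) := by
  obtain ⟨cf, J⟩ := C.jd
  obtain ⟨g₁, ζ, hζ, hz⟩ := hz
  intro g₂ ζ' hζ' hz'
  have e : ∀ u : YY D r, g₂ * (β g₁)⁻¹ * β (g₁ * u * g₁⁻¹) * (g₂ * (β g₁)⁻¹)⁻¹ = g₂ * β u * g₂⁻¹ := by
    intro u
    rw [map_mul, map_mul, map_inv]
    group
  have h1 := J.key (y := g₂ * (β g₁)⁻¹) F hζ hζ' hz (by rw [e]; exact hz') (hs g₁ ζ hζ hz)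
  rwa [e] at h1

theorem map_iff {β : MulAut (YY D r)} {g : (Fin l → ℤ) ≃+ (Fin l → ℤ)}
    (F : Fr M.toCoxeterSystem hp.isCartan (TT D (KK r)) (XX D l (KK r)) β g) {z : YY D r} (hz : z ∈ Om hp r 3 i)
    (hz' : β z ∈ Om hp r 3 i) (s : YY D r) : β s ∈ JJ hp r i ψ (β z) ↔ s ∈ JJ hp r i ψ z :=
  ⟨fun h => by simpa using C.map F.inv hz' h, C.map F hz⟩

omit C in
theorem Sc (z s : YY D r) (hs : s ∈ JJ hp r i ψ z) (g : YY D r) : g * s * g⁻¹ ∈ JJ hp r i ψ (g * z * g⁻¹) := by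
  intro c ζ hζ h
  have e : ∀ u : YY D r, c * (g * u * g⁻¹) * c⁻¹ = c * g * u * (c * g)⁻¹ := fun u => by group
  rw [e] at h ⊢
  exact hs _ ζ hζ h

/-- **The package.** -/
noncomputable def pk {Φ : MulAut (YY D r)} {g : (Fin l → ℤ) ≃+ (Fin l → ℤ)}
    (F : Fr M.toCoxeterSystem hp.isCartan (TT D (KK r)) (XX D l (KK r)) Φ g) (q : ℤ) (q3 : q % 3 = 1) (q1 : q ≠ 1)
    (neg : ∃ n : YY D r, ∀ t ∈ TT D (KK r), n * t * n⁻¹ = t⁻¹)
    (frob : ∃ n : YY D r, ∀ t ∈ TT D (KK r), Φ t = n * t ^ q * n⁻¹) : Pk (YY D r) Φ where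
  Ty z := z ∈ Om hp r 3 i
  S := JJ hp r i ψ
  T := TT D (KK r)
  q := q
  q3 := q3
  q1 := q1
  tcomm := Tor.tcomm (DL.Ex.chev (p := r) hp (locFin r) one_pos)
  neg := neg
  frob := frob
  tp1 z hz := by
    obtain ⟨c, hc⟩ := exists_conj_T hp Nat.prime_three C.ne.symm (n := 1) hz
    exact ⟨c⁻¹, by rwa [inv_inv]⟩
  tp2 z hz h3 y hy h := by
    obtain ⟨c, h1, h2⟩ := exists_pair hp (g := 1) (by rwa [one_mul, inv_one, mul_one]) (C.tp h3 hy h)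
    rw [one_mul, inv_one, mul_one] at h1
    exact ⟨c⁻¹, by rw [inv_mul_eq_iff_eq_mul, ← mul_assoc, h1], by rwa [inv_inv]⟩
  ty3 _ := Qf.pow_of_Om
  ty1 := one_not_mem_Om Nat.prime_three
  tyc _ h c := conj_mem_Om h c
  Sc z _ s hs c := Sc z s hs c
  Si _ := C.Si
  SF z h hz s := by
    have h1 := C.map_iff F h (by rwa [hz]) s
    rwa [hz] at h1
  mem := C.js.mem
  cen z h := mem_centralizer_iff.2 (C.js.cen z h)
  dec z h x hx := by
    obtain ⟨cf, J⟩ := C.jd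
    obtain ⟨c, ζ, hζ, hs⟩ := h
    rw [J.JJ_eq hζ hs]
    exact SL.dec_of (J.sd_conj hζ hs) hx
  int z h x hx hc := by
    obtain ⟨cf, J⟩ := C.jd
    obtain ⟨c, ζ, hζ, hs⟩ := id h
    rw [J.JJ_eq hζ hs] at hx hc
    exact SL.int_of (J.sd_conj hζ hs) (fun h1 => one_not_mem_Om Nat.prime_three (h1 ▸ h)) hx hc
  three _ h _ hb h' := C.three h hb h'
  reg _ _ := C.reg
  tor _ _ := C.tor
  two _ _ := C.two

end Cx

end Cfsg.Agent.TO.T3

private theorem dce_6ae061cae8c1 : _root_.True := by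
  try have : _root_.True := by simp only [_root_.Cfsg.Agent.DS.Nt.JJ.congr_simp]
  exact _root_.True.intro
end

-- part: TO/T3/Pk_mg
section

end

-- part: TO/T3/Neg
section
set_option linter.all false
open scoped Cfsg.Agent.FastGrp

/-!
# S4817, `p = 3`: Lemma I for the covers, and the types `F₄`, `E₇` (helper54)

* `false_of_AA` : the odd order lifts of the elements of `AA` do not all lie in the kernel of `θ`;
* `boxNEGI`, `row_of_no2`.
-/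

set_option autoImplicit false
set_option linter.unusedSectionVars false

namespace Cfsg.Agent.TO.T3

open Cfsg Subgroup

variable {Y : Type} [Group Y] {Φ : MulAut Y} {P : Pk Y Φ} {X : Type} [Group X] {ι : X →* Y} {G : Type} [Group G] [Finite G]
  {σ : G →* X} {M : Ideal AlgInt} {b : Set (IrrCharacter G)} {D : Subgroup G} {θ : G → ℂ}

/-- a central extension by a group of exponent two -/
structure Cov2 (σ : G →* X) : Prop where
  cen : ∀ z, σ z = 1 → ∀ g, g * z = z * g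
  two : ∀ z, σ z = 1 → z ^ 2 = 1

theorem cov2_of (H : Hyp 3 M b D σ) (h : Nat.card (center G) ∣ 2) : Cov2 σ := by
  have h1 : ∀ z, σ z = 1 → z ∈ center G := fun z hz => H.ker ▸ hz
  refine ⟨fun z hz => mem_center_iff.1 (h1 z hz), fun z hz => ?_⟩
  exact orderOf_dvd_iff_pow_eq_one.1 (((center G).orderOf_dvd_natCard (h1 z hz)).trans h)

theorem eq_one_of_odd {z : G} {n : ℤ} (hn : Odd n) (h1 : z ^ n = 1) (h2 : z ^ 2 = 1) : z = 1 := by
  obtain ⟨k, rfl⟩ := hn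
  rwa [zpow_add, zpow_mul, zpow_ofNat, h2, one_zpow, one_mul, zpow_one] at h1

/-- lifts of odd order are unique -/
theorem Cov2.uniq (c : Cov2 σ) {g h : G} {n : ℤ} (hn : Odd n) (e : σ g = σ h) (h1 : g ^ n = 1) (h2 : h ^ n = 1) :
    g = h := by
  have h3 : σ (g * h⁻¹) = 1 := by rw [map_mul, map_inv, e, mul_inv_cancel]
  have h4 := Commute.mul_zpow (c.cen _ h3 h).symm n
  rw [inv_mul_cancel_right, h1, h2, mul_one] at h4
  exact mul_inv_eq_one.1 (eq_one_of_odd hn h4.symm (c.two _ h3))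

/-- lifts of odd order exist -/
theorem Cov2.lift (c : Cov2 σ) {n : ℤ} (hn : Odd n) {g : G} (h : σ g ^ n = 1) : ∃ g', σ g' = σ g ∧ g' ^ n = 1 := by
  obtain ⟨k, hk⟩ := hn.add_one
  refine ⟨g ^ (n + 1), by rw [map_zpow, zpow_add, h, one_mul, zpow_one], ?_⟩
  rw [← zpow_mul, mul_comm, zpow_mul, hk, ← two_mul, zpow_mul, zpow_ofNat, c.two _ (by rw [map_zpow, h]), one_zpow]

theorem conj_zpow_eq_one {g x : G} {n : ℤ} (h : g ^ n = 1) : (x * g * x⁻¹) ^ n = 1 := by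
  rw [conj_zpow, h, mul_one, mul_inv_cancel]

/-- the lifts of odd order of the elements of an abelian subgroup -/
def Cov2.hat (c : Cov2 σ) {A : Subgroup X} (hA : A ≤ Ce A) {n : ℤ} (hn : Odd n) : Subgroup G where
  carrier := {g | σ g ∈ A ∧ g ^ n = 1}
  one_mem' := ⟨by simp, one_zpow n⟩
  mul_mem' := by
    rintro g h ⟨h1, h2⟩ ⟨h3, h4⟩
    refine ⟨by rw [map_mul]; exact mul_mem h1 h3, ?_⟩
    have h5 : h * g * h⁻¹ = g := c.uniq hn (by rw [map_mul, map_mul, map_inv, ce_comm (hA h1) h3, mul_inv_cancel_right])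
      (conj_zpow_eq_one h2) h2
    rw [Commute.mul_zpow (mul_inv_eq_iff_eq_mul.1 h5).symm, h2, h4, one_mul]
  inv_mem' := by
    rintro g ⟨h1, h2⟩
    exact ⟨by rw [map_inv]; exact inv_mem h1, by rw [inv_zpow, h2, inv_one]⟩

theorem map_Ce {c : G} (hc : c ∈ Ce D) : σ c ∈ Ce (D.map σ) := mem_centralizer_iff.2 (by
  rintro _ ⟨d, hd, rfl⟩
  rw [← map_mul, ← map_mul, ce_comm hc hd])

theorem map_ab (h : D ≤ Ce D) : D.map σ ≤ Ce (D.map σ) := by
  rintro _ ⟨d, hd, rfl⟩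
  exact map_Ce (h hd)

/-- the end of the argument -/
theorem false_of_AA (H : Hyp 3 M b D σ) (h2 : Nat.card (center G) ∣ 2) (h : Can 3 M b D θ)
    (s : Sit P ι (Ind σ b) (D.map σ)) {z : X} (hz : z ∈ D.map σ) (h1 : z ≠ 1) (hn : ¬ D.map σ ≤ P.H ι (D.map σ) z)
    (hk : ∀ g, σ g ∈ P.AA ι (D.map σ) z → g ^ (P.q ^ 2 + P.q + 1) = 1 → g ∈ h.kr) : False := by
  have := Fact.mk Nat.prime_three
  have : Finite X := Finite.of_surjective σ H.surj
  have C := cov2_of H h2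
  obtain ⟨a1, a2, -, -, c, c1, c2, c3, c4, c5⟩ := boxLI Y Φ P X ι _ _ s (map_ab h.ab) z hz h1 hn
  have hN := odd_N P.q
  have hN3 : Odd (3 * (P.q ^ 2 + P.q + 1)) := Odd.mul (by decide) hN
  obtain ⟨g₀, rfl⟩ := H.surj c
  obtain ⟨c, e, h3⟩ := C.lift hN3 (g := g₀) (by rw [zpow_mul, zpow_ofNat, a1 _ c3])
  rw [← e] at c1 c2 c3 c4 c5
  rw [zpow_mul, zpow_ofNat] at h3
  have h4 : c ^ 3 ∈ C.hat a2 hN := ⟨by rwa [map_pow], h3⟩
  have h5 : ∀ a ∈ C.hat a2 hN, c * a * c⁻¹ ∈ C.hat a2 hN := fun a ha =>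
    ⟨by rw [map_mul, map_mul, map_inv]; exact c4 _ ha.1, conj_zpow_eq_one ha.2⟩
  have h6 : c ∈ normalizer (D : Set G) := mem_normalizer_fintype fun d hd => by
    obtain ⟨d', h7, h8⟩ := (mem_normalizer_iff.1 c1 _).1 (mem_map_of_mem σ hd)
    obtain ⟨i, hi⟩ := h.pg ⟨d, hd⟩
    obtain ⟨j, hj⟩ := h.pg ⟨d', h7⟩
    rw [C.uniq (g := c * d * c⁻¹) (h := d') (n := (3 ^ (i + j) : ℕ)) (by exact_mod_cast Odd.pow (by decide : Odd 3))
      (by rw [h8, map_mul, map_mul, map_inv]) (conj_zpow_eq_one (by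
        rw [zpow_natCast, pow_add, pow_mul, show d ^ 3 ^ i = 1 from congrArg Subtype.val hi, one_pow]))
      (by rw [zpow_natCast, pow_add, mul_comm, pow_mul, show d' ^ 3 ^ j = 1 from congrArg Subtype.val hj, one_pow])]
    exact h7
  have h7 : c ∈ In D θ := by
    refine ⟨fun y => (mem_normalizer_iff.1 h6 y).symm, fun g => ?_⟩
    show θ (c * g * c⁻¹) = θ g
    by_cases hg : g ∈ Ce D
    · have h8 := c5 _ (map_Ce (σ := σ) hg)
      rw [← map_inv, ← map_inv, ← map_mul, ← map_mul, ← map_mul] at h8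
      obtain ⟨a, e1, e2⟩ := C.lift hN (a1 _ h8)
      have h9 : a ∈ C.hat a2 hN := ⟨e1 ▸ h8, e2⟩
      have h10 : (a⁻¹ * c) ^ 3 ∈ C.hat a2 hN := by
        rw [show (a⁻¹ * c) ^ 3 = a⁻¹ * (c * a⁻¹ * c⁻¹) * (c * (c * a⁻¹ * c⁻¹) * c⁻¹) * c ^ 3 by
          simp only [pow_succ, pow_zero, one_mul, mul_assoc, inv_mul_cancel_left]]
        exact mul_mem (mul_mem (mul_mem (inv_mem h9) (h5 _ (inv_mem h9))) (h5 _ (h5 _ (inv_mem h9)))) h4
      have h11 : g * c * g⁻¹ = a⁻¹ * c := C.uniq hN3 (by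
        rw [map_mul σ a⁻¹, map_inv σ a, e1]
        simp only [map_mul, map_inv, mul_inv_rev, inv_inv, mul_assoc, inv_mul_cancel, mul_one])
        (conj_zpow_eq_one (by rw [zpow_mul, zpow_ofNat, h3])) (by rw [zpow_mul, zpow_ofNat, h10.2])
      rw [← h.kr_mul (hk a h9.1 h9.2) g]
      congr 1
      calc c * g * c⁻¹ = c * (g * c * g⁻¹)⁻¹ * g := by group
        _ = c * c⁻¹ * a * g := by rw [h11]; group
        _ = _ := by group
    · rw [h.zero g hg, h.zero _ fun h3 => hg ?_]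
      have h4 := conj_mem_Ce (inv_mem h6) h3
      rwa [show c⁻¹ * (c * g * c⁻¹) * c⁻¹⁻¹ = g by group] at h4
  exact c2 (map_Ce (h.mem_Ce_of_pow h7 (k := 1) (h.kr_le (hk _ h4.1 h4.2))))

theorem boxNEGI : BoxNEGI := by
  intro Y _ Φ P X _ ι G _ _ σ M b D θ H h2 h s z hz h1 hn t ht hi
  have := Fact.mk Nat.prime_three
  have : Finite X := Finite.of_surjective σ H.surj
  have C := cov2_of H h2
  obtain ⟨a1, a2, a3, a4, -⟩ := boxLI Y Φ P X ι _ _ s (map_ab h.ab) z hz h1 hn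
  have hN := odd_N P.q
  refine false_of_AA H h2 h s hz h1 hn fun g g1 g2 => h.kr_of_real (S := C.hat a2 hN) (fun a ha => ?_) (fun c hc a ha => ?_) ?_
    (fun c hc => ⟨3, by decide, 1, one_mem _, fun a ha => ?_⟩) (fun a ha => ?_) ⟨g1, g2⟩
  · refine mem_centralizer_iff.2 fun d hd => mul_inv_eq_iff_eq_mul.1 (C.uniq hN ?_ (conj_zpow_eq_one ha.2) ha.2)
    rw [map_mul, map_mul, map_inv, ce_comm ha.1.2 (mem_map_of_mem σ hd), mul_inv_cancel_right]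
  · exact ⟨by rw [map_mul, map_mul, map_inv]; exact (a3 _ (map_Ce hc)).1 _ ha.1, conj_zpow_eq_one ha.2⟩
  · by_contra h3
    have := Fact.mk Nat.prime_two
    obtain ⟨a, ha⟩ := exists_prime_orderOf_dvd_card' 2 (even_iff_two_dvd.1 (Nat.not_odd_iff_even.1 h3))
    have h4 : a = 1 := Subtype.ext (eq_one_of_odd hN a.2.2 (congrArg Subtype.val (ha ▸ pow_orderOf_eq_one a)))
    rw [h4, orderOf_one] at ha
    exact absurd ha (by decide)
  · rw [one_mul, inv_one, mul_one]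
    refine C.uniq hN ?_ (conj_zpow_eq_one ha.2) ha.2
    rw [map_mul, map_mul, map_inv, map_pow, ← ce_comm (a3 _ (map_Ce hc)).2 ha.1, mul_inv_cancel_right]
  · rw [← (pow_mem ht 3).2 a]
    congr 1
    refine C.uniq hN ?_ (inv_mem ha).2 (conj_zpow_eq_one ha.2)
    rw [MulAut.conj_apply, map_mul, map_mul, map_inv, map_inv, map_pow, a4 (σ t) ?_ _ ha.1]
    rintro _ ⟨d, hd, rfl⟩
    rw [← map_inv, ← map_inv, ← map_mul, ← map_mul, hi d hd]

omit [Finite G] in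
/-- without a plane in the centralizer of `S z` -/
theorem Sit.H_le {A : Subgroup (MulAut X)} {Q : Subgroup X} (s : Sit P ι A Q) (hP : P.No2) {z : X} (hz : z ∈ Q)
    (h1 : z ≠ 1) : P.H ι Q z ≤ zpowers z := fun y hy => by
  by_contra h2
  refine hP _ _ (s.pl hz h1 hy.1 (s.inj ?_) h2) hy.2
  rw [map_mul, map_mul, ce_comm hy.2 (P.mem _ (s.tyQ hz h1))]

omit [Finite G] in
theorem Sit.not_le_H {A : Subgroup (MulAut X)} {Q : Subgroup X} (s : Sit P ι A Q) (hP : P.No2) {z : X} (hz : z ∈ Q)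
    (h1 : z ≠ 1) : ¬ Q ≤ P.H ι Q z := fun h => s.pure.nc (by
  rw [le_antisymm (h.trans (s.H_le hP hz h1)) (zpowers_le.2 hz)]
  infer_instance)

omit [Finite G] in
theorem Sit.nine [Finite X] {A : Subgroup (MulAut X)} {Q : Subgroup X} (s : Sit P ι A Q) (hP : P.No2) :
    Q ≤ Ce Q ∧ Nat.card Q = 9 := by
  have := Fact.mk Nat.prime_three
  have : Nontrivial Q := by
    by_contra h
    have := not_nontrivial_iff_subsingleton.1 h
    exact s.pure.nc inferInstance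
  have := s.pure.pg.center_nontrivial
  obtain ⟨⟨⟨z, hz⟩, h0⟩, h1⟩ := exists_ne (1 : center Q)
  have h2 : z ≠ 1 := fun e => h1 (Subtype.ext (Subtype.ext e))
  have h3 : ∀ a ∈ Q, a * z = z * a := fun a ha => congrArg Subtype.val (mem_center_iff.1 h0 ⟨a, ha⟩)
  obtain ⟨y, hy, h4⟩ := SetLike.not_le_iff_exists.1 (s.not_le_H hP hz h2)
  have h5 : ∀ a ∈ Q, ∃ u ∈ zpowers z, ∃ v ∈ zpowers y, a = u * v := fun a ha => by
    obtain ⟨j, hj⟩ := (s.mem_H_or hz h2 hy (h3 y hy) ha (h3 a ha)).resolve_left h4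
    exact ⟨_, s.H_le hP hz h2 hj, _, inv_mem (pow_mem (Subgroup.mem_zpowers y) j), (mul_inv_cancel_right _ _).symm⟩
  refine ⟨fun a ha => mem_centralizer_iff.2 fun c hc => ?_, ?_⟩
  · obtain ⟨_, ⟨i, rfl⟩, _, ⟨j, rfl⟩, rfl⟩ := h5 a ha
    obtain ⟨_, ⟨k, rfl⟩, _, ⟨l, rfl⟩, rfl⟩ := h5 c hc
    have h6 : Commute y z := h3 y hy
    exact (((Commute.refl z).zpow_zpow k i).mul_right (h6.symm.zpow_zpow k j)).mul_left
      ((h6.zpow_zpow l i).mul_right ((Commute.refl y).zpow_zpow l j))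
  · have h6 : ∀ u ∈ Q, Nat.card (zpowers u) ≤ 3 := fun u hu => by
      rw [Nat.card_zpowers]
      exact Nat.le_of_dvd (by decide) (orderOf_dvd_of_pow_eq_one (s.cube hu))
    have h7 : Nat.card Q ≤ 9 := by
      refine (Nat.card_le_card_of_surjective (fun x : zpowers z × zpowers y =>
        (⟨x.1 * x.2, mul_mem (zpowers_le.2 hz x.1.2) (zpowers_le.2 hy x.2.2)⟩ : Q)) fun a => ?_).trans ?_
      · obtain ⟨u, hu, v, hv, e⟩ := h5 a a.2
        exact ⟨(⟨u, hu⟩, ⟨v, hv⟩), Subtype.ext e.symm⟩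
      · rw [Nat.card_prod]
        exact Nat.mul_le_mul (h6 z hz) (h6 y hy)
    obtain ⟨n, hn⟩ := IsPGroup.iff_card.1 s.pure.pg
    have h8 : n ≤ 2 := (Nat.pow_le_pow_iff_right (by decide : 1 < 3)).1 (hn ▸ h7)
    interval_cases n
    · exact absurd (Nat.card_eq_one_iff_unique.1 hn).1 (not_subsingleton Q)
    · exact absurd (isCyclic_of_prime_card (p := 3) hn) s.pure.nc
    · exact hn

/-- **Types `F₄` and `E₇`.** -/
theorem row_of_no2 (B : Blk) (hP : P.No2) (H : Hyp 3 M b D σ) (h2 : Nat.card (center G) ∣ 2)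
    (s : Sit P ι (Ind σ b) (D.map σ)) : False := by
  have := Fact.mk Nat.prime_three
  have : Finite X := Finite.of_surjective σ H.surj
  obtain ⟨h3, h4⟩ := s.nine hP
  have h5 : D ≤ Ce D := fun a ha => mem_centralizer_iff.2 fun c hc => congrArg Subtype.val
    (H.injD (a₁ := ⟨c, hc⟩ * ⟨a, ha⟩) (a₂ := ⟨a, ha⟩ * ⟨c, hc⟩) (Subtype.ext (by
      show σ (c * a) = σ (a * c)
      rw [map_mul, map_mul, ce_comm (h3 (mem_map_of_mem σ ha)) (mem_map_of_mem σ hc)])))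
  have h6 : Nat.card D = 9 := (Nat.card_eq_of_bijective _ ⟨H.injD, σ.subgroupMap_surjective D⟩).trans h4
  obtain ⟨θ, h⟩ := B.can0 G 3 M b D H.hM H.hb H.hD h5
  obtain ⟨t, ht, hi⟩ := B.neg G 3 M b D θ H.toTwo h (.inr h6)
  have : Nontrivial (D.map σ) := Finite.one_lt_card_iff_nontrivial.1 (by rw [h4]; decide)
  obtain ⟨⟨z, hz⟩, h1⟩ := exists_ne (1 : D.map σ)
  have h7 : z ≠ 1 := fun e => h1 (Subtype.ext e)
  exact boxNEGI Y Φ P X ι G σ M b D θ H h2 h s z hz h7 (s.not_le_H hP hz h7) t ht hi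

end Cfsg.Agent.TO.T3
end

-- part: TO/T3/ALL
section
set_option linter.all false
open scoped Cfsg.Agent.FastGrp

/-!
# S4817, `p = 3`, type `E₈`: the box `ALL` (helper19)
-/

set_option autoImplicit false
set_option linter.unusedSectionVars false

namespace Cfsg.Agent.TO.X3N

open Cfsg Subgroup Cfsg.Agent.TO.T3
open Cfsg.Agent.H665.NoPQ (HasDZ)

variable {Y : Type} [Group Y] {Φ : MulAut Y}

theorem lam_mul {Z : Subgroup Y} {g g' : Y} (h' : Φ g' * g'⁻¹ ∈ Z) (hc : g ∈ Ce Z) :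
    Φ (g * g') * (g * g')⁻¹ = Φ g * g⁻¹ * (Φ g' * g'⁻¹) := by
  rw [map_mul, mul_assoc (Φ g) g⁻¹, ← ce_comm (inv_mem hc) h']
  group

/-- the Lang map, when its values are central -/
def lam {V : Type} [Group V] (a : V →* Y) (Z : Subgroup Y) (h1 : ∀ v, Φ (a v) * (a v)⁻¹ ∈ Z) (h2 : ∀ v, a v ∈ Ce Z) :
    V →* Z :=
  MonoidHom.mk' (fun v => ⟨_, h1 v⟩) fun v w => Subtype.ext (by
    show Φ (a (v * w)) * (a (v * w))⁻¹ = _
    rw [map_mul a, lam_mul (h1 w) (h2 v)]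
    rfl)

theorem mem_ker_lam {V : Type} [Group V] {a : V →* Y} {Z : Subgroup Y} {h1 : ∀ v, Φ (a v) * (a v)⁻¹ ∈ Z}
    {h2 : ∀ v, a v ∈ Ce Z} {v : V} : v ∈ (lam a Z h1 h2).ker ↔ Φ (a v) = a v := by
  rw [MonoidHom.mem_ker, Subtype.ext_iff]
  exact mul_inv_eq_one

theorem ce_symm {S T : Subgroup Y} (h : S ≤ Ce T) : T ≤ Ce S := le_centralizer_iff.1 h

theorem not_mem_symm {u v : Y} (hu : u ≠ 1) (hv : v ^ 3 = 1) (h : v ∉ zpowers u) : u ∉ zpowers v := fun h1 => by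
  rcases cases_of_mem hv h1 with e | e | e
  · exact hu e
  · exact h (e ▸ mem_zpowers u)
  · refine h ?_
    rw [show v = u ^ 2 by rw [e, ← pow_mul, pow_succ, hv, one_mul]]
    exact pow_mem (mem_zpowers u) 2

variable {P : Pk Y Φ}

theorem conj_PP {z c s : Y} (h : P.Ty z) (hz : Φ z = z) (hc : Φ c = c) (h1 : c * z = z * c) (hs : s ∈ P.PP h hz) :
    c * s * c⁻¹ ∈ P.PP h hz := by
  refine ⟨P.conj_mem h h1 hs.1, ?_⟩
  obtain ⟨i, hi⟩ := hs.2
  refine ⟨i, ?_⟩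
  show z ^ i = _
  rw [show Φ (c * s * c⁻¹) * (c * s * c⁻¹)⁻¹ = c * (Φ s * s⁻¹) * c⁻¹ by rw [map_mul, map_mul, map_inv, hc]; group, ← hi,
    (Commute.zpow_right h1 i).eq, mul_inv_cancel_right]

variable {G : Type} [Group G] [Finite G] {ι : G →* Y}

/-- the group `PGL₃(q)` or `PGU₃(q)` -/
theorem exists_quot (hf : ∀ g, Φ g = g → g ∈ ι.range) (nd : P.ND) {z : Y} (h : P.Ty z) (hz : Φ z = z) :
    ∃ (N : Type) (_ : Group N) (_ : Finite N) (f : P.PP h hz →* N), Function.Surjective f ∧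
      (∀ s, f s = 1 ↔ (s : Y) ∈ zpowers z) ∧ ¬ HasDZ 3 N := by
  have h1 : Finite (zpowers z) := finite_zpowers.2 (isOfFinOrder_iff_pow_eq_one.2 ⟨3, by decide, P.ty3 z h⟩)
  have h2 : Finite ι.range := Finite.of_surjective _ ι.rangeRestrict_surjective
  let l := lam (Φ := Φ) (P.PP h hz).subtype (zpowers z) (fun v => v.2.2) fun v => ce_symm (P.zp_le h) v.2.1
  have h3 : Finite l.ker := Finite.of_injective (fun v => (⟨_, hf _ (mem_ker_lam.1 v.2)⟩ : ι.range)) fun v w e =>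
    Subtype.ext (Subtype.ext (Subtype.mk.inj e))
  have h4 : Finite (P.PP h hz) := l.finite_iff_finite_ker_range.2 ⟨h3, inferInstance⟩
  have h5 : ((zpowers z).subgroupOf (P.PP h hz)).Normal := ⟨fun n hn g => by
    show (g : Y) * n * (g : Y)⁻¹ ∈ zpowers z
    rw [ce_comm (P.zp_le h (mem_subgroupOf.1 hn)) g.2.1, mul_inv_cancel_right]
    exact hn⟩
  have h6 : ∀ s, QuotientGroup.mk' ((zpowers z).subgroupOf (P.PP h hz)) s = 1 ↔ (s : Y) ∈ zpowers z := fun s =>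
    QuotientGroup.eq_one_iff s
  exact ⟨_, inferInstance, inferInstance, _, QuotientGroup.mk'_surjective _, h6,
    nd z h hz _ _ (QuotientGroup.mk'_surjective _) h6⟩

variable {A : Subgroup (MulAut G)} {Q : Subgroup G}

theorem pl_of (s : Sit P ι A Q) {u v : G} (hu : u ∈ Q) (hv : v ∈ Q) (hc : v * u = u * v) (h1 : u ≠ 1)
    (h2 : v ∉ zpowers u) : Pl P.Ty (ι u) (ι v) := by
  refine ⟨by rw [← map_mul, ← map_mul, hc], s.tyQ hu h1, s.tyQ hv fun e => h2 (e ▸ one_mem _), ?_, ?_⟩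
  · rw [← map_mul]
    exact s.tyQ (mul_mem hv hu) fun e => h2 (eq_inv_of_mul_eq_one_left e ▸ inv_mem (mem_zpowers u))
  · rw [← map_inv, ← map_mul]
    exact s.tyQ (mul_mem hv (inv_mem hu)) fun e => h2 (mul_inv_eq_one.1 e ▸ mem_zpowers u)

theorem two_of (s : Sit P ι A Q) {u v : G} (hu : u ∈ Q) (hv : v ∈ Q) (hc : v * u = u * v) (h1 : u ≠ 1)
    (h2 : v ∉ zpowers u) (h3 : ι v ∈ Ce (P.S (ι u))) : P.S (ι v) ≤ Ce (P.S (ι u)) :=
  P.two _ _ (pl_of s hu hv hc h1 h2) h3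

/-- three commuting components -/
theorem three_comp (hf : ∀ g, Φ g = g → g ∈ ι.range) (nd : P.ND) {B : Subgroup Y} (dz : DZy Φ B) {x y z : Y}
    (hx : P.Ty x) (hy : P.Ty y) (hz : P.Ty z) (fx : Φ x = x) (fy : Φ y = y) (fz : Φ z = z) (bx : x ∈ B) (by' : y ∈ B)
    (e : z = y * x) (cx : B ≤ Ce (P.S x)) (cy : B ≤ Ce (P.S y)) (cz : B ≤ Ce (P.S z)) (xy : P.S y ≤ Ce (P.S x))
    (xz : P.S z ≤ Ce (P.S x)) (yz : P.S z ≤ Ce (P.S y)) : False := by
  obtain ⟨N1, _, _, f1, s1, k1, n1⟩ := exists_quot hf nd hx fx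
  obtain ⟨N2, _, _, f2, s2, k2, n2⟩ := exists_quot hf nd hy fy
  obtain ⟨N3, _, _, f3, s3, k3, n3⟩ := exists_quot hf nd hz fz
  have bz : z ∈ B := e ▸ mul_mem by' bx
  let a2 := (P.PP hy fy).subtype.noncommCoprod (P.PP hz fz).subtype fun m n => ce_comm (yz n.2.1) m.2.1
  let a := (P.PP hx fx).subtype.noncommCoprod a2 fun m n => ce_comm (mul_mem (xy n.1.2.1) (xz n.2.2.1)) m.2.1
  have ha : ∀ v, a v = v.1 * (v.2.1 * v.2.2) := fun _ => rfl
  let μ := (zpowers x).subtype.noncommCoprod (zpowers y).subtype fun m n =>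
    ce_comm (zpowers_le.2 (cx by') n.2) (zpowers_le.2 (P.mem x hx) m.2)
  have z1 : zpowers x ≤ μ.range := fun u hu => ⟨(⟨u, hu⟩, 1), mul_one u⟩
  have z2 : zpowers y ≤ μ.range := fun u hu => ⟨(1, ⟨u, hu⟩), one_mul u⟩
  have z3 : zpowers z ≤ μ.range := zpowers_le.2 (e ▸ mul_mem (z2 (mem_zpowers y)) (z1 (mem_zpowers x)))
  have zB : μ.range ≤ B := by
    rintro _ ⟨u, rfl⟩
    exact mul_mem (zpowers_le.2 bx u.1.2) (zpowers_le.2 by' u.2.2)
  have aB : ∀ v, a v ∈ Ce B := fun v =>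
    mul_mem (ce_symm cx v.1.2.1) (mul_mem (ce_symm cy v.2.1.2.1) (ce_symm cz v.2.2.2.1))
  have h1 : ∀ v, Φ (a v) * (a v)⁻¹ ∈ μ.range := fun v => by
    have h2 := lam_mul (z3 v.2.2.2.2) (ce_symm (zB.trans cy) v.2.1.2.1)
    have h3 := mul_mem (z2 v.2.1.2.2) (z3 v.2.2.2.2)
    rw [← h2] at h3
    rw [ha, lam_mul h3 (ce_symm (zB.trans cx) v.1.2.1)]
    exact mul_mem (z1 v.1.2.2) h3
  let l := lam a μ.range h1 fun v => centralizer_le zB (aB v)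
  let b := f1.prodMap (f2.prodMap f3)
  have hb : Function.Surjective b := s1.prodMap (s2.prodMap s3)
  have hN : (l.ker.map b).Normal := Normal.map inferInstance b hb
  have h4 : (l.ker.map b).index ∣ 3 ^ 2 := by
    refine (index_map_dvd _ hb).trans ?_
    rw [index_ker]
    refine (card_subgroup_dvd_card _).trans ((card_range_dvd μ).trans ?_)
    rw [Nat.card_prod, Nat.card_zpowers, Nat.card_zpowers, pow_two]
    exact mul_dvd_mul (orderOf_dvd_of_pow_eq_one (P.ty3 x hx)) (orderOf_dvd_of_pow_eq_one (P.ty3 y hy))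
  refine nd3 n1 n2 n3 (l.ker.map b) ?_ (dz l.ker _ (a.comp l.ker.subtype) (b.subgroupMap l.ker)
    (b.subgroupMap_surjective _) (fun w => (mem_ker_lam (a := a)).1 w.2) (fun w d hd => ce_comm (aB w) hd) (fun c hc h5 w => ?_)
    fun w => ?_)
  · obtain ⟨k, hk, h5⟩ := (Nat.dvd_prime_pow Nat.prime_three).1 h4
    rw [h5, Nat.prime_three.factorization_pow, Finsupp.single_eq_same]
    exact hk
  · have h6 : a (⟨_, conj_PP hx fx hc (h5 x bx).symm w.1.1.2⟩, ⟨_, conj_PP hy fy hc (h5 y by').symm w.1.2.1.2⟩,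
        ⟨_, conj_PP hz fz hc (h5 z bz).symm w.1.2.2.2⟩) = c * a w * c⁻¹ := by
      rw [ha, ha]
      group
    refine ⟨⟨_, mem_ker_lam.2 ?_⟩, h6⟩
    rw [h6, map_mul, map_mul, map_inv, hc, mem_ker_lam.1 w.2]
  · obtain ⟨⟨g1, g2, g3⟩, hw⟩ := w
    rw [Subtype.ext_iff]
    show (f1 g1, f2 g2, f3 g3) = 1 ↔ (g1 : Y) * (g2 * g3) ∈ B
    rw [Prod.mk_eq_one, Prod.mk_eq_one, k1, k2, k3]
    refine ⟨fun h => mul_mem (zpowers_le.2 bx h.1) (mul_mem (zpowers_le.2 by' h.2.1) (zpowers_le.2 bz h.2.2)),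
      fun h => ⟨P.int x hx _ g1.2.1 ?_, P.int y hy _ g2.2.1 ?_, P.int z hz _ g3.2.1 ?_⟩⟩
    · exact (mul_mem_cancel_right (mul_mem (xy g2.2.1) (xz g3.2.1))).1 (cx h)
    · exact (mul_mem_cancel_right (yz g3.2.1)).1 ((mul_mem_cancel_left (ce_symm xy g1.2.1)).1 (cy h))
    · exact (mul_mem_cancel_left (ce_symm yz g2.2.1)).1 ((mul_mem_cancel_left (ce_symm xz g1.2.1)).1 (cz h))

theorem dzy_of {M : Ideal AlgInt} {b : Set (IrrCharacter G)} (h : H8 P ι M b Q) : DZy Φ (Q.map ι) :=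
  dzy_of_block h.hyp.hM h.hyp.hb h.hyp.hD h.sit.inj fun y => ⟨h.full.full y, by rintro ⟨x, rfl⟩; exact h.sit.fix x⟩

end Cfsg.Agent.TO.X3N

namespace Cfsg.Agent.TO.T3

open Cfsg Subgroup Cfsg.Agent.TO.X3N

theorem boxALL : BoxALL := by
  intro Y _ Φ P G _ _ ι M b D h ⟨h1, h2⟩
  have s := h.sit
  obtain ⟨x, hx, x1⟩ : ∃ x ∈ D, x ≠ 1 := by
    by_contra h3
    push Not at h3
    exact s.pure.nc (by rw [(eq_bot_iff_forall D).2 h3]; infer_instance)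
  obtain ⟨y, hy, yx⟩ : ∃ y ∈ D, y ∉ zpowers x := by
    by_contra h3
    push Not at h3
    exact s.pure.nc (by rw [le_antisymm h3 (zpowers_le.2 hx)]; infer_instance)
  have y1 : y ≠ 1 := fun e => yx (e ▸ one_mem _)
  have zx : y * x ∉ zpowers x := fun h3 => yx ((mul_mem_cancel_right (mem_zpowers x)).1 h3)
  have zy : y * x ∉ zpowers y := fun h3 =>
    not_mem_symm x1 (s.cube hy) yx ((mul_mem_cancel_left (mem_zpowers y)).1 h3)
  have z1 : y * x ≠ 1 := fun e => zx (e ▸ one_mem _)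
  have hz := mul_mem hy hx
  have h3 : ∀ u ∈ D, u ≠ 1 → D.map ι ≤ Ce (P.S (ι u)) := fun u hu u1 => map_le_iff_le_comap.2 fun d hd => (h2 u hu u1 hd).2
  exact three_comp h.full.full h.eight.nd (dzy_of h) (s.tyQ hx x1) (s.tyQ hy y1) (s.tyQ hz z1) (s.fix _) (s.fix _)
    (s.fix _) (mem_map_of_mem ι hx) (mem_map_of_mem ι hy) (map_mul ι y x) (h3 x hx x1) (h3 y hy y1) (h3 _ hz z1)
    (two_of s hx hy (ce_comm (h1 hx) hy) x1 yx (h2 x hx x1 hy).2)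
    (two_of s hx hz (ce_comm (h1 hx) hz) x1 zx (h2 x hx x1 hz).2)
    (two_of s hy hz (ce_comm (h1 hy) hz) y1 zy (h2 y hy y1 hz).2)

end Cfsg.Agent.TO.T3
end

-- part: TO/T3/NA
section
set_option linter.all false
open scoped Cfsg.Agent.FastGrp

/-!
# S4817, `p = 3`, type `E₈`: the box `NA` (helper19)
-/

set_option autoImplicit false
set_option linter.unusedSectionVars false

namespace Cfsg.Agent.TO.X3N

open Cfsg Subgroup Cfsg.Agent.TO.T3
open Cfsg.Agent.BHZ.Nil (KK mem_KK_iff self_le_KK)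

variable {Y : Type} [Group Y] {Φ : MulAut Y}

/-- the diagonal map -/
def dl (x g : Y) : Y := g * (x * g * x⁻¹) * (x⁻¹ * g * x)

example := @dl.eq_def

/-- three conjugates of `S` which commute -/
structure Tr (S : Subgroup Y) (x : Y) : Prop where
  c2 : ∀ g ∈ S, x * g * x⁻¹ ∈ Ce S
  x3 : x ^ 3 = 1

theorem dl_conj {x c : Y} (h : c * x = x * c) (g : Y) : c * dl x g * c⁻¹ = dl x (c * g * c⁻¹) := by
  have h1 : c * x * c⁻¹ = x := by rw [h, mul_inv_cancel_right]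
  conv_rhs => rw [← h1]
  unfold dl
  group

theorem dl_map {x : Y} (h : Φ x = x) (g : Y) : Φ (dl x g) = dl x (Φ g) := by
  simp only [dl, map_mul, map_inv, h]

theorem dl_comm {x g a : Y} (h1 : a * g = g * a) (h2 : x⁻¹ * a * x * g = g * (x⁻¹ * a * x))
    (h3 : x * a * x⁻¹ * g = g * (x * a * x⁻¹)) : a * dl x g = dl x g * a := by
  have h4 : Commute a (x * g * x⁻¹) := by
    show _ = _
    rw [show a * (x * g * x⁻¹) = x * (x⁻¹ * a * x * g) * x⁻¹ by group, h2]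
    group
  have h5 : Commute a (x⁻¹ * g * x) := by
    show _ = _
    rw [show a * (x⁻¹ * g * x) = x⁻¹ * (x * a * x⁻¹ * g) * x by group, h3]
    group
  exact ((Commute.mul_right h1 h4).mul_right h5 :)

namespace Tr

variable {S : Subgroup Y} {x g g' : Y} (t : Tr S x)
include t

theorem c3 (hg : g ∈ S) : x⁻¹ * g * x ∈ Ce S := mem_centralizer_iff.2 fun u hu => by
  rw [show u * (x⁻¹ * g * x) = x⁻¹ * (x * u * x⁻¹ * g) * x by group, ← ce_comm (t.c2 u hu) hg]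
  group

theorem sq : x * x = x⁻¹ := eq_inv_of_mul_eq_one_left (by rw [← t.x3, pow_succ, pow_two])

theorem c23 (hg : g ∈ S) (hg' : g' ∈ S) : x * g * x⁻¹ * (x⁻¹ * g' * x) = x⁻¹ * g' * x * (x * g * x⁻¹) := by
  have h1 := ce_comm (t.c2 g' hg') hg
  have h2 : x⁻¹ * g' * x = x * (x * g' * x⁻¹) * x⁻¹ := by
    rw [show x * (x * g' * x⁻¹) * x⁻¹ = x * x * g' * (x * x)⁻¹ by group, t.sq, inv_inv]
  rw [h2, show x * g * x⁻¹ * (x * (x * g' * x⁻¹) * x⁻¹) = x * (g * (x * g' * x⁻¹)) * x⁻¹ by group, h1]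
  group

theorem mul (hg : g ∈ S) (hg' : g' ∈ S) : dl x (g * g') = dl x g * dl x g' := by
  have h1 := ce_comm (t.c2 g hg) hg'
  have h2 := ce_comm (t.c3 hg) hg'
  have h3 := t.c23 hg' hg
  unfold dl
  rw [show x * (g * g') * x⁻¹ = x * g * x⁻¹ * (x * g' * x⁻¹) by group,
    show x⁻¹ * (g * g') * x = x⁻¹ * g * x * (x⁻¹ * g' * x) by group]
  generalize x * g * x⁻¹ = a at *
  generalize x * g' * x⁻¹ = a' at *
  generalize x⁻¹ * g * x = b at *
  generalize x⁻¹ * g' * x = b' at *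
  calc g * g' * (a * a') * (b * b') = g * (g' * a) * (a' * b) * b' := by group
    _ = g * a * (g' * b) * a' * b' := by rw [h1, h3]; group
    _ = _ := by rw [h2]; group

theorem cx (hg : g ∈ S) : x * dl x g = dl x g * x := by
  have h1 := ce_comm (mul_mem (t.c2 g hg) (t.c3 hg)) hg
  unfold dl
  rw [show x * (g * (x * g * x⁻¹) * (x⁻¹ * g * x)) = x * g * x⁻¹ * (x * x * g * (x * x)⁻¹) * g * x by group, t.sq, inv_inv,
    mul_assoc g, h1]

theorem ce (hg : g ∈ S) (h : dl x g ∈ Ce S) : g ∈ Ce S :=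
  (mul_mem_cancel_right (t.c2 g hg)).1 ((mul_mem_cancel_right (t.c3 hg)).1 h)

theorem eq_of {y : Y} (hy : y ∈ S) (y3 : y ^ 3 = 1) (h : dl x y = 1) (hg : g ∈ S) (e : g' * g⁻¹ ∈ zpowers y) :
    dl x g' = dl x g := by
  have h1 : dl x (g' * g⁻¹) = 1 := by
    rcases cases_of_mem y3 e with e | e | e <;> rw [e]
    · simp [dl]
    · exact h
    · rw [pow_two, t.mul hy hy, h, mul_one]
  rw [← inv_mul_cancel_right g' g, t.mul (zpowers_le.2 hy e) hg, h1, one_mul]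

end Tr

variable {P : Pk Y Φ} {G : Type} [Group G] [Finite G] {ι : G →* Y} {A : Subgroup (MulAut G)} {Q : Subgroup G}

/-- the components of two elements commute -/
theorem comp (s : Sit P ι A Q) {u a a' : G} (hu : u ∈ Q) (u1 : u ≠ 1) (ha : a ∈ Q) (hc : a * u = u * a) (ha' : a' ∈ Q)
    (hc' : a' * u = u * a') {e g e' g' : Y} (he : e ∈ Ce (P.S (ι u))) (hg : g ∈ P.S (ι u)) (h : ι a = e * g)
    (he' : e' ∈ Ce (P.S (ι u))) (hg' : g' ∈ P.S (ι u)) (h' : ι a' = e' * g') : g * g' = g' * g := by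
  rcases s.mem_H_or hu u1 ha hc ha' hc' with h1 | ⟨j, h1⟩
  · have h2 : ι a ∈ Ce (P.S (ι u)) := h1.2
    rw [h, mul_mem_cancel_left he] at h2
    exact (ce_comm h2 hg').symm
  · have h2 : ι (a' * a ^ j) ∈ Ce (P.S (ι u)) := h1.2
    rw [map_mul, map_pow, h, h', Commute.mul_pow (ce_comm he hg).symm, mul_assoc, ← mul_assoc g',
      ce_comm (pow_mem he j) hg', mul_assoc, mul_mem_cancel_left he', mul_mem_cancel_left (pow_mem he j)] at h2
    have h3 := ce_comm h2 hg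
    rwa [mul_assoc, ← pow_succ, pow_succ', ← mul_assoc, ← mul_assoc, mul_left_inj] at h3

theorem step (s : Sit P ι A Q) {u a a' : G} (hu : u ∈ Q) (u1 : u ≠ 1) (cu : u ∈ Ce Q) (ha : a ∈ Q) (ha' : a' ∈ Q)
    {e t e' t' : Y} (h : ι a = e * t) (h' : ι a' = e' * t') (ht : t ∈ Ce (P.S (ι u))) (ht' : t' ∈ Ce (P.S (ι u))) :
    ∃ f ∈ Ce (P.S (ι u)), ∃ f' ∈ Ce (P.S (ι u)), ∃ g ∈ P.S (ι u), ∃ g' ∈ P.S (ι u), e = f * g ∧ e' = f' * g' ∧
      (f * f' = f' * f → e * e' = e' * e) := by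
  have hT := s.tyQ hu u1
  have h1 : ∀ {a : G} {e t : Y}, a ∈ Q → ι a = e * t → t ∈ Ce (P.S (ι u)) → e * ι u = ι u * e := fun ha h ht => by
    rw [eq_mul_inv_of_mul_eq h.symm, mul_assoc, ← ce_comm (inv_mem ht) (P.mem _ hT), ← mul_assoc, ← mul_assoc, ← map_mul,
      ← map_mul, ce_comm cu ha]
  obtain ⟨f, hf, g, hg, rfl⟩ := P.dec _ hT e (h1 ha h ht)
  obtain ⟨f', hf', g', hg', rfl⟩ := P.dec _ hT e' (h1 ha' h' ht')
  have h2 := comp s hu u1 ha (ce_comm cu ha) ha' (ce_comm cu ha') (mul_mem hf ht) hg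
    (by rw [h, mul_assoc, mul_assoc, ce_comm ht hg]) (mul_mem hf' ht') hg' (by rw [h', mul_assoc, mul_assoc, ce_comm ht' hg'])
  refine ⟨f, hf, f', hf', g, hg, g', hg', rfl, rfl, fun h3 => ?_⟩
  rw [mul_assoc, ← mul_assoc g, ce_comm hf' hg, mul_assoc, h2, ← mul_assoc, h3, mul_assoc, ← mul_assoc f,
    ← ce_comm hf hg']
  simp only [mul_assoc]

/-- the four components of a plane -/
structure Six (P : Pk Y Φ) (ι : G →* Y) (u v : G) : Prop where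
  n1 : v ≠ 1
  n2 : v * u ≠ 1
  n3 : v * u⁻¹ ≠ 1
  h01 : P.S (ι v) ≤ Ce (P.S (ι u))
  h02 : P.S (ι (v * u)) ≤ Ce (P.S (ι u))
  h03 : P.S (ι (v * u⁻¹)) ≤ Ce (P.S (ι u))
  h12 : P.S (ι (v * u)) ≤ Ce (P.S (ι v))
  h13 : P.S (ι (v * u⁻¹)) ≤ Ce (P.S (ι v))
  h23 : P.S (ι (v * u⁻¹)) ≤ Ce (P.S (ι (v * u)))

theorem six (s : Sit P ι A Q) {u v : G} (hu : u ∈ Q) (hv : v ∈ Q) (hc : v * u = u * v) (u1 : u ≠ 1)
    (h2 : v ∉ zpowers u) (h3 : ι v ∈ Ce (P.S (ι u))) : Six P ι u v := by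
  have hc' : Commute v u := hc
  have m2 := mul_mem hv hu
  have m3 := mul_mem hv (inv_mem hu)
  have v1 : v ≠ 1 := fun e => h2 (e ▸ one_mem _)
  have a2 : v * u ∉ zpowers u := fun h => h2 ((mul_mem_cancel_right (mem_zpowers u)).1 h)
  have a3 : v * u⁻¹ ∉ zpowers u := fun h => h2 ((mul_mem_cancel_right (inv_mem (mem_zpowers u))).1 h)
  have b0 := not_mem_symm u1 (s.cube hv) h2
  have b2 : v * u ∉ zpowers v := fun h => b0 ((mul_mem_cancel_left (mem_zpowers v)).1 h)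
  have b3 : v * u⁻¹ ∉ zpowers v := fun h => b0 (inv_mem_iff.1 ((mul_mem_cancel_left (mem_zpowers v)).1 h))
  have c3 : v * u⁻¹ ∉ zpowers (v * u) := fun h => not_mem_symm v1 (s.cube m2) b2 (by
    have h4 := pow_mem (mul_mem h (mem_zpowers _)) 2
    rwa [hc, mul_assoc, inv_mul_cancel_left, ← pow_two, ← pow_mul, pow_succ, s.cube hv, one_mul, ← hc] at h4)
  have n2 : v * u ≠ 1 := fun e => a2 (e ▸ one_mem _)
  have tu := s.tyQ hu u1
  have tv := s.tyQ hv v1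
  have h01 := two_of s hu hv hc u1 h2 h3
  have h02 := two_of s hu m2 (hc'.mul_left (Commute.refl u)) u1 a2 (by rw [map_mul]; exact mul_mem h3 (P.cen _ tu))
  have h4 := ce_symm h01 (P.mem _ tu)
  have h12 := two_of s hv m2 ((Commute.refl v).mul_left hc'.symm) v1 b2 (by rw [map_mul]; exact mul_mem (P.cen _ tv) h4)
  exact ⟨v1, n2, fun e => a3 (e ▸ one_mem _), h01, h02,
    two_of s hu m3 (hc'.mul_left (Commute.refl u).inv_left) u1 a3
      (by rw [map_mul, map_inv]; exact mul_mem h3 (inv_mem (P.cen _ tu))), h12,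
    two_of s hv m3 ((Commute.refl v).mul_left hc'.symm.inv_left) v1 b3
      (by rw [map_mul, map_inv]; exact mul_mem (P.cen _ tv) (inv_mem h4)),
    two_of s m2 m3 (((Commute.refl v).mul_right hc').mul_left (hc'.symm.mul_right (Commute.refl u)).inv_left) n2 c3 (by
      rw [map_mul ι v u⁻¹, map_inv]
      exact mul_mem (ce_symm h12 (P.mem _ tv)) (inv_mem (ce_symm h02 (P.mem _ tu))))⟩

/-- no central plane of the second kind -/
theorem cen_le (s : Sit P ι A Q) (four : P.Four) (na : ¬ Q ≤ Ce Q) {z w : G} (hz : z ∈ Q) (z1 : z ≠ 1) (cz : z ∈ Ce Q)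
    (hw : w ∈ Q) (cw : w ∈ Ce Q) (h : ι w ∈ Ce (P.S (ι z))) : w ∈ zpowers z := by
  by_contra h1
  have hc := ce_comm cz hw
  have x := six s hz hw hc z1 h1 h
  refine na fun a' ha' => mem_centralizer_iff.2 fun a ha => s.inj ?_
  obtain ⟨e1, a1, e1', a1', g0, b0, g0', b0', r0, r0', k0⟩ :=
    step s hz z1 cz ha ha' (mul_one _).symm (mul_one _).symm (one_mem _) (one_mem _)
  obtain ⟨e2, a2, e2', a2', g1, b1, g1', b1', rfl, rfl, k1⟩ :=
    step s hw x.n1 cw ha ha' r0 r0' (ce_symm x.h01 b0) (ce_symm x.h01 b0')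
  obtain ⟨e3, a3, e3', a3', g2, b2, g2', b2', rfl, rfl, k2⟩ :=
    step s (mul_mem hw hz) x.n2 (mul_mem cw cz) ha ha' (r0.trans (mul_assoc _ _ _)) (r0'.trans (mul_assoc _ _ _))
      (mul_mem (ce_symm x.h12 b1) (ce_symm x.h02 b0)) (mul_mem (ce_symm x.h12 b1') (ce_symm x.h02 b0'))
  obtain ⟨e4, a4, e4', a4', g3, b3, g3', b3', rfl, rfl, k3⟩ :=
    step s (mul_mem hw (inv_mem hz)) x.n3 (mul_mem cw (inv_mem cz)) ha ha'
      (r0.trans ((mul_assoc _ _ _).trans (mul_assoc _ _ _))) (r0'.trans ((mul_assoc _ _ _).trans (mul_assoc _ _ _)))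
      (mul_mem (ce_symm x.h23 b2) (mul_mem (ce_symm x.h13 b1) (ce_symm x.h03 b0)))
      (mul_mem (ce_symm x.h23 b2') (mul_mem (ce_symm x.h13 b1') (ce_symm x.h03 b0')))
  have h2 := four _ _ (pl_of s hz hw hc z1 h1) h
  rw [← map_inv, ← map_mul, ← map_mul] at h2
  rw [mul_mem_cancel_right (x.h01 b1), mul_mem_cancel_right (x.h02 b2), mul_mem_cancel_right (x.h03 b3)] at a1
  rw [mul_mem_cancel_right (x.h01 b1'), mul_mem_cancel_right (x.h02 b2'), mul_mem_cancel_right (x.h03 b3')] at a1'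
  rw [mul_mem_cancel_right (x.h12 b2), mul_mem_cancel_right (x.h13 b3)] at a2
  rw [mul_mem_cancel_right (x.h12 b2'), mul_mem_cancel_right (x.h13 b3')] at a2'
  rw [mul_mem_cancel_right (x.h23 b3)] at a3
  rw [mul_mem_cancel_right (x.h23 b3')] at a3'
  obtain ⟨i, j, rfl⟩ := h2 _ a1 a2 a3 a4
  obtain ⟨i', j', rfl⟩ := h2 _ a1' a2' a3' a4'
  have h3 : Commute (ι z) (ι w) := (Commute.map hc ι).symm
  rw [map_mul, map_mul]
  exact k0 (k1 (k2 (k3 ((((Commute.refl _).pow_pow i i').mul_right (h3.pow_pow i j')).mul_left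
    ((h3.symm.pow_pow j i').mul_right ((Commute.refl _).pow_pow j j'))))))

/-- the extraspecial configuration -/
theorem heis (s : Sit P ι A Q) (hf : ∀ g, Φ g = g → g ∈ ι.range) (nd : P.ND) (dz : DZy Φ (Q.map ι)) {x y z : G}
    (hx : x ∈ Q) (hy : y ∈ Q) (hz : z ∈ Q) (z1 : z ≠ 1) (cz : z ∈ Ce Q)
    (Z1 : ∀ w ∈ Q, w ∈ Ce Q → ι w ∈ Ce (P.S (ι z)) → w ∈ zpowers z) (yz : y ∉ zpowers z) (yE : ι y ∈ Ce (P.S (ι z)))
    (hq : ∀ q ∈ Q, q * y * q⁻¹ * y⁻¹ ∈ zpowers z) (e : x * y * x⁻¹ = y * z) : False := by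
  have := Fact.mk Nat.prime_three
  have hc := ce_comm cz hy
  have X := six s hz hy hc z1 yz yE
  have hT := s.tyQ hy X.n1
  have e' : x⁻¹ * y * x = y * z⁻¹ := by
    rw [eq_mul_inv_iff_mul_eq, mul_assoc, ce_comm cz hx, ← mul_assoc, mul_assoc x⁻¹, ← e]
    group
  have m2 : ∀ g ∈ P.S (ι y), ι x * g * (ι x)⁻¹ ∈ P.S (ι (y * z)) := fun g hg => by
    have h1 := P.Sc _ hT g hg (ι x)
    rwa [← map_inv ι x, ← map_mul, ← map_mul, e, map_inv] at h1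
  have m3 : ∀ g ∈ P.S (ι y), (ι x)⁻¹ * g * ι x ∈ P.S (ι (y * z⁻¹)) := fun g hg => by
    have h1 := P.Sc _ hT g hg (ι x)⁻¹
    rwa [inv_inv, ← map_inv ι x, ← map_mul, ← map_mul, e', map_inv] at h1
  have t : Tr (P.S (ι y)) (ι x) := ⟨fun g hg => X.h12 (m2 g hg), by rw [← map_pow, s.cube hx, map_one]⟩
  have d1 : dl (ι x) (ι y) = 1 := by
    rw [dl, ← map_inv, ← map_mul, ← map_mul, ← map_mul, ← map_mul, ← map_mul, ← map_mul, e, e', hc, ← map_one ι,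
      ← s.cube hy, ← mul_assoc, ← mul_assoc, hc, mul_assoc z, mul_assoc z, mul_assoc z,
      ce_comm (inv_mem cz) (mul_mem (mul_mem hy hy) hy), mul_inv_cancel_left, pow_three']
  have deq : ∀ {g g' : Y}, g ∈ P.S (ι y) → g' * g⁻¹ ∈ zpowers (ι y) → dl (ι x) g' = dl (ι x) g :=
    t.eq_of (P.mem _ hT) (P.ty3 _ hT) d1
  have nA : ∀ a ∈ Q, a * y = y * a → ∀ q ∈ Q, q * a * q⁻¹ * y = y * (q * a * q⁻¹) := fun a ha h q hq' => by
    have h1 := ce_comm (zpowers_le.2 cz (hq _ (inv_mem hq'))) ha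
    have h2 : Commute a (q⁻¹ * y * q⁻¹⁻¹ * y⁻¹ * y) := Commute.mul_right h1 h
    rw [show q * a * q⁻¹ * y = q * (a * (q⁻¹ * y * q⁻¹⁻¹ * y⁻¹ * y)) * q⁻¹ by group, h2.eq]
    group
  have xi : ∀ i : ℕ, x ^ i * y * (x ^ i)⁻¹ = z ^ i * y := fun i => by
    induction i with
    | zero => simp
    | succ i ih =>
      rw [show x ^ (i + 1) * y * (x ^ (i + 1))⁻¹ = x * (x ^ i * y * (x ^ i)⁻¹) * x⁻¹ by group, ih, ← mul_assoc,
        ce_comm (pow_mem cz i) hx, mul_assoc, mul_assoc, ← mul_assoc x, e, hc, pow_succ, mul_assoc]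
  have cen : ∀ g ∈ P.S (ι y), (∀ a ∈ Q, a * y = y * a → ι a * g = g * ι a) → ∀ q ∈ Q,
      ι q * dl (ι x) g = dl (ι x) g * ι q := fun g hg h q hq' => by
    obtain ⟨i, hi⟩ : ∃ i : ℕ, q * y * q⁻¹ * y⁻¹ = z ^ i := by
      rcases cases_of_mem (s.cube hz) (hq q hq') with h1 | h1 | h1
      exacts [⟨0, by rw [h1, pow_zero]⟩, ⟨1, by rw [h1, pow_one]⟩, ⟨2, h1⟩]
    have ha := mul_mem (inv_mem (pow_mem hx i)) hq'
    have h1 : (x ^ i)⁻¹ * q * y = y * ((x ^ i)⁻¹ * q) := by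
      rw [show (x ^ i)⁻¹ * q * y = (x ^ i)⁻¹ * (q * y * q⁻¹ * y⁻¹ * y) * q by group, hi, ← xi]
      group
    have h2 := h _ (mul_mem (mul_mem (inv_mem hx) ha) (inv_mem (inv_mem hx))) (nA _ ha h1 _ (inv_mem hx))
    have h3 := h _ (mul_mem (mul_mem hx ha) (inv_mem hx)) (nA _ ha h1 _ hx)
    rw [inv_inv, map_mul, map_mul, map_inv] at h2
    rw [map_mul, map_mul, map_inv] at h3
    have h4 := Commute.mul_left (Commute.pow_left (t.cx hg) i) (dl_comm (h _ ha h1) h2 h3)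
    rw [← map_pow, ← map_mul, mul_inv_cancel_left] at h4
    exact h4
  have fix : ∀ g ∈ P.PP hT (s.fix y), Φ (dl (ι x) g) = dl (ι x) g := fun g hg => by
    rw [dl_map (s.fix x), deq hg.1 hg.2]
  have hA : ∀ a ∈ Q, a * y = y * a → ι a ∈ Ce (P.S (ι y)) := fun a ha h => by
    obtain ⟨f, h1, g, hg, h2⟩ := P.dec _ hT (ι a) (by rw [← map_mul, ← map_mul, h])
    obtain ⟨c, h3⟩ := hf _ (fix g ⟨hg, s.lam_mem hy X.n1 h1 hg h2⟩)
    have h4 : c ∈ Ce Q := mem_centralizer_iff.2 fun q hq' => s.inj (by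
      rw [map_mul, map_mul, h3]
      refine cen g hg (fun a' ha' h' => ?_) q hq'
      obtain ⟨f', h1', g', hg', h2'⟩ := P.dec _ hT (ι a') (by rw [← map_mul, ← map_mul, h'])
      rw [h2', mul_assoc, ← comp s hy X.n1 ha h ha' h' h1 hg h2 h1' hg' h2', ← mul_assoc, ← ce_comm h1' hg, mul_assoc])
    have h5 : f ^ 3 * g ^ 3 = 1 := by
      rw [← Commute.mul_pow (ce_comm h1 hg).symm, ← h2, ← map_pow, s.cube ha, map_one]
    have h6 : g ^ 3 * 1⁻¹ ∈ zpowers (ι y) := by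
      rw [inv_one, mul_one]
      exact P.int _ hT _ (pow_mem hg 3) (eq_inv_of_mul_eq_one_right h5 ▸ inv_mem (pow_mem h1 3))
    have h7 : c ^ 3 = 1 := s.inj (by
      rw [map_pow, h3, pow_three', ← t.mul hg hg, ← t.mul (mul_mem hg hg) hg, ← pow_three', deq (one_mem _) h6, map_one]
      simp [dl])
    have h8 : c ∈ KK 3 Q := mem_KK_iff.2 fun r hr _ => s.inj (by
      have h9 := split_mem (MulAut.conj (ι r)) (P.conj_iff hT (by rw [← map_mul, ← map_mul, ce_comm hr hy])) h1 hg (by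
        rw [← h2, MulAut.conj_apply, ← map_mul, ← ce_comm hr ha, map_mul, mul_inv_cancel_right])
      rw [map_mul, map_mul, h3, ← mul_inv_eq_iff_eq_mul, dl_conj (by rw [← map_mul, ← map_mul, ce_comm hr hx])]
      exact deq hg (P.int _ hT _ h9.1 h9.2))
    have h10 : c ∈ Q := by
      rw [← s.pure.syl (Q ⊔ zpowers c) (s.pure.pg.to_sup_of_normal_right'
        (fun u => ⟨1, Subtype.ext (cube_of_mem h7 u.2)⟩) ((ce_symm (zpowers_le.2 h4)).trans (centralizer_le_normalizer _)))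
        le_sup_left (sup_le (self_le_KK Q) (zpowers_le.2 h8))]
      exact mem_sup_right (mem_zpowers c)
    obtain ⟨i, hi⟩ := Z1 c h10 h4 (h3 ▸ mul_mem (mul_mem (X.h01 hg) (X.h02 (m2 g hg))) (X.h03 (m3 g hg)))
    rw [h2]
    refine mul_mem h1 (t.ce hg ?_)
    rw [← h3, ← hi, map_zpow]
    exact zpow_mem (ce_symm X.h01 (P.mem _ (s.tyQ hz z1))) i
  obtain ⟨N, _, _, f, s1, k1, n1⟩ := exists_quot hf nd hT (s.fix y)
  have cen' : ∀ g ∈ P.S (ι y), ∀ q ∈ Q, ι q * dl (ι x) g = dl (ι x) g * ι q := fun g hg =>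
    cen g hg fun a ha h => (ce_comm (hA a ha h) hg).symm
  refine n1 (dz _ _ (MonoidHom.mk' (fun g : P.PP hT (s.fix y) => dl (ι x) g) fun g g' => t.mul g.2.1 g'.2.1) f s1 (fun g => fix g g.2) ?_
    (fun c h1 h2 g => ⟨⟨_, conj_PP hT (s.fix y) h1 (h2 _ (mem_map_of_mem ι hy)).symm g.2⟩,
      (dl_conj (h2 _ (mem_map_of_mem ι hx)).symm _).symm⟩) fun g => (k1 g).trans ⟨fun h => ?_, ?_⟩)
  · rintro g _ ⟨q, hq', rfl⟩
    exact cen' g g.2.1 q hq'
  · show dl (ι x) g ∈ _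
    rw [deq (one_mem _) (by simpa using h)]
    simp [dl]
  · rintro ⟨q, hq', h⟩
    have h1 : ι q = dl (ι x) g := h
    refine P.int _ hT _ g.2.1 (t.ce g.2.1 (h1 ▸ hA q hq' (s.inj ?_)))
    rw [map_mul, map_mul, h1, cen' g g.2.1 y hy]

end Cfsg.Agent.TO.X3N

namespace Cfsg.Agent.TO.T3

open Cfsg Subgroup Cfsg.Agent.TO.X3N

theorem boxNA : BoxNA := by
  intro Y _ Φ P G _ _ ι M b D h na
  have := Fact.mk Nat.prime_three
  have s := h.sit
  have h1 : Nontrivial D := (nontrivial_iff_ne_bot D).2 fun e => na (e ▸ bot_le)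
  obtain ⟨⟨⟨z, hz⟩, h2⟩, h3⟩ := @exists_ne _ s.pure.pg.center_nontrivial 1
  have z1 : z ≠ 1 := fun e => h3 (Subtype.ext (Subtype.ext e))
  have cz : z ∈ Ce D := mem_centralizer_iff.2 fun q hq => congrArg Subtype.val (mem_center_iff.1 h2 ⟨q, hq⟩)
  have hT := s.tyQ hz z1
  have Z1 := fun w => cen_le s h.eight.four na (w := w) hz z1 cz
  obtain ⟨y, hy, yz, hq⟩ : ∃ y ∈ P.H ι D z, y ∉ zpowers z ∧ ∀ q ∈ D, q * y * q⁻¹ * y⁻¹ ∈ zpowers z := by
    by_contra h4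
    push Not at h4
    have h5 : ∀ n, ∀ y ∈ Subgroup.upperCentralSeries D n, (y : G) ∈ P.H ι D z → (y : G) ∈ zpowers z := fun n => by
      induction n with
      | zero =>
        intro y hy _
        rw [mem_bot.1 hy]
        exact one_mem _
      | succ n ih =>
        intro y hy h6
        by_contra h7
        obtain ⟨q, hq, h8⟩ := h4 y h6 h7
        refine h8 ?_
        have h9 := ih _ (inv_mem (Subgroup.mem_upperCentralSeries_succ_iff.1 hy ⟨q, hq⟩))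
        rw [commutatorElement_inv, commutatorElement_def] at h9
        refine h9 (mul_mem ⟨D.mul_mem (D.mul_mem hq h6.1) (D.inv_mem hq), mem_centralizer_iff.2 fun u hu => ?_⟩ (inv_mem h6))
        have h10 := ce_comm h6.2 (P.conj_mem hT (x := (ι q)⁻¹) (Commute.map (ce_comm cz hq) ι).inv_left hu)
        show u * ι (q * y * q⁻¹) = ι (q * y * q⁻¹) * u
        rw [map_mul, map_mul, map_inv, show u * (ι q * ι y * (ι q)⁻¹) = ι q * ((ι q)⁻¹ * u * (ι q)⁻¹⁻¹ * ι y) * (ι q)⁻¹ by group,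
          h10]
        group
    obtain ⟨n, hn⟩ := s.pure.pg.isNilpotent.nilpotent
    have h6 : ∀ y ∈ P.H ι D z, y ∈ Ce D := fun y hy => zpowers_le.2 cz (h5 n ⟨y, hy.1⟩ (hn ▸ mem_top _) hy)
    refine na fun a ha => mem_centralizer_iff.2 fun a' ha' => ?_
    rcases s.mem_H_or hz z1 ha (ce_comm cz ha) ha' (ce_comm cz ha') with h7 | ⟨j, h7⟩
    · exact ce_comm (h6 a h7) ha'
    · have h8 := ce_comm (h6 _ h7) ha
      rw [mul_assoc, ← pow_succ, pow_succ', ← mul_assoc, ← mul_assoc, mul_left_inj] at h8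
      exact h8.symm
  obtain ⟨q, hq', h4⟩ : ∃ q ∈ D, q * y ≠ y * q := by
    by_contra h4
    push Not at h4
    exact yz (Z1 y hy.1 (mem_centralizer_iff.2 h4) hy.2)
  have h5 := fun x hx => heis s h.full.full h.eight.nd (dzy_of h) (x := x) hx hy.1 hz z1 cz Z1 yz hy.2 hq
  have h6 := ce_comm cz hy.1
  rcases cases_of_mem (s.cube hz) (hq q hq') with e | e | e
  · exact h4 (mul_inv_eq_iff_eq_mul.1 (mul_inv_eq_one.1 e))
  · exact h5 q hq' (by rw [h6, ← e, inv_mul_cancel_right])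
  · refine h5 _ (mul_mem hq' hq') ?_
    rw [mul_inv_eq_iff_eq_mul] at e
    rw [show q * q * y * (q * q)⁻¹ = q * (q * y * q⁻¹) * q⁻¹ by group, e, ← mul_assoc, ce_comm (pow_mem cz 2) hq',
      mul_assoc, mul_assoc, ← mul_assoc q, e, ← mul_assoc, ← pow_add, pow_succ, s.cube hz, one_mul, h6]

end Cfsg.Agent.TO.T3

private theorem dce_92dd303c2cc8 : _root_.True := by
  try have : _root_.True := by simp only [_root_.Cfsg.Agent.TO.X3N.dl.eq_1]
  exact _root_.True.intro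
end

-- part: TO/T3/F0
section
prune_inst 0x63410252544a20200001c000022000221310000900003000050020040008eb40080000700502009020000224c0030004000100040420000000a000000011c0080000850028248010ce40008000000400000000000000000000000000000041000000000000
set_option linter.all false
open scoped Cfsg.Agent.FastGrp

/-!
# S4817, `p = 3`, types `E₇`, `E₈`: the type of the elements of order three of `K(Q)` (helper13)
-/

set_option autoImplicit false
set_option linter.unusedSectionVars false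
set_option maxRecDepth 100000

namespace Cfsg.Agent.TO.T3.F0

open CoxeterSystem Cfsg Cfsg.Lie Cfsg.Lie.ChevalleyDatum Matrix
open Cfsg.Agent.ChevalleyStructure Cfsg.Agent.ChevalleyStructure.Elts Cfsg.Agent.ChevalleyStructure.CoxeterGeom
  Cfsg.Agent.ChevalleyStructure.CoxeterGeomTypes
open Cfsg.Agent.Tits.Roots Cfsg.Agent.Nodes Cfsg.Agent.Nodes.RGDChev Cfsg.Agent.KFacts.RgdChevCoord
open Cfsg.Agent.DL Cfsg.Agent.DL.Ex Cfsg.Agent.KZ.DatX Cfsg.Agent.TO.X Cfsg.Agent.H129.TorusChar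
open Cfsg.Agent.H931.KC (Kac exists_alcove)
open Cfsg.Agent.H469.Exc (KK locFin)
open Cfsg.Agent.DS.Nt (Om Std Om_chain chE7b hrE7 hrE8)

variable {C : ChevalleyDatum} {l : ℕ} {M : CoxeterMatrix (Fin l)}

instance : Fact (Nat.Prime 3) := ⟨Nat.prime_three⟩

/-! ### lattices -/

/-- Kac coordinates -/
theorem exists_kac (hp : IsType C l M) {p : ℕ} [NeZero p] (u : Fin l → ZMod p) :
    ∃ W, WM C l W ∧ ∃ (c : Fin l → ℕ) (c0 : ℕ), Kac C l p c c0 ∧ mv W u = fun i => (c i : ZMod p) := by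
  obtain ⟨w, c, c0, K, h⟩ := exists_alcove hp (Nat.pos_of_neZero p)
    ({ toFun := fun x => x ⬝ᵥ fun i => ((u i).val : ℤ), map_zero' := zero_dotProduct _,
       map_add' := fun _ _ => add_dotProduct _ _ _ } : (Fin l → ℤ) →+ ℤ)
  refine ⟨KZ.Exc.wm hp w⁻¹, (Lat.wM_iff hp).2 ⟨_, rfl⟩, c, c0, K, funext fun i => ?_⟩
  have h1 := h (sr i)
  have h2 : rep M.toCoxeterSystem hp.isCartan w (sr i) = KZ.Exc.wm hp w⁻¹ i := by
    rw [← inv_inv w, ← KZ.Exc.vecMul_wm hp, inv_inv]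
    exact single_one_vecMul i _
  have h3 : (∑ j, sr i j * (c j : ℤ)) = c i := Lat.sr_dot i _
  rw [h2, h3, ← ZMod.intCast_zmod_eq_zero_iff_dvd, Int.cast_sub, sub_eq_zero, Int.cast_natCast] at h1
  rw [h1, mv_apply, ← Pl.cz_val u, Pl.vl_cz, Pl.cz_val]
  rfl

/-- an invariant form -/
def Inv (C : ChevalleyDatum) (l : ℕ) (G : Matrix (Fin l) (Fin l) ℤ) : Prop :=
  ∀ i, (sM C l i)ᵀ * G * sM C l i = G

/-- the quadratic form modulo three -/
def qq (G : Matrix (Fin l) (Fin l) ℤ) (v : Fin l → ZMod 3) : ZMod 3 := v ⬝ᵥ mv G v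

theorem qq_wm {G : Matrix (Fin l) (Fin l) ℤ} (h : Inv C l G) {W : Matrix (Fin l) (Fin l) ℤ} (hW : WM C l W)
    (v : Fin l → ZMod 3) : qq G (mv W v) = qq G v := by
  refine Pl.WM.ind (P := fun W => qq G (mv W v) = qq G v) (by rw [mv_one]) (fun i W _ h1 => ?_) hW
  rw [mv_mul, ← h1]
  generalize mv W v = y
  rw [← Pl.cz_val y, Pl.mv_cz]
  generalize (fun i => ((y i).val : ℤ)) = z
  have e : ∀ t : Fin l → ℤ, qq G (Pl.cz 3 t) = ((t ⬝ᵥ G *ᵥ t : ℤ) : ZMod 3) := fun t => Pl.qf_cz t t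
  rw [e, e, mulVec_mulVec, ← vecMul_transpose, ← dotProduct_mulVec, mulVec_mulVec, ← Matrix.mul_assoc, h i]

theorem qq_smul (G : Matrix (Fin l) (Fin l) ℤ) {c : ZMod 3} (hc : c ≠ 0) (v : Fin l → ZMod 3) :
    qq G (c • v) = qq G v := by
  have h : ∀ c : ZMod 3, c ≠ 0 → c * c = 1 := by decide
  rw [qq, mv_smul, smul_dotProduct, dotProduct_smul, smul_smul, h c hc, one_smul, qq]

theorem qq_cj {G : Matrix (Fin l) (Fin l) ℤ} (h : Inv C l G) {u v : Fin l → ZMod 3} (H : Cj C (AdmS 3 [1]) u v) :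
    qq G v = qq G u := by
  obtain ⟨W, A, h1, ⟨c, hc, B, hB, rfl⟩, rfl⟩ := H
  rw [List.mem_singleton.1 hB, mv_mul, qq_wm h h1, smul_mv, mv_one,
    qq_smul G (by rwa [Ne, ZMod.intCast_zmod_eq_zero_iff_dvd])]

/-- a pure plane is totally singular -/
theorem qq_eq_zero {G : Matrix (Fin l) (Fin l) ℤ} (h : Inv C l G) {u x : Fin l → ZMod 3}
    (H : PurePl C (AdmS 3 [1]) u x) : qq G u = 0 ∧ qq G x = 0 ∧ qq G (u + x) = 0 := by
  have k : ∀ i j : ZMod 3, j ≠ 0 → qq G (i • u + j • x) = qq G u := fun i j hj =>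
    qq_cj h (H.cj i j fun h0 => hj (H.ind i j h0).2)
  have h1 := k 0 1 one_ne_zero
  have h2 := k 1 1 one_ne_zero
  have h3 := k 1 (-1) (by decide)
  rw [zero_smul, zero_add, one_smul] at h1
  rw [one_smul, one_smul] at h2
  have h4 : qq G (u + x) + qq G ((1 : ZMod 3) • u + (-1 : ZMod 3) • x) = 2 * qq G u + 2 * qq G x := by
    simp only [qq, mv_add, mv_smul, add_dotProduct, dotProduct_add, smul_dotProduct, dotProduct_smul, smul_eq_mul]
    ring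
  rw [h1, h2, h3] at h4
  have h5 : ∀ a : ZMod 3, a + a = 2 * a + 2 * a → a = 0 := by decide
  have h6 := h5 _ h4
  exact ⟨h6, h1.trans h6, h2.trans h6⟩

/-- the form of `E₈` -/
def G8 : Matrix (Fin 8) (Fin 8) ℤ :=
  !![4, 5, 7, 10, 8, 6, 4, 2; 5, 8, 10, 15, 12, 9, 6, 3; 7, 10, 14, 20, 16, 12, 8, 4; 10, 15, 20, 30, 24, 18, 12, 6;
    8, 12, 16, 24, 20, 15, 10, 5; 6, 9, 12, 18, 15, 12, 8, 4; 4, 6, 8, 12, 10, 8, 6, 3; 2, 3, 4, 6, 5, 4, 3, 2]

/-- the form of `E₇` -/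
def G7 : Matrix (Fin 7) (Fin 7) ℤ :=
  !![4, 4, 6, 8, 6, 4, 2; 4, 7, 8, 12, 9, 6, 3; 6, 8, 12, 16, 12, 8, 4; 8, 12, 16, 24, 18, 12, 6;
    6, 9, 12, 18, 15, 10, 5; 4, 6, 8, 12, 10, 8, 4; 2, 3, 4, 6, 5, 4, 3]

private noncomputable def _root_.Cfsg.Agent.LsF.f818bdd_0 : {f // @Cfsg.Lie.ChevalleyDatum.cartan = f} := ⟨_, by first | (delta Cfsg.Lie.ChevalleyDatum.cartan; rewrite [Cfsg.Agent.LsF.agetD_eq]; exact rfl) | exact rfl⟩
private noncomputable def _root_.Cfsg.Agent.LsF.f818bdd_1 : {f // @Cfsg.Lie.ChevalleyDatum.simple = f} := ⟨_, by first | (delta Cfsg.Lie.ChevalleyDatum.simple; rewrite [Cfsg.Agent.LsF.agetD_eq]; exact rfl) | exact rfl⟩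
private noncomputable def _root_.Cfsg.Agent.LsF.f818bdd_2 : {f // @Cfsg.Agent.ChevalleyStructure.CoxeterGeomTypes.cartanOf = f} := ⟨_, by first | (delta Cfsg.Agent.ChevalleyStructure.CoxeterGeomTypes.cartanOf; rewrite [Cfsg.Agent.LsF.f818bdd_0.2, Cfsg.Agent.LsF.f818bdd_1.2]; exact rfl) | exact rfl⟩
private noncomputable def _root_.Cfsg.Agent.LsF.f818bdd_3 : {f // @Cfsg.Agent.KZ.DatX.sM = f} := ⟨_, by first | (delta Cfsg.Agent.KZ.DatX.sM; rewrite [Cfsg.Agent.LsF.f818bdd_2.2, Cfsg.Agent.LsF.isub_pat, Cfsg.Agent.LsF.dFinEq_eq, Cfsg.Agent.LsF.ite_eq]; exact rfl) | exact rfl⟩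
private noncomputable def _root_.Cfsg.Agent.LsF.f818bdd_4 : {f // @Cfsg.Agent.TO.T3.F0.G8 = f} := ⟨_, by first | (delta Cfsg.Agent.TO.T3.F0.G8; rewrite [Cfsg.Agent.LsF.mof_pat, Cfsg.Agent.LsF.vecCons_eq]; exact rfl) | exact rfl⟩
theorem inv8 : Inv chevE8 8 G8 := by
  unfold Inv
  (refine of_decide_eq_true ?_; (try (rewrite [Cfsg.Agent.LsF.mmulF_pat, Cfsg.Agent.LsF.f818bdd_3.2, Cfsg.Agent.LsF.f818bdd_4.2, Cfsg.Agent.LsF.iadd_pat, Cfsg.Agent.LsF.imul_pat, Cfsg.Agent.LsF.finFintype_eq, Cfsg.Agent.LsF.dMat_eq, Cfsg.Agent.LsF.transpose_eq, Cfsg.Agent.LsF.iACM_eq, Cfsg.Agent.LsF.instIDecEq_eq, Cfsg.Agent.LsF.dForallFin_eq, Cfsg.Agent.LsF.decide_eq])); decide +kernel)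

private noncomputable def _root_.Cfsg.Agent.LsF.f818bdd_5 : {f // @Cfsg.Agent.TO.T3.F0.G7 = f} := ⟨_, by first | (delta Cfsg.Agent.TO.T3.F0.G7; rewrite [Cfsg.Agent.LsF.mof_pat, Cfsg.Agent.LsF.vecCons_eq]; exact rfl) | exact rfl⟩
theorem inv7 : Inv chevE7 7 G7 := by
  unfold Inv
  (refine of_decide_eq_true ?_; (try (rewrite [Cfsg.Agent.LsF.mmulF_pat, Cfsg.Agent.LsF.f818bdd_3.2, Cfsg.Agent.LsF.f818bdd_5.2, Cfsg.Agent.LsF.iadd_pat, Cfsg.Agent.LsF.imul_pat, Cfsg.Agent.LsF.finFintype_eq, Cfsg.Agent.LsF.dMat_eq, Cfsg.Agent.LsF.transpose_eq, Cfsg.Agent.LsF.iACM_eq, Cfsg.Agent.LsF.instIDecEq_eq, Cfsg.Agent.LsF.dForallFin_eq, Cfsg.Agent.LsF.decide_eq])); decide +kernel)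

theorem kac8 {c : Fin 8 → ℕ} {c0 : ℕ} (K : Kac chevE8 8 3 c c0) :
    c ∈ [![0, 0, 0, 0, 0, 0, 0, 0], ![1, 0, 0, 0, 0, 0, 0, 0], ![0, 1, 0, 0, 0, 0, 0, 0], ![0, 0, 0, 0, 0, 0, 0, 1],
      ![0, 0, 0, 0, 0, 0, 1, 0]] := by
  have h := K.sum
  rw [hrE8] at h
  simp only [Fin.sum_univ_succ, Fin.sum_univ_zero, cons_val_zero, cons_val_succ] at h
  simp only [List.mem_cons, List.not_mem_nil, or_false, funext_iff, Fin.forall_fin_succ, cons_val_zero, cons_val_succ,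
    IsEmpty.forall_iff, and_true]
  omega

private def kl7 : List (List ℕ) := [[0, 0, 0, 0, 0, 0], [0, 0, 0, 0, 0, 3], [1, 0, 0, 0, 0, 0], [0, 1, 0, 0, 0, 0],
  [0, 0, 0, 0, 1, 0], [1, 0, 0, 0, 0, 1], [0, 1, 0, 0, 0, 1], [0, 0, 0, 0, 1, 1], [0, 0, 0, 0, 0, 1], [0, 0, 0, 0, 0, 2],
  [0, 0, 1, 0, 0, 0], [0, 0, 0, 1, 0, 0]]

set_option synthInstance.maxSize 4000 in
private theorem kl7_key : ∀ a0 < 2, ∀ a1 < 2, ∀ a2 < 2, ∀ a4 < 2, ∀ a5 < 2, ∀ a6 < 4,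
    2 * a0 + 2 * a1 + 3 * a2 + 3 * a4 + 2 * a5 + a6 ≤ 3 → [a0, a1, a2, a4, a5, a6] ∈ kl7 := by decide +kernel

theorem kac7 {c : Fin 7 → ℕ} {c0 : ℕ} (K : Kac chevE7 7 3 c c0) :
    c ∈ [![0, 0, 0, 0, 0, 0, 0], ![0, 0, 0, 0, 0, 0, 3], ![1, 0, 0, 0, 0, 0, 0], ![0, 1, 0, 0, 0, 0, 0],
      ![0, 0, 0, 0, 0, 1, 0], ![1, 0, 0, 0, 0, 0, 1], ![0, 1, 0, 0, 0, 0, 1], ![0, 0, 0, 0, 0, 1, 1],
      ![0, 0, 0, 0, 0, 0, 1], ![0, 0, 0, 0, 0, 0, 2], ![0, 0, 1, 0, 0, 0, 0], ![0, 0, 0, 0, 1, 0, 0]] := by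
  have h := K.sum
  rw [hrE7] at h
  simp only [Fin.sum_univ_seven, cons_val] at h
  have e : c = ![c 0, c 1, c 2, 0, c 4, c 5, c 6] := by
    have h3 : c 3 = 0 := by omega
    funext i
    fin_cases i <;> first | rfl | exact h3
  have k := kl7_key (c 0) (by omega) (c 1) (by omega) (c 2) (by omega) (c 4) (by omega) (c 5) (by omega) (c 6) (by omega)
    (by omega)
  rw [e]
  generalize c 0 = a0, c 1 = a1, c 2 = a2, c 4 = a4, c 5 = a5, c 6 = a6 at k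
  simp only [kl7, List.mem_cons, List.cons.injEq, List.not_mem_nil, or_false, and_true] at k
  rcases k with k | k | k | k | k | k | k | k | k | k | k | k <;>
    obtain ⟨rfl, rfl, rfl, rfl, rfl, rfl⟩ := k <;>
    simp only [List.mem_cons, true_or, or_true]

theorem PurePl.ne {Adm : Matrix (Fin l) (Fin l) ℤ → Prop} {u x : Fin l → ZMod 3} (H : PurePl C Adm u x) : u ≠ 0 :=
  fun h => absurd (H.ind 1 0 (by rw [h, smul_zero, zero_smul, add_zero])).1 (by decide)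

theorem two8 : ∀ i, cartanOf chevE8 8 i i = 2 := by (first | (set_option backward.isDefEq.respectTransparency.types false in set_option synthInstance.maxSize 99999 in (delta _root_.Cfsg.Agent.ChevalleyStructure.CoxeterGeomTypes.cartanOf _root_.Cfsg.Lie.ChevalleyDatum.simple _root_.Cfsg.Lie.ChevalleyDatum.cartan; exact _root_.Cfsg.Agent.FastDec.of (by decide +kernel))) | decide +kernel)

theorem two7 : ∀ i, cartanOf chevE7 7 i i = 2 := by decide +kernel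

/-- the pure planes of `E₈` are of type `E₆ A₂` -/
theorem lat8 {u x : Fin 8 → ZMod 3} (H : PurePl chevE8 (AdmS 3 [1]) u x) :
    ∃ W, WM chevE8 8 W ∧ mv W u = Pi.single 6 1 := by
  obtain ⟨W, hW, c, c0, K, h⟩ := exists_kac hpE8 u
  have H' := Pl.PurePl.mv two8 Pl.Nm.one H hW
  have h1 := (qq_eq_zero inv8 H').1
  have h2 := PurePl.ne H'
  rw [h] at h1 h2
  refine ⟨W, hW, h.trans ?_⟩
  have h3 := kac8 K
  simp only [List.mem_cons, List.not_mem_nil, or_false] at h3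
  rcases h3 with rfl | rfl | rfl | rfl | rfl
  · exact absurd (by decide +kernel) h2
  · exact absurd h1 (by decide +kernel)
  · exact absurd h1 (by decide +kernel)
  · exact absurd h1 (by decide +kernel)
  · decide +kernel

private noncomputable def _root_.Cfsg.Agent.LsF.f818bdd_8 : {f // @Cfsg.Agent.TO.X.vl = f} := ⟨_, by first | (delta Cfsg.Agent.TO.X.vl; rewrite [Cfsg.Agent.LsF.finFintype_eq, Cfsg.Agent.LsF.fsum_eq]; exact rfl) | exact rfl⟩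
private noncomputable def _root_.Cfsg.Agent.LsF.f818bdd_9 : {f // @Cfsg.Agent.ChevalleyStructure.RootVecTab.dig = f} := ⟨_, by first | (delta Cfsg.Agent.ChevalleyStructure.RootVecTab.dig; rewrite [Cfsg.Agent.LsF.nmul_pat]; exact rfl) | exact rfl⟩
private noncomputable def _root_.Cfsg.Agent.LsF.f818bdd_10 : {f // @Cfsg.Agent.ChevalleyStructure.RootVecTab.packTab = f} := ⟨_, by first | (delta Cfsg.Agent.ChevalleyStructure.RootVecTab.packTab; rewrite [Cfsg.Agent.LsF.instDecEq_eq, Cfsg.Agent.LsF.ite_eq]; exact rfl) | exact rfl⟩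
private noncomputable def _root_.Cfsg.Agent.LsF.f818bdd_11 : {f // @Cfsg.Agent.ChevalleyStructure.RootVecTab.code = f} := ⟨_, by first | (delta Cfsg.Agent.ChevalleyStructure.RootVecTab.code; rewrite [Cfsg.Agent.LsF.f818bdd_10.2, Cfsg.Agent.LsF.nmul_pat, Cfsg.Agent.LsF.npow_pat]; exact rfl) | exact rfl⟩
private noncomputable def _root_.Cfsg.Agent.LsF.f818bdd_12 : {f // @Cfsg.Agent.ChevalleyStructure.RootVec.rt = f} := ⟨_, by first | (delta Cfsg.Agent.ChevalleyStructure.RootVec.rt; rewrite [Cfsg.Agent.LsF.f818bdd_9.2, Cfsg.Agent.LsF.f818bdd_11.2, Cfsg.Agent.LsF.nsub_pat, Cfsg.Agent.LsF.isub_pat, Cfsg.Agent.LsF.icast_pat, Cfsg.Agent.LsF.decLt_eq, Cfsg.Agent.LsF.dAnd_eq, Cfsg.Agent.LsF.ite_eq]; exact rfl) | exact rfl⟩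
private noncomputable def _root_.Cfsg.Agent.LsF.f818bdd_13 : {f // @Cfsg.Agent.Nodes.RGDChev.vec = f} := ⟨_, by first | (delta Cfsg.Agent.Nodes.RGDChev.vec; rewrite [Cfsg.Agent.LsF.f818bdd_12.2]; exact rfl) | exact rfl⟩
private noncomputable def _root_.Cfsg.Agent.LsF.f818bdd_14 : {f // @Cfsg.Agent.TO.X7.nz = f} := ⟨_, by first | (delta Cfsg.Agent.TO.X7.nz; rewrite [Cfsg.Agent.LsF.f818bdd_8.2, Cfsg.Agent.LsF.f818bdd_13.2, Cfsg.Agent.LsF.zdecEq_eq, Cfsg.Agent.LsF.fcard_eq, Cfsg.Agent.LsF.ffilter_eq, Cfsg.Agent.LsF.frange_eq]; exact rfl) | exact rfl⟩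
theorem noE6 : ∀ a b c d e f : ZMod 3, qq G7 ![a, b, c, d, e, f, 1] = 0 → qq G7 ![a, b, c, d, e, f, 0] = 0 →
    (![a, b, c, d, e, f, 0] : Fin 7 → ZMod 3) = 0 ∨ 72 < X7.nz chevE7 (![a, b, c, d, e, f, 0] : Fin 7 → ZMod 3) ∨
      X7.nz chevE7 (![a, b, c, d, e, f, 0] : Fin 7 → ZMod 3) < 72 ∨
      X7.nz chevE7 (![a, b, c, d, e, f, 1] : Fin 7 → ZMod 3) < 72 ∨
      X7.nz chevE7 (![a, b, c, d, e, f, -1] : Fin 7 → ZMod 3) < 72 := by
  (first | (set_option backward.isDefEq.respectTransparency.types false in set_option synthInstance.maxSize 99999 in (delta _root_.Cfsg.Agent.TO.X7.nz _root_.Cfsg.Agent.Nodes.RGDChev.vec _root_.Cfsg.Agent.ChevalleyStructure.RootVec.rt _root_.Cfsg.Agent.ChevalleyStructure.RootVecTab.code _root_.Cfsg.Agent.ChevalleyStructure.RootVecTab.packTab _root_.Cfsg.Agent.ChevalleyStructure.RootVecTab.dig _root_.Cfsg.Agent.TO.X.vl _root_.Cfsg.Agent.TO.T3.F0.G7 _root_.Cfsg.Agent.TO.T3.F0.qq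 _root_.Cfsg.Agent.TO.X.mv; exact _root_.Cfsg.Agent.FastDec.of (by decide +kernel))) | decide +kernel)

theorem cj_symm (h2 : ∀ i, cartanOf C l i i = 2) {u v : Fin l → ZMod 3} (H : Cj C (AdmS 3 [1]) u v) :
    Cj C (AdmS 3 [1]) v u := by
  obtain ⟨W, A, h1, ⟨c, hc, B, hB, rfl⟩, rfl⟩ := H
  obtain ⟨W', a1, a2, -⟩ := Pl.WM.inv h2 h1
  refine ⟨W', _, a1, ⟨c, hc, B, hB, rfl⟩, ?_⟩
  have h : ∀ c : ZMod 3, c ≠ 0 → c * c = 1 := by decide
  rw [List.mem_singleton.1 hB, mv_mul, smul_mv, mv_one, mv_mul, smul_mv, mv_one, mv_smul, mv_smul, mv_smul, ← mv_mul, a2,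
    mv_one, smul_smul, h _ (by rwa [Ne, ZMod.intCast_zmod_eq_zero_iff_dvd]), one_smul]

theorem n0 : X7.nz chevE7 (![0, 0, 0, 0, 0, 0, 1] : Fin 7 → ZMod 3) = 72 := by (refine of_decide_eq_true ?_; (try (rewrite [Cfsg.Agent.LsF.f818bdd_14.2, Cfsg.Agent.LsF.vecCons_eq, Cfsg.Agent.LsF.instDecEq_eq, Cfsg.Agent.LsF.decide_eq])); decide +kernel)

theorem not_E6 {x : Fin 7 → ZMod 3} : ¬ PurePl chevE7 (AdmS 3 [1]) (![0, 0, 0, 0, 0, 0, 1] : Fin 7 → ZMod 3) x := by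
  intro H0
  have H := Pl.PurePl.add H0 (-x 6)
  have h6 : (x + (-x 6) • (![0, 0, 0, 0, 0, 0, 1] : Fin 7 → ZMod 3)) 6 = 0 := by
    show x 6 + (-x 6) * 1 = 0
    ring
  generalize x + (-x 6) • (![0, 0, 0, 0, 0, 0, 1] : Fin 7 → ZMod 3) = y at H h6
  have e : y = ![y 0, y 1, y 2, y 3, y 4, y 5, 0] := by
    funext i
    fin_cases i <;> first | rfl | exact h6
  have k : ∀ i : ZMod 3, X7.nz chevE7 (![y 0, y 1, y 2, y 3, y 4, y 5, i] : Fin 7 → ZMod 3) = 72 := fun i => by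
    have h1 := H.cj i 1 fun h0 => one_ne_zero (H.ind i 1 h0).2
    have h2 : i • (![0, 0, 0, 0, 0, 0, 1] : Fin 7 → ZMod 3) + (1 : ZMod 3) • y = ![y 0, y 1, y 2, y 3, y 4, y 5, i] := by
      funext j
      fin_cases j <;> simp [h6]
    rw [h2] at h1
    exact le_antisymm (n0 ▸ X7.nz_cj hpE7 h1) (n0 ▸ X7.nz_cj hpE7 (cj_symm two7 h1))
  obtain ⟨-, h1, h2⟩ := qq_eq_zero inv7 H
  have h3 : (![0, 0, 0, 0, 0, 0, 1] : Fin 7 → ZMod 3) + y = ![y 0, y 1, y 2, y 3, y 4, y 5, 1] := by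
    funext j
    fin_cases j <;> simp [h6]
  rw [h3] at h2
  rw [e] at h1
  rcases noE6 _ _ _ _ _ _ h2 h1 with h | h | h | h | h
  · exact one_ne_zero (H.ind 0 1 (by rw [zero_smul, zero_add, one_smul, e, h])).2
  all_goals
    rw [k] at h
    exact lt_irrefl _ h

/-- the pure planes of `E₇` are of type `A₅ A₂` -/
theorem lat7 {u x : Fin 7 → ZMod 3} (H : PurePl chevE7 (AdmS 3 [1]) u x) :
    ∃ W, WM chevE7 7 W ∧ (mv W u = Pi.single 2 1 ∨ mv W u = Pi.single 4 1) := by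
  obtain ⟨W, hW, c, c0, K, h⟩ := exists_kac hpE7 u
  have H' := Pl.PurePl.mv two7 Pl.Nm.one H hW
  have h1 := (qq_eq_zero inv7 H').1
  have h2 := PurePl.ne H'
  refine ⟨W, hW, ?_⟩
  rw [h] at h1 h2 H' ⊢
  have h3 := kac7 K
  simp only [List.mem_cons, List.not_mem_nil, or_false] at h3
  rcases h3 with rfl | rfl | rfl | rfl | rfl | rfl | rfl | rfl | rfl | rfl | rfl | rfl
  · exact absurd (by decide +kernel) h2
  · exact absurd (by decide +kernel) h2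
  · exact absurd h1 (by decide +kernel)
  · exact absurd h1 (by decide +kernel)
  · exact absurd h1 (by decide +kernel)
  · exact absurd h1 (by decide +kernel)
  · exact absurd h1 (by decide +kernel)
  · exact absurd h1 (by decide +kernel)
  · refine absurd ?_ (not_E6 (x := mv W x))
    convert H' using 1
    decide +kernel
  · refine absurd ⟨fun i j h0 => ?_, fun i j h0 => ?_⟩ (not_E6 (x := mv W x))
    all_goals
      have e : (fun i => (((![0, 0, 0, 0, 0, 0, 2] : Fin 7 → ℕ) i : ℕ) : ZMod 3)) =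
          (2 : ZMod 3) • (![0, 0, 0, 0, 0, 0, 1] : Fin 7 → ZMod 3) := by decide +kernel
      have e2 : ∀ i : ZMod 3, i = 2 * i * 2 := by decide
      rw [e] at H'
      rw [e2 i, mul_smul] at h0
    · obtain ⟨a1, a2⟩ := H'.ind _ j h0
      exact ⟨by rw [e2 i, a1, zero_mul], a2⟩
    · obtain ⟨W', A, a1, ⟨c, hc, B, hB, rfl⟩, a2⟩ := H'.cj _ j h0
      refine ⟨W', (c * 2) • B, a1, ⟨c * 2, by omega, B, hB, rfl⟩, ?_⟩
      rw [e2 i, mul_smul, a2, mv_mul, mv_mul, smul_mv, smul_mv]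
      simp only [mv_smul, smul_smul, Int.cast_mul, Int.cast_ofNat]
  · exact Or.inl (by decide +kernel)
  · exact Or.inr (by decide +kernel)

/-! ### groups -/

variable {hp : IsType C l M} {r : ℕ} [Fact r.Prime] {Mx : Matrix (Fin l) (Fin l) ℤ} {X : XF hp r (KK r) Mx}

theorem cop3 : ∀ c : ZMod 3, c ≠ 0 → c.val.Coprime 3 := by decide

/-- a multiple of a fundamental coweight -/
theorem e_mem_Om (E : Tor X) {ζ : (KK r)ˣ} (hζ : IsPrimitiveRoot ζ 3) {W : Matrix (Fin l) (Fin l) ℤ} (hW : WM C l W)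
    {v : Fin l → ZMod 3} {i : Fin l} {c : ZMod 3} (hc : c ≠ 0) (h : mv W v = c • Pi.single i 1) :
    E.e ζ v ∈ Om hp r 3 i := by
  obtain ⟨E', -, h2⟩ := E.exists_move_e hζ hW
  have h3 : E'.y⁻¹ * E'.e ζ (mv W v) * E'.y⁻¹⁻¹ = tau hp (coch (fun j => ((mv W v j).val : ℤ)) ζ) := by
    rw [Tor.e, E'.τ_eq]
    show _ = τ0 X _
    group
  refine ⟨E'.y⁻¹, ((ζ ^ c.val : (KK r)ˣ) : KK r),
    IsPrimitiveRoot.coe_units_iff.2 (hζ.pow_of_coprime _ (cop3 c hc)), ?_⟩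
  rw [← h2, h3]
  refine ⟨tau_mem hp _, fun x => ?_⟩
  rw [cX_tau, DL.chr_coch, ← Units.val_zpow_eq_zpow_val, ← zpow_natCast, ← _root_.zpow_mul]
  congr 1
  refine (Tor.zpow_eq hζ).2 ?_
  simp [h, Pi.single_apply, mul_comm]

variable {d : ℕ} {S : Type} [Group S] [Finite S] (s : XS X (AdmF r) d S) {Γ : Subgroup (MulAut S)} {Q : Subgroup S}

theorem om_of {f : ℕ} (hf : Cn.PM C l f) (h3 : (3 : ℕ).Coprime f) (hr : r ≠ 3)
    (P : Pure 3 S Γ Q) {I : Set (Fin l)}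
    (hL : ∀ u x : Fin l → ZMod 3, PurePl C (AdmS 3 [1]) u x → ∃ W, WM C l W ∧ ∃ i ∈ I, mv W u = Pi.single i 1)
    {a : S} (ha : a ∈ BHZ.Nil.KK 3 Q) (h : a ^ 3 = 1) (h1 : a ≠ 1) : ∃ i ∈ I, s.ι a ∈ Om hp r 3 i := by
  obtain ⟨ζ, hζ⟩ := exists_prim (r := r) (KK r) (n := 3)
    fun h0 => hr ((Nat.prime_dvd_prime_iff_eq Fact.out Nat.prime_three).1 h0)
  have hm : ∀ A : Matrix (Fin l) (Fin l) ℤ, AdmF r A → AdmS 3 [1] A := fun A =>
    admS_of_admF Nat.prime_three Fact.out hr.symm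
  obtain ⟨E, b, -, u, x, hb, -, -, hu, -, H⟩ := exists_plane s hζ P (conn_of_pm X hf h3) hr.symm
  obtain ⟨W, hW, i, hi, e⟩ := hL u x (H.mono hm)
  have h4 : s.ι a ^ 3 = 1 := by rw [← map_pow, h, map_one]
  obtain ⟨E', hE'⟩ := exists_tor X (F_ι s a) (not_dvd_of_pow hr.symm (n := 1) (by rwa [pow_one]))
  obtain ⟨v, hv⟩ := E'.exists_e hζ hE' h4
  have v0 : v ≠ 0 := fun h0 => h1 (ι_inj s (by rw [← hv, h0, E'.e_zero hζ, map_one]))
  obtain ⟨W', A, a1, ⟨c, hc, B, hB, rfl⟩, a2⟩ :=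
    (cj_of_pure s hζ P E' E ha (le_KK hb) hv.symm hu v0 (PurePl.ne H)).mono hm
  have hc' : (c : ZMod 3) ≠ 0 := by rwa [Ne, ZMod.intCast_zmod_eq_zero_iff_dvd]
  have k : ∀ c : ZMod 3, c ≠ 0 → c * c = 1 := by decide
  refine ⟨i, hi, hv ▸ e_mem_Om E' hζ (hW.mul a1) hc' ?_⟩
  rw [← e, a2, List.mem_singleton.1 hB, mv_mul, mv_mul, smul_mv, mv_one, mv_smul, mv_smul, smul_smul, k _ hc', one_smul]

/-- **`E₈`** -/
theorem om8 {Mx : Matrix (Fin 8) (Fin 8) ℤ} {X : XF hpE8 r (KK r) Mx} (s : XS X (AdmF r) d S) (hr : r ≠ 3)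
    (P : Pure 3 S Γ Q) {a : S} (ha : a ∈ BHZ.Nil.KK 3 Q) (h : a ^ 3 = 1) (h1 : a ≠ 1) : s.ι a ∈ Om hpE8 r 3 6 := by
  obtain ⟨i, rfl, h2⟩ := om_of s Cn.pm_E8 (by norm_num) hr P (I := {6})
    (fun _ _ H => let ⟨W, a1, a2⟩ := lat8 H; ⟨W, a1, 6, rfl, a2⟩) ha h h1
  exact h2

/-- **`E₇`** -/
theorem om7 {Mx : Matrix (Fin 7) (Fin 7) ℤ} {X : XF hpE7 r (KK r) Mx} (s : XS X (AdmF r) d S) (hr : r ≠ 3)
    (P : Pure 3 S Γ Q) {a : S} (ha : a ∈ BHZ.Nil.KK 3 Q) (h : a ^ 3 = 1) (h1 : a ≠ 1) : s.ι a ∈ Om hpE7 r 3 2 := by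
  obtain ⟨i, rfl | rfl, h2⟩ := om_of s Cn.pm_E7 (by norm_num) hr P (I := {2, 4})
    (fun _ _ H => let ⟨W, a1, a2⟩ := lat7 H
      ⟨W, a1, a2.elim (fun h => ⟨2, Or.inl rfl, h⟩) fun h => ⟨4, Or.inr rfl, h⟩⟩) ha h h1
  · exact h2
  · exact Om_chain (by norm_num) chE7b h2

/-! ### the situations over `KK r` -/

section Inst

variable {F : Type} [Field F] [Fintype F] [CharP F r] {e : ℕ} (f : F →+* KK r) (hF : Fintype.card F = r ^ e)

end Inst

end Cfsg.Agent.TO.T3.F0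

private theorem dce_561d84550144 : _root_.True := by
  try have : _root_.True := by simp only [_root_.Cfsg.Agent.TO.T3.F0.qq.eq_1]
  exact _root_.True.intro
end

-- part: TO/T3/Four
section
prune_inst 0x22430202541220000001c00002000200519000090000300002902000001080200a003060100c003120012800020008000001000300210000000008000400401001c0012068048a000000000001804000000000000000000000000000000000000000000000
set_option linter.all false
open scoped Cfsg.Agent.FastGrp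

/-!
# S4817, `p = 3`: four commuting subgroups `SL₃` (helper3)

* `Pk.pair` : in a plane of type II the four subgroups `S` commute pairwise;
* `Bl` : the coordinates of a block `A₂`; `le_of_bl`, `dec_T` : four commuting blocks need rank eight and fill the torus;
* `four`, `no2` : the properties `Pk.Four` (rank at most eight) and `Pk.No2` (rank at most seven).
-/

set_option autoImplicit false
set_option linter.unusedSectionVars false

namespace Cfsg.Agent.TO.T3.Fo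

open CoxeterSystem Cfsg Cfsg.Lie Cfsg.Lie.ChevalleyDatum Subgroup
open Cfsg.Agent.ChevalleyStructure Cfsg.Agent.ChevalleyStructure.CoxeterGeom
  Cfsg.Agent.ChevalleyStructure.CoxeterGeomTypes
open Cfsg.Agent.Tits.Roots Cfsg.Agent.Nodes.RGDChev Cfsg.Agent.Nodes.Coroot
open Cfsg.Agent.KFacts.RgdField Cfsg.Agent.KFacts.RgdChevCoord
open Cfsg.Agent.H469.Exc Cfsg.Agent.H129.TorusChar Cfsg.Agent.DS.Ex Cfsg.Agent.DS.Nt
open Cfsg.Agent.H81.TorOrth Cfsg.Agent.H605.MX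
open Cfsg.Agent.Nodes.RGDFoldSL (hS)
open Cfsg.Agent.BpExc.TorChev (TT_comm)

section Abs

variable {Y : Type} [Group Y] {Φ : MulAut Y} (P : Pk Y Φ) {z y : Y}

theorem ty_inv (h : P.Ty z) : P.Ty z⁻¹ := by
  obtain ⟨g, hg⟩ := P.tp1 z (P.ty3 z h)
  obtain ⟨n, hn⟩ := P.neg_conj g
  have h1 := P.tyc z h n⁻¹
  rwa [inv_inv, hn z hg] at h1

theorem sq_eq (h : z ^ 3 = 1) : z * z = z⁻¹ := eq_inv_of_mul_eq_one_left (by rw [← h, pow_three'])

theorem pl_swap (h : Pl P.Ty z y) : Pl P.Ty y z :=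
  ⟨h.comm.symm, h.t2, h.t1, h.comm ▸ h.t3, by simpa using ty_inv P h.t4⟩

theorem pl_mul (h : Pl P.Ty z y) : Pl P.Ty z (y * z) :=
  ⟨by rw [← mul_assoc, h.comm], h.t1, h.t3, by rw [mul_assoc, sq_eq (P.ty3 z h.t1)]; exact h.t4,
    by rw [mul_inv_cancel_right]; exact h.t2⟩

theorem step (h : Pl P.Ty z y) (hy : y ∈ Ce (P.S z)) :
    P.S y ≤ Ce (P.S z) ∧ P.S (y * z) ≤ Ce (P.S z) ∧ P.S (y * z⁻¹) ≤ Ce (P.S z) := by
  have h1 := mul_mem hy (P.cen z h.t1)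
  have h2 := P.two _ _ (pl_mul P (pl_mul P h)) (mul_mem h1 (P.cen z h.t1))
  rw [mul_assoc, sq_eq (P.ty3 z h.t1)] at h2
  exact ⟨P.two _ _ h hy, P.two _ _ (pl_mul P h) h1, h2⟩

/-- the four points of the plane -/
def pt (z y : Y) : Fin 4 → Y := ![z, y, y * z, y * z⁻¹]

theorem ty_pt (h : Pl P.Ty z y) (i : Fin 4) : P.Ty (pt z y i) := by
  fin_cases i
  exacts [h.t1, h.t2, h.t3, h.t4]

/-- **The four subgroups commute pairwise.** -/
theorem pair (h : Pl P.Ty z y) (hy : y ∈ Ce (P.S z)) (i j : Fin 4) (hij : i ≠ j) :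
    P.S (pt z y i) ≤ Ce (P.S (pt z y j)) := by
  obtain ⟨a1, a2, a3⟩ := step P h hy
  obtain ⟨-, b2, b3⟩ := step P (pl_swap P h) (le_centralizer_iff.1 a1 (P.mem z h.t1))
  obtain ⟨-, c3, -⟩ := step P (pl_swap P (pl_mul P h)) (le_centralizer_iff.1 a2 (P.mem z h.t1))
  rw [← h.comm] at b2
  rw [show z * y⁻¹ = (y * z⁻¹)⁻¹ by simp, P.Si _ h.t4] at b3
  rw [← mul_assoc, ← h.comm, mul_assoc, sq_eq (P.ty3 z h.t1)] at c3
  fin_cases i <;> fin_cases j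
  exacts [absurd rfl hij, le_centralizer_iff.1 a1, le_centralizer_iff.1 a2, le_centralizer_iff.1 a3,
    a1, absurd rfl hij, le_centralizer_iff.1 b2, le_centralizer_iff.1 b3,
    a2, b2, absurd rfl hij, le_centralizer_iff.1 c3, a3, b3, c3, absurd rfl hij]

theorem ce_conj (h : P.Ty z) {x : Y} (hx : x ∈ Ce (P.S z)) (g : Y) : g * x * g⁻¹ ∈ Ce (P.S (g * z * g⁻¹)) := by
  refine mem_centralizer_iff.2 fun s hs => ?_
  have h1 := P.Sc _ (P.tyc z h g) s hs g⁻¹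
  rw [show g⁻¹ * (g * z * g⁻¹) * g⁻¹⁻¹ = z by group] at h1
  have h2 := ce_comm hx h1
  calc s * (g * x * g⁻¹) = g * (g⁻¹ * s * g⁻¹⁻¹ * x) * g⁻¹ := by group
    _ = _ := by rw [h2]; group

theorem pl_conj (h : Pl P.Ty z y) (g : Y) : Pl P.Ty (g * z * g⁻¹) (g * y * g⁻¹) :=
  ⟨by rw [conj_mul, conj_mul, h.comm], P.tyc _ h.t1 g, P.tyc _ h.t2 g, by rw [conj_mul]; exact P.tyc _ h.t3 g,
    by rw [conj_inv, conj_mul]; exact P.tyc _ h.t4 g⟩

theorem pl_tor (h : Pl P.Ty z y) : ∃ g : Y, g * z * g⁻¹ ∈ P.T ∧ g * y * g⁻¹ ∈ P.T := by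
  obtain ⟨g, hg⟩ := P.tp1 z (P.ty3 z h.t1)
  have h1 := pl_conj P h g⁻¹
  rw [inv_inv] at h1
  obtain ⟨u, h2, h3⟩ := P.tp2 _ hg (P.ty3 _ h1.t1) _ (P.ty3 _ h1.t2) h1.comm
  refine ⟨u⁻¹ * g⁻¹, ?_, ?_⟩
  · rw [show u⁻¹ * g⁻¹ * z * (u⁻¹ * g⁻¹)⁻¹ = u⁻¹ * (g⁻¹ * z * g * u) by group, ← h2, inv_mul_cancel_left]
    exact hg
  · rwa [show u⁻¹ * g⁻¹ * y * (u⁻¹ * g⁻¹)⁻¹ = u⁻¹ * (g⁻¹ * y * g) * u by group]

/-- the plane -/
def plane (hc : y * z = z * y) (hz : z ^ 3 = 1) (hy : y ^ 3 = 1) : Subgroup Y where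
  carrier := {x | ∃ i j : ℕ, x = z ^ i * y ^ j}
  one_mem' := ⟨0, 0, by simp⟩
  mul_mem' := by
    rintro _ _ ⟨i, j, rfl⟩ ⟨i', j', rfl⟩
    refine ⟨i + i', j + j', ?_⟩
    rw [pow_add, pow_add, mul_assoc, mul_assoc, ← mul_assoc (y ^ j), (Commute.pow_pow hc j i').eq, mul_assoc]
  inv_mem' := by
    rintro _ ⟨i, j, rfl⟩
    refine ⟨2 * i, 2 * j, ?_⟩
    rw [pow_mul, pow_mul, sq, sq, sq_eq hz, sq_eq hy, inv_pow, inv_pow, ← mul_inv_rev, (Commute.pow_pow hc j i).eq]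

/-- the end of the proof of `Four` -/
theorem four_of (h : Pl P.Ty z y) (hy : y ∈ Ce (P.S z)) {x : Y} (hx : ∀ i, x ∈ Ce (P.S (pt z y i))) {s : Fin 4 → Y}
    (hs : ∀ i, s i ∈ P.S (pt z y i)) (e : x = s 0 * s 1 * s 2 * s 3) : ∃ i j : ℕ, x = z ^ i * y ^ j := by
  have h1 := fun i j hij => pair P h hy i j hij (hs i)
  have h2 : ∀ i, s i ∈ Ce (P.S (pt z y i)) := by
    intro i
    fin_cases i
    · show s 0 ∈ Ce (P.S (pt z y 0))
      rw [show s 0 = x * (s 3)⁻¹ * (s 2)⁻¹ * (s 1)⁻¹ by rw [e]; group]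
      exact mul_mem (mul_mem (mul_mem (hx 0) (inv_mem (h1 3 0 (by decide)))) (inv_mem (h1 2 0 (by decide))))
        (inv_mem (h1 1 0 (by decide)))
    · show s 1 ∈ Ce (P.S (pt z y 1))
      rw [show s 1 = (s 0)⁻¹ * x * (s 3)⁻¹ * (s 2)⁻¹ by rw [e]; group]
      exact mul_mem (mul_mem (mul_mem (inv_mem (h1 0 1 (by decide))) (hx 1)) (inv_mem (h1 3 1 (by decide))))
        (inv_mem (h1 2 1 (by decide)))
    · show s 2 ∈ Ce (P.S (pt z y 2))
      rw [show s 2 = (s 1)⁻¹ * (s 0)⁻¹ * x * (s 3)⁻¹ by rw [e]; group]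
      exact mul_mem (mul_mem (mul_mem (inv_mem (h1 1 2 (by decide))) (inv_mem (h1 0 2 (by decide)))) (hx 2))
        (inv_mem (h1 3 2 (by decide)))
    · show s 3 ∈ Ce (P.S (pt z y 3))
      rw [show s 3 = (s 2)⁻¹ * (s 1)⁻¹ * (s 0)⁻¹ * x by rw [e]; group]
      exact mul_mem (mul_mem (mul_mem (inv_mem (h1 2 3 (by decide))) (inv_mem (h1 1 3 (by decide))))
        (inv_mem (h1 0 3 (by decide)))) (hx 3)
  have hz' : z ∈ plane h.comm (P.ty3 z h.t1) (P.ty3 y h.t2) := ⟨1, 0, by simp⟩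
  have hy' : y ∈ plane h.comm (P.ty3 z h.t1) (P.ty3 y h.t2) := ⟨0, 1, by simp⟩
  have h3 : ∀ i, s i ∈ plane h.comm (P.ty3 z h.t1) (P.ty3 y h.t2) := fun i =>
    zpowers_le.2 (by
      fin_cases i
      exacts [hz', hy', mul_mem hy' hz', mul_mem hy' (inv_mem hz')]) (P.int _ (ty_pt P h i) _ (hs i) (h2 i))
  exact e ▸ mul_mem (mul_mem (mul_mem (h3 0) (h3 1)) (h3 2)) (h3 3)

end Abs

variable {D : ChevalleyDatum} {l : ℕ} {M : CoxeterMatrix (Fin l)} (hp : IsType D l M) (p : ℕ) [Fact p.Prime]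

include hp in
/-- **the torus is self-centralizing** -/
theorem mem_T (hD : Typ D) {x : YY D p} (hx : ∀ t ∈ TT D (KK p), x * t = t * x) : x ∈ TT D (KK p) := by
  have := finW hp
  obtain ⟨s, hs, h7, hsp⟩ := exists_Lp p
  obtain ⟨ζ, hζ⟩ := exists_prim (p := p) hs hsp
  have h0 := hζ.ne_zero hs.ne_zero
  have hZ : Set.range (fun q : Fin D.nroots => ps hp q.2 (hS ζ)) ⊆ TT D (KK p) := by
    rintro _ ⟨q, rfl⟩
    exact ps_hS_mem hp q.2 h0
  have h1 : Mz hp p (Set.range fun q : Fin D.nroots => ps hp q.2 (hS ζ)) ≤ TT D (KK p) := Mz_le fun a ha => by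
    obtain ⟨h2, h3⟩ := (mem_Ps hZ).1 ha
    obtain ⟨q, hq, rfl⟩ := (isRoot_iff hp _ _).1 h2
    have h4 := h3 _ ⟨⟨q, hq⟩, rfl⟩
    rw [cX_hS hp M.toCoxeterSystem (locFin p) p hq h0, cpr_self _ _ h2, hζ.zpow_eq_one_iff_dvd] at h4
    have h5 := Int.le_of_dvd (by norm_num) h4
    omega
  obtain ⟨n, hn⟩ := exists_pow_mem_DZ (hp := hp) (Set.finite_range _) hZ hs (by
    rintro _ ⟨q, rfl⟩
    refine ⟨1, pow_eq_one_of_cX (hp := hp) (ps_hS_mem hp q.2 h0) fun v => ?_⟩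
    rw [cX_hS hp M.toCoxeterSystem (locFin p) p q.2 h0, pow_one, ← zpow_natCast, ← zpow_mul, mul_comm, zpow_mul,
      zpow_natCast, hζ.pow_eq_one, one_zpow]) fun t ht => hx t (hZ ht)
  exact sup_le h1 le_rfl (mem_of_pow_coprime hn (pow_card_mem_DZ (hp := hp) (Set.finite_range _) hZ fun t ht => hx t (hZ ht))
    (((Nat.Prime.coprime_iff_not_dvd hs).2 (not_dvd_W hp hD hs h7)).pow_left n))

theorem eq_zero_of_zpow {n : ℤ} (h : ∀ c : KK p, c ≠ 0 → c ^ n = 1) : n = 0 := by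
  obtain ⟨s, h1, hs⟩ := Nat.exists_infinite_primes (n.natAbs + p + 1)
  obtain ⟨ζ, hζ⟩ := exists_prim (p := p) hs (by omega)
  exact Int.eq_zero_of_dvd_of_natAbs_lt_natAbs ((hζ.zpow_eq_one_iff_dvd n).1 (h ζ (hζ.ne_zero hs.ne_zero)))
    (by rw [Int.natAbs_natCast]; omega)

/-- the coordinates of a block of type `A₂` -/
structure Bl (S : Subgroup (YY D p)) (a b : Fin l → ℤ) (f g : (Fin l → ℤ) →+ ℤ) : Prop where
  fa : f a = 2
  fb : f b = -1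
  ga : g a = -1
  gb : g b = 2
  hf : ∀ c : KK p, c ≠ 0 → ∃ h ∈ TT D (KK p), h ∈ S ∧ ∀ v, cX hp h v = c ^ f v
  hg : ∀ c : KK p, c ≠ 0 → ∃ h ∈ TT D (KK p), h ∈ S ∧ ∀ v, cX hp h v = c ^ g v
  cen : ∀ t ∈ TT D (KK p), t ∈ Ce S → cX hp t a = 1 ∧ cX hp t b = 1

variable {hp p}

theorem Bl.orth {S S' : Subgroup (YY D p)} {a b a' b' : Fin l → ℤ} {f g f' g' : (Fin l → ℤ) →+ ℤ}
    (B : Bl hp p S a b f g) (B' : Bl hp p S' a' b' f' g') (h : S ≤ Ce S') :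
    (f a' = 0 ∧ f b' = 0) ∧ g a' = 0 ∧ g b' = 0 := by
  refine ⟨⟨eq_zero_of_zpow p fun c hc => ?_, eq_zero_of_zpow p fun c hc => ?_⟩, eq_zero_of_zpow p fun c hc => ?_,
    eq_zero_of_zpow p fun c hc => ?_⟩
  · obtain ⟨u, h1, h2, h3⟩ := B.hf c hc
    exact (h3 _).symm.trans (B'.cen u h1 (h h2)).1
  · obtain ⟨u, h1, h2, h3⟩ := B.hf c hc
    exact (h3 _).symm.trans (B'.cen u h1 (h h2)).2
  · obtain ⟨u, h1, h2, h3⟩ := B.hg c hc
    exact (h3 _).symm.trans (B'.cen u h1 (h h2)).1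
  · obtain ⟨u, h1, h2, h3⟩ := B.hg c hc
    exact (h3 _).symm.trans (B'.cen u h1 (h h2)).2

theorem Bl.solve {S : Subgroup (YY D p)} {a b : Fin l → ℤ} {f g : (Fin l → ℤ) →+ ℤ} (B : Bl hp p S a b f g)
    {c d : KK p} (hc : c ≠ 0) (hd : d ≠ 0) : ∃ h ∈ TT D (KK p), h ∈ S ∧ cX hp h a = c ^ 3 ∧ cX hp h b = d ^ 3 := by
  obtain ⟨u, h1, h2, h3⟩ := B.hf (c ^ 2 * d) (mul_ne_zero (pow_ne_zero _ hc) hd)
  obtain ⟨v, h4, h5, h6⟩ := B.hg (c * d ^ 2) (mul_ne_zero hc (pow_ne_zero _ hd))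
  refine ⟨u * v, mul_mem h1 h4, mul_mem h2 h5, ?_, ?_⟩
  · rw [cX_mul hp h1 h4, h3, h6, B.fa, B.ga, zpow_neg, zpow_one, zpow_ofNat]
    field_simp
  · rw [cX_mul hp h1 h4, h3, h6, B.fb, B.gb, zpow_neg, zpow_one, zpow_ofNat]
    field_simp

section Four

variable {S : Fin 4 → Subgroup (YY D p)} {a b : Fin 4 → Fin l → ℤ} {f g : Fin 4 → (Fin l → ℤ) →+ ℤ}
  (B : ∀ i, Bl hp p (S i) (a i) (b i) (f i) (g i)) (h : ∀ i j, i ≠ j → S i ≤ Ce (S j))

include B h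

theorem indep : LinearIndependent ℤ (Sum.elim a b) := by
  rw [Fintype.linearIndependent_iff]
  intro c hc
  rw [Fintype.sum_sum_type, ← Finset.sum_add_distrib] at hc
  have h1 : ∀ j, c (.inl j) = 0 ∧ c (.inr j) = 0 := by
    intro j
    have h2 := congrArg (f j) hc
    have h3 := congrArg (g j) hc
    rw [map_sum, map_zero, Finset.sum_eq_single j (fun i _ hi => by
      obtain ⟨⟨e1, e2⟩, -⟩ := (B j).orth (B i) (h j i hi.symm)
      rw [map_add, map_zsmul, map_zsmul, Sum.elim_inl, Sum.elim_inr, e1, e2, smul_zero, smul_zero, add_zero]) (by simp)] at h2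
    rw [map_sum, map_zero, Finset.sum_eq_single j (fun i _ hi => by
      obtain ⟨-, e1, e2⟩ := (B j).orth (B i) (h j i hi.symm)
      rw [map_add, map_zsmul, map_zsmul, Sum.elim_inl, Sum.elim_inr, e1, e2, smul_zero, smul_zero, add_zero]) (by simp)] at h3
    simp only [Sum.elim_inl, Sum.elim_inr, map_add, map_zsmul, (B j).fa, (B j).fb, (B j).ga, (B j).gb, smul_eq_mul] at h2 h3
    omega
  rintro (j | j)
  exacts [(h1 j).1, (h1 j).2]

theorem le_of_bl : 8 ≤ l := by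
  simpa using (indep B h).fintype_card_le_finrank

theorem exists_mul (hl : l ≤ 8) :
    ∃ N : ℕ, 0 < N ∧ ∀ j : Fin l, ∃ c : Fin 4 ⊕ Fin 4 → ℤ, N • (sr j : Fin l → ℤ) = ∑ i, c i • Sum.elim a b i := by
  have h1 : ∀ v : Fin l → ℤ, ∃ n : ℤ, n ≠ 0 ∧ ∃ c : Fin 4 ⊕ Fin 4 → ℤ, n • v = ∑ i, c i • Sum.elim a b i := by
    intro v
    have h2 : ¬ LinearIndependent ℤ fun o : Option (Fin 4 ⊕ Fin 4) => o.elim v (Sum.elim a b) := fun e => by
      have h3 := e.fintype_card_le_finrank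
      simp at h3
      omega
    obtain ⟨c, h3, o, h4⟩ := Fintype.not_linearIndependent_iff.1 h2
    rw [Fintype.sum_option] at h3
    refine ⟨-c none, fun e => h4 ?_, fun i => c (some i), by rw [neg_smul]; exact neg_eq_of_add_eq_zero_right h3⟩
    rw [neg_eq_zero] at e
    rw [e, zero_smul, zero_add] at h3
    cases o with
    | none => exact e
    | some i => exact Fintype.linearIndependent_iff.1 (indep B h) (fun i => c (some i)) h3 i
  choose n h2 c h3 using h1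
  refine ⟨(∏ j : Fin l, n (sr j)).natAbs, Int.natAbs_pos.2 (Finset.prod_ne_zero_iff.2 fun j _ => h2 _), fun j => ?_⟩
  obtain ⟨m, hm⟩ := Int.dvd_natAbs.2 (Finset.dvd_prod_of_mem (fun j : Fin l => n (sr j)) (Finset.mem_univ j))
  refine ⟨fun i => m * c (sr j) i, ?_⟩
  rw [← natCast_zsmul, hm, mul_comm, mul_smul, h3, Finset.smul_sum]
  simp only [mul_smul]

/-- **Four commuting blocks fill the torus.** -/
theorem dec_T (hD : Typ D) (hl : l ≤ 8) {t : YY D p} (ht : t ∈ TT D (KK p)) :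
    ∃ s : Fin 4 → YY D p, (∀ i, s i ∈ S i) ∧ t = s 0 * s 1 * s 2 * s 3 := by
  obtain ⟨N, hN, h1⟩ := exists_mul B h hl
  obtain ⟨u, hu, rfl⟩ := exists_root_T hp hD ht (n := 3 * N) (by omega)
  choose s h2 h3 h4 h5 using fun i =>
    (B i).solve ((isMC_cX hp hu).ne_zero (a i)) ((isMC_cX hp hu).ne_zero (b i))
  have h6 := mul_mem (h2 0) (h2 1)
  have h7 := mul_mem h6 (h2 2)
  have h8 := mul_mem h7 (h2 3)
  have h9 : ∀ v, cX hp (s 0 * s 1 * s 2 * s 3) v = ∏ i, cX hp (s i) v := fun v => by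
    rw [cX_mul hp h7 (h2 3), cX_mul hp h6 (h2 2), cX_mul hp (h2 0) (h2 1), Fin.prod_univ_four]
  have h10 : ∀ i, cX hp (u ^ 3) (Sum.elim a b i) = cX hp (s 0 * s 1 * s 2 * s 3) (Sum.elim a b i) := by
    rintro (j | j)
    · rw [h9, cX_pow hp hu, Sum.elim_inl,
        Finset.prod_eq_single j (fun i _ hi => ((B j).cen _ (h2 i) (h i j hi (h3 i))).1) (by simp), h4]
    · rw [h9, cX_pow hp hu, Sum.elim_inr,
        Finset.prod_eq_single j (fun i _ hi => ((B j).cen _ (h2 i) (h i j hi (h3 i))).2) (by simp), h5]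
  refine ⟨fun i => s i ^ N, fun i => pow_mem (h3 i) N, ?_⟩
  have h11 : (u ^ 3) ^ N = (s 0 * s 1 * s 2 * s 3) ^ N := by
    refine cX_inj hp (pow_mem (pow_mem hu 3) N) (pow_mem h8 N) fun j => ?_
    obtain ⟨c, hc⟩ := h1 j
    rw [cX_pow hp (pow_mem hu 3), cX_pow hp h8, ← (isMC_cX hp (pow_mem hu 3)).nsmul, ← (isMC_cX hp h8).nsmul, hc,
      (isMC_cX hp (pow_mem hu 3)).sum_smul, (isMC_cX hp h8).sum_smul]
    exact Finset.prod_congr rfl fun i _ => by rw [h10]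
  rw [pow_mul, h11, Commute.mul_pow (TT_comm hp _ h7 _ (h2 3)), Commute.mul_pow (TT_comm hp _ h6 _ (h2 2)),
    Commute.mul_pow (TT_comm hp _ (h2 0) _ (h2 1))]

end Four

variable {i : Fin l} {ρ : Fin 3 → Fin 3 → ℕ} {cf : List (ℕ × ℤ)}
  {ψ : Matrix.SpecialLinearGroup (Fin 3) (KK p) →* YY D p} (J : JD hp p 3 i ρ cf ψ)
  (hc : RootCombGood.car D (ρ 0 1) (ρ 1 2) = -1 ∧ RootCombGood.car D (ρ 1 2) (ρ 0 1) = -1)

include J hc

theorem exists_bl {u : YY D p} (hu : u ∈ TT D (KK p)) (h : u ∈ Om hp p 3 i) :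
    ∃ a b f g, Bl hp p (JJ hp p i ψ u) a b f g := by
  have := finW hp
  obtain ⟨g, ζ, hζ, hs⟩ := h
  obtain ⟨m, -, w, k, hk, hks, -⟩ := form₂ hp (ι := Unit) (s := fun _ => u) (t := fun _ => g * u * g⁻¹)
    (fun _ => hu) (fun _ => hs.1) (c := g) (fun _ => by group)
  have h1 : Std hp p ζ i (k * u * k⁻¹) := by rwa [hks (), mul_inv_cancel_right]
  have l1 := J.tab.lt (a := 0) (b := 1) (by decide)
  have l2 := J.tab.lt (a := 1) (b := 2) (by decide)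
  have r1 := isRoot_vec hp M.toCoxeterSystem l1
  have r2 := isRoot_vec hp M.toCoxeterSystem l2
  have h2 : ∀ x y (hxy : x ≠ y) (c : KK p), c ≠ 0 → ∃ h ∈ TT D (KK p), h ∈ JJ hp p i ψ u ∧ ∀ v, cX hp h v =
      c ^ cpr M.toCoxeterSystem hp.isCartan (rep M.toCoxeterSystem hp.isCartan w v) (vec D l (ρ x y)) := by
    intro x y hxy c h0
    have h3 := hk.inv.conj_mem (ps_hS_mem hp (J.tab.lt hxy) h0)
    have e : k * (k⁻¹ * ps hp (J.tab.lt hxy) (hS c) * k⁻¹⁻¹) * k⁻¹ = ps hp (J.tab.lt hxy) (hS c) := by group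
    refine ⟨_, h3, (J.mem_JJ hζ h1).2 (by rw [e]; exact J.ps_mem hxy _), fun v => ?_⟩
    rw [← hk.cX h3, e, cX_hS hp M.toCoxeterSystem (locFin p) p (J.tab.lt hxy) h0]
  refine ⟨rep M.toCoxeterSystem hp.isCartan w⁻¹ (vec D l (ρ 0 1)), rep M.toCoxeterSystem hp.isCartan w⁻¹ (vec D l (ρ 1 2)),
    AddMonoidHom.mk' (fun v => cpr M.toCoxeterSystem hp.isCartan (rep M.toCoxeterSystem hp.isCartan w v) (vec D l (ρ 0 1)))
      fun x y => by rw [map_add, cpr_add _ _ _ _ r1],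
    AddMonoidHom.mk' (fun v => cpr M.toCoxeterSystem hp.isCartan (rep M.toCoxeterSystem hp.isCartan w v) (vec D l (ρ 1 2)))
      fun x y => by rw [map_add, cpr_add _ _ _ _ r2], ?_, ?_, ?_, ?_, h2 0 1 (by decide), h2 1 2 (by decide),
    fun t ht h3 => ?_⟩
  · rw [AddMonoidHom.mk'_apply, rep_apply_inv, cpr_self _ _ r1]
  · rw [AddMonoidHom.mk'_apply, rep_apply_inv, KFacts.ChevTwoInst.cpr_vec hp _ l1 _ l2, hc.1]
  · rw [AddMonoidHom.mk'_apply, rep_apply_inv, KFacts.ChevTwoInst.cpr_vec hp _ l2 _ l1, hc.2]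
  · rw [AddMonoidHom.mk'_apply, rep_apply_inv, cpr_self _ _ r2]
  · have h4 := (J.T_cen_iff (hk.conj_mem ht)).1 ((J.cen_JJ hζ h1).1 h3)
    rw [← hk.cX ht, ← hk.cX ht (rep _ _ w⁻¹ (vec D l (ρ 1 2))), rep_apply_inv, rep_apply_inv]
    exact ⟨h4 _ ⟨0, 1, by decide, rfl⟩, h4 _ ⟨1, 2, by decide, rfl⟩⟩

variable {Φ : MulAut (YY D p)} (P : Pk (YY D p) Φ) (hT : P.T = TT D (KK p)) (hTy : ∀ z, P.Ty z → z ∈ Om hp p 3 i)
  (hS' : ∀ z, P.Ty z → P.S z = JJ hp p i ψ z)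

include hT hTy hS'

theorem exists_bls {z y : YY D p} (h : Pl P.Ty z y) (hz : z ∈ P.T) (hy : y ∈ P.T) :
    ∃ (a b : Fin 4 → Fin l → ℤ) (f g : Fin 4 → (Fin l → ℤ) →+ ℤ),
      ∀ j, Bl hp p (P.S (pt z y j)) (a j) (b j) (f j) (g j) := by
  have h1 : ∀ j, ∃ a b f g, Bl hp p (P.S (pt z y j)) a b f g := fun j => by
    rw [hS' _ (ty_pt P h j)]
    refine exists_bl J hc ?_ (hTy _ (ty_pt P h j))
    rw [← hT]
    fin_cases j
    exacts [hz, hy, mul_mem hy hz, mul_mem hy (inv_mem hz)]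
  choose a b f g h2 using h1
  exact ⟨a, b, f, g, h2⟩

/-- **[No2]** rank at most seven -/
theorem no2 (hl : l < 8) : P.No2 := fun z y h hy => by
  obtain ⟨g, h1, h2⟩ := pl_tor P h
  obtain ⟨a, b, f, g', B⟩ := exists_bls J hc P hT hTy hS' (pl_conj P h g) h1 h2
  exact absurd (le_of_bl B (pair P (pl_conj P h g) (ce_conj P h.t1 hy g))) (not_le.2 hl)

/-- **[Four]** -/
theorem four (hD : Typ D) (hl : l ≤ 8) : P.Four := fun z y h hy x x1 x2 x3 x4 => by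
  obtain ⟨g, h1, h2⟩ := pl_tor P h
  have h3 := pl_conj P h g
  have h4 := ce_conj P h.t1 hy g
  obtain ⟨a, b, f, g', B⟩ := exists_bls J hc P hT hTy hS' h3 h1 h2
  have h5 : ∀ j, g * x * g⁻¹ ∈ Ce (P.S (pt (g * z * g⁻¹) (g * y * g⁻¹) j)) := by
    intro j
    fin_cases j
    · exact ce_conj P h.t1 x1 g
    · exact ce_conj P h.t2 x2 g
    · show _ ∈ Ce (P.S (g * y * g⁻¹ * (g * z * g⁻¹)))
      rw [conj_mul]
      exact ce_conj P h.t3 x3 g
    · show _ ∈ Ce (P.S (g * y * g⁻¹ * (g * z * g⁻¹)⁻¹))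
      rw [conj_inv, conj_mul]
      exact ce_conj P h.t4 x4 g
  have h6 : g * x * g⁻¹ ∈ TT D (KK p) := mem_T hp p hD fun t ht => by
    obtain ⟨s, hs, rfl⟩ := dec_T B (pair P h3 h4) hD hl ht
    have h7 : ∀ j, s j ∈ Cu (g * x * g⁻¹) := fun j => mem_cu.2 (ce_comm (h5 j) (hs j))
    exact (mem_cu.1 (mul_mem (mul_mem (mul_mem (h7 0) (h7 1)) (h7 2)) (h7 3))).symm
  obtain ⟨s, hs, e⟩ := dec_T B (pair P h3 h4) hD hl h6
  obtain ⟨m, n, e'⟩ := four_of P h3 h4 h5 hs e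
  rw [conj_pow, conj_pow, conj_mul] at e'
  exact ⟨m, n, mul_left_cancel (mul_right_cancel e')⟩

omit J hc hT hTy hS' in
theorem car_E8 : RootCombGood.car chevE8 (rho3 chevE8 120 238 0 1) (rho3 chevE8 120 238 1 2) = -1 ∧
    RootCombGood.car chevE8 (rho3 chevE8 120 238 1 2) (rho3 chevE8 120 238 0 1) = -1 := by (delta Cfsg.Agent.ChevalleyStructure.RootCombGood.car Cfsg.Agent.ChevalleyStructure.RootCombGood.co Cfsg.Agent.DS.Nt.rho3; rewrite [Cfsg.Agent.ChevFast.E8.cartan, Cfsg.Agent.ChevFast.E8.coroot, Cfsg.Agent.ChevFast.E8.neg]; decide +kernel)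

omit J hc hT hTy hS' in
theorem car_E7 : RootCombGood.car chevE7 (rho3 chevE7 93 124 0 1) (rho3 chevE7 93 124 1 2) = -1 ∧
    RootCombGood.car chevE7 (rho3 chevE7 93 124 1 2) (rho3 chevE7 93 124 0 1) = -1 := by (delta Cfsg.Agent.ChevalleyStructure.RootCombGood.car Cfsg.Agent.ChevalleyStructure.RootCombGood.co Cfsg.Agent.DS.Nt.rho3; rewrite [Cfsg.Agent.ChevFast.E7.cartan, Cfsg.Agent.ChevFast.E7.coroot, Cfsg.Agent.ChevFast.E7.neg]; decide +kernel)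

end Cfsg.Agent.TO.T3.Fo
end

-- part: TO/TF/Neg
section
set_option linter.all false
open scoped Cfsg.Agent.FastGrp

/-!
# S4817, the row of `²F₄(q)`: block theoretic lemmas (helper15)

* `neg_of_trans` : a group which is transitive on the nontrivial elements of a group `p²` contains the inversion;
* `false_of_tor` : `Out` of odd order, the centraliser of `D` is a torus of odd order;
* `prin_of_cent` : no nontrivial `p`-regular element centralises the defect group.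
-/

set_option autoImplicit false

namespace Cfsg.Agent.TO.TF

open Cfsg Subgroup

/-- **the inversion** -/
theorem neg_of_trans {G : Type*} [Group G] [Finite G] {p : ℕ} [hp : Fact p.Prime] (h2 : p ≠ 2) {D : Subgroup G}
    (hD : D ≤ Ce D) (hc : Nat.card D = p ^ 2) {L : Subgroup (MulAut G)} (hL : ∀ α ∈ L, ∀ d ∈ D, α d ∈ D)
    (htr : ∀ u ∈ D, ∀ v ∈ D, u ≠ 1 → v ≠ 1 → ∃ α ∈ L, α u = v) :
    ∃ α ∈ L, (∃ k : ℕ, α ^ 2 ^ k = 1) ∧ ∀ d ∈ D, α d = d⁻¹ := by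
  have := Fact.mk Nat.prime_two
  have hp1 := hp.out.one_lt
  let P : Sylow 2 L := default
  obtain ⟨e, e1, e2⟩ : ∃ e, 2 ^ (e + 1) ∣ p ^ 2 - 1 ∧ ¬ 2 ^ (e + 1) ∣ p - 1 :=
    ⟨(p - 1).factorization 2, by
      rw [show p ^ 2 - 1 = (p + 1) * (p - 1) from Nat.sq_sub_sq p 1, pow_succ' 2]
      exact mul_dvd_mul (hp.out.odd_of_ne_two h2).add_one.two_dvd (Nat.ordProj_dvd _ _),
      Nat.pow_succ_factorization_not_dvd (by omega) Nat.prime_two⟩
  have key : ∀ u ∈ D, u ≠ 1 → 2 ^ (e + 1) ∣ (MulAction.stabilizer (P : Subgroup L) u).index := fun u hu h1 => by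
    have h3 : MulAction.orbit L u = (D : Set G) \ {1} := Set.ext fun v => ⟨by
      rintro ⟨α, rfl⟩
      exact ⟨hL α α.2 u hu, fun h => h1 ((map_eq_one_iff α.1 α.1.injective).1 h)⟩, fun hv => by
      obtain ⟨α, h4, h5⟩ := htr u hu v hv.1 h1 hv.2
      exact ⟨⟨α, h4⟩, h5⟩⟩
    have h4 : (MulAction.stabilizer L u).index = p ^ 2 - 1 := by
      rw [MulAction.index_stabilizer, h3, Set.ncard_sdiff_singleton_of_mem D.one_mem, ← hc]
      rfl
    have h5 : (MulAction.stabilizer L u ⊓ P).relIndex P * (P : Subgroup L).index =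
        (MulAction.stabilizer L u ⊓ P).relIndex (MulAction.stabilizer L u) * (p ^ 2 - 1) := by
      rw [← h4, relIndex_mul_index inf_le_right, relIndex_mul_index inf_le_left]
    rw [inf_relIndex_right] at h5
    exact (Nat.Coprime.pow_left _ ((Nat.Prime.coprime_iff_not_dvd Nat.prime_two).2 P.not_dvd_index)).dvd_of_dvd_mul_right
      (h5 ▸ e1.mul_left _)
  let S : SubMulAction (P : Subgroup L) G := ⟨D, fun r {d} hd => hL r.1.1 r.1.2 d hd⟩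
  let φ := MulAction.toPermHom (P : Subgroup L) S
  have hφ : ∀ r s : (P : Subgroup L), φ r = φ s → ∀ d ∈ D, r.1.1 d = s.1.1 d := fun r s h d hd =>
    congrArg Subtype.val (Equiv.congr_fun h ⟨d, hd⟩)
  have h3 : IsPGroup 2 φ.range := P.isPGroup'.of_surjective _ φ.rangeRestrict_surjective
  have h4 : Nontrivial φ.range := by
    have : Nontrivial D := Finite.one_lt_card_iff_nontrivial.1 (hc ▸ Nat.one_lt_pow two_ne_zero hp1)
    obtain ⟨u, hu⟩ := exists_ne (1 : D)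
    by_contra h5
    have h6 := key u u.2 fun h => hu (Subtype.ext h)
    rw [show MulAction.stabilizer (P : Subgroup L) (u : G) = ⊤ from eq_top_iff.2 fun r _ => hφ r 1 (congrArg Subtype.val
      ((not_nontrivial_iff_subsingleton.1 h5).elim (φ.rangeRestrict r) (φ.rangeRestrict 1))) u u.2, index_top,
      Nat.dvd_one, Nat.pow_eq_one] at h6
    omega
  have := h3.center_nontrivial
  obtain ⟨⟨z, z1⟩, z2⟩ := exists_ne (1 : center φ.range)
  obtain ⟨k, hk⟩ := h3 z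
  obtain ⟨j, j1, j2⟩ := Cn.exists_invol (fun h4 => z2 (Subtype.ext h4)) k hk
  have j3 := pow_mem z1 j
  generalize z ^ j = y at j1 j2 j3
  obtain ⟨s, rfl⟩ := φ.rangeRestrict_surjective y
  have s1 : ∀ d ∈ D, s.1.1 (s.1.1 d) = d := hφ (s * s) 1 (by
    rw [map_mul, map_one]
    exact congrArg Subtype.val j2)
  have s2 : ∀ r : (P : Subgroup L), ∀ d ∈ D, r.1.1 (s.1.1 d) = s.1.1 (r.1.1 d) := fun r => hφ (r * s) (s * r) (by
    rw [map_mul, map_mul]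
    exact congrArg Subtype.val (mem_center_iff.1 j3 (φ.rangeRestrict r)))
  let F : Subgroup G := D ⊓ s.1.1.toMonoidHom.eqLocus (MonoidHom.id G)
  have s3 : F = ⊥ := by
    obtain ⟨i, hi, h5⟩ := (Nat.dvd_prime_pow hp.out).1 (hc ▸ card_dvd_of_le (inf_le_left : F ≤ D))
    interval_cases i
    · exact card_eq_one.1 h5
    · exfalso
      let S' : SubMulAction (P : Subgroup L) G := ⟨(F : Set G) \ {1}, fun r {d} hd =>
        ⟨⟨hL r.1.1 r.1.2 d hd.1.1, (s2 r d hd.1.1).symm.trans (congrArg r.1.1 hd.1.2)⟩,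
          fun h => hd.2 ((map_eq_one_iff r.1.1 r.1.1.injective).1 h)⟩⟩
      have h6 : Nat.card S' = p - 1 := by
        rw [← pow_one p, ← h5]
        exact Set.ncard_sdiff_singleton_of_mem F.one_mem
      obtain ⟨x, hx⟩ := SB.TwF.exists_stab (X := S') Nat.prime_two P.isPGroup' (h6 ▸ e2)
      rw [SubMulAction.stabilizer_of_subMul] at hx
      exact absurd (Nat.le_of_dvd (by positivity) ((key x x.2.1.1 x.2.2).trans hx))
        (not_le.2 (Nat.pow_lt_pow_right one_lt_two e.lt_succ_self))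
    · refine absurd (Subtype.ext (Equiv.ext fun d => Subtype.ext ?_)) j1
      exact ((eq_of_le_of_card_ge (inf_le_left : F ≤ D) (by rw [h5, hc])).ge d.2).2
  refine ⟨s.1.1, s.1.2, ?_, fun d hd => ?_⟩
  · obtain ⟨k, hk⟩ := P.isPGroup' s
    exact ⟨k, congrArg (fun x : (P : Subgroup L) => x.1.1) hk⟩
  · have h5 : d * s.1.1 d ∈ F := ⟨mul_mem hd (hL _ s.1.2 d hd), by
      show s.1.1 (d * s.1.1 d) = d * s.1.1 d
      rw [map_mul, s1 d hd, hD hd _ (hL _ s.1.2 d hd)]⟩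
    rw [s3, mem_bot] at h5
    exact eq_inv_of_mul_eq_one_right h5

variable {G : Type} [Group G] [Finite G] {p : ℕ} [hp : Fact p.Prime] {M : Ideal AlgInt} {b : Set (IrrCharacter G)}
  {D : Subgroup G}

/-- **the block would be principal** -/
theorem false_of_tor (B : Blk) (H : Two p M b D) (hG : commutator G = ⊤) (hO : Odd (Nat.card (Out G))) (hD : D ≤ Ce D)
    (hc : Nat.card D = p ^ 2) (comm : ∀ a ∈ Ce D, ∀ b ∈ Ce D, a * b = b * a)
    (inv : ∀ t : G, (∀ d ∈ D, t * d * t⁻¹ = d⁻¹) → ∀ c ∈ Ce D, t * c * t⁻¹ = c⁻¹)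
    (odd : ∀ c ∈ Ce D, c * c = 1 → c = 1) : False := by
  obtain ⟨θ, hθ⟩ := B.can0 G p M b D H.hM H.hb H.hD hD
  obtain ⟨α, ht, ⟨k, hk⟩, h1⟩ := neg_of_trans H.odd hD hc (L := LA D θ) (fun α hα d hd => (hα.1 d).2 hd)
    (B.can2 G p M b D θ H hθ).1
  obtain ⟨t, rfl⟩ : α ∈ Inn G := by
    rw [← QuotientGroup.eq_one_iff, ← orderOf_eq_one_iff]
    refine Nat.eq_one_of_dvd_coprimes ((Nat.coprime_two_left.2 hO).pow_left k) (orderOf_dvd_of_pow_eq_one ?_)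
      (orderOf_dvd_natCard _)
    rw [← QuotientGroup.mk_pow, hk, QuotientGroup.mk_one]
  have hc : ∀ a b : Ce D, a * b = b * a := fun a b => Subtype.ext (comm a a.2 b b.2)
  have h2 := Characters.CCBasic.irr_mul_of_comm hc hθ.irr
  have h3 : Function.Injective fun c : Ce D => c * c := fun a b e => by
    have e' : a * a = b * b := e
    have h4 : a * b⁻¹ * (a * b⁻¹) = 1 := by
      rw [mul_assoc, ← mul_assoc b⁻¹, hc b⁻¹ a, mul_assoc a, ← mul_assoc a a, e']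
      group
    exact mul_inv_eq_one.1 (Subtype.ext (odd _ (a * b⁻¹).2 (congrArg Subtype.val h4)))
  refine B.np G p M b D H hG ((B.can1 G p M b D θ hθ).prin fun c hc' => ?_)
  obtain ⟨a, ha⟩ := Finite.injective_iff_surjective.1 h3 ⟨c, hc'⟩
  have h4 : θ (a⁻¹ : Ce D) = θ a := (congrArg θ (inv t h1 a a.2)).symm.trans (ht.2 a)
  have h5 := h2 a a⁻¹
  rw [mul_inv_cancel, h4, ← h2, show a * a = ⟨c, hc'⟩ from ha] at h5
  exact h5.symm.trans (Characters.CCBasic.irr_apply_one_of_comm hc hθ.irr)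

/-- **only the principal block has this defect group** -/
theorem prin_of_cent (hM : IsPModular p M) (hb : IsPBlock M b) (hD : IsDefectGroup p M b D) (hn : D ≠ ⊥)
    (h : ∀ y ∈ Ce D, ¬ p ∣ orderOf y → y = 1) : (fun _ => (1 : ℂ)) ∈ Fn b := by
  have hMp : M.IsPrime := hM.2.1.isPrime
  have h1 := S0908.result p M hM b hb D hD
  obtain ⟨g, hg, P, e⟩ := hD
  have g1 : g = 1 := h g (fun d hd => by
    rw [e] at hd
    obtain ⟨d, -, rfl⟩ := hd
    exact mem_centralizer_singleton_iff.1 d.2) fun h2 => hg.2.1 (by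
      rw [H670.Hg.blockCoeff_singular hM hb h2]
      exact Blocks.Local.memLocalIdeal_zero)
  have h2 : Nat.card D = p ^ (Nat.card G).factorization p := by
    rw [e, card_map_of_injective (subtype_injective _), P.card_eq_multiplicity, g1,
      show centralizer ({(1 : G)} : Set G) = ⊤ from eq_top_iff.2 fun x _ => mem_centralizer_singleton_iff.2 (by simp),
      card_top]
  have h3 : (Nat.card G).factorization p ≠ 0 := fun h4 => hn (card_eq_one.1 (by rw [h2, h4, pow_zero]))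
  have h4 := Nat.pow_right_injective hp.out.two_le (h1.symm.trans h2)
  obtain ⟨χ, rfl⟩ := hb
  obtain ⟨ψ, k1, k2⟩ := Nat.sInf_mem (s := (fun ψ : IrrCharacter G => (charDegree (ψ : G → ℂ)).factorization p) ''
    blockOf M (χ : G → ℂ)) ⟨_, χ, Blocks.Basic.mem_blockOf_self χ, rfl⟩
  have k3 : (charDegree (ψ : G → ℂ)).factorization p = 0 := by
    unfold blockDefect at h4
    simp only at k2
    omega
  have k4 := H670.Hg.mem_principal_of_class hM ψ (by omega) fun y y1 y2 y3 => by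
    obtain ⟨x, hx⟩ := Blocks.FullDefect.exists_conj_mem_centralizer (Sylow.ofCard D h2) (g := y) fun y4 => by
      rw [k3, Nat.sub_zero] at y3
      have y5 := mul_dvd_mul y3 y4
      rw [card_mul_index, ← pow_succ] at y5
      exact Nat.pow_succ_factorization_not_dvd Nat.card_pos.ne' hp.out y5
    have y6 := h _ hx (by rwa [← MulAut.conj_apply, MulEquiv.orderOf_eq])
    exact y1 (conj_eq_one_iff.1 y6)
  exact ⟨⟨fun _ => 1, Characters.Core.isIrr_one⟩,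
    Blocks.Osima.sameBlock_trans hM k1 (Blocks.Osima.sameBlock_symm k4), rfl⟩

end Cfsg.Agent.TO.TF
end

-- part: TO/F4/Main_mg
section

end
end
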