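import Cfsg.Agent.TO.T3.KF
import Cfsg.Agent.DS.Nt.JAbs
import Cfsg.Agent.DS.Nt.JThree
import Cfsg.Agent.DS.Nt.Inv
import Cfsg.Agent.FastGrp
import Cfsg.Agent.Prune
set_option linter.all false

section
prune_inst 0x7f00000000000000000000000000000000000000000000000000000000000000000000000000000000000000000000000000000000000000000000000000000000000000000000000000000000000000003fffffffffffffffffffffffffffbeffbdffffffff

-- part: TO/T3/SL
section
set_option linter.all false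
open scoped Cfsg.Agent.FastGrp

/-!
# S4817, `p = 3`: regular elements acting on `SL₃` (helper1)
-/

set_option autoImplicit false

namespace Cfsg.Agent.TO.T3.SL

open Matrix Subgroup Cfsg.Agent.DS.Nt Cfsg.Agent.DS.Nt.JL
open scoped commutatorElement

variable {k : Type} [Field k]

/-- `g` is the diagonal matrix `v` -/
def Dg (g : _root_.Matrix.SpecialLinearGroup (Fin 3) k) (v : Fin 3 → k) : Prop := (g : Matrix (Fin 3) (Fin 3) k) = diagonal v

theorem exists_dg (v : Fin 3 → k) (h : v 0 * v 1 * v 2 = 1) : ∃ g, Dg g v :=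
  ⟨⟨diagonal v, by rw [det_diagonal, Fin.prod_univ_three, h]⟩, rfl⟩

variable {g g' d : _root_.Matrix.SpecialLinearGroup (Fin 3) k} {u v : Fin 3 → k}

theorem Dg.det (h : Dg g v) : v 0 * v 1 * v 2 = 1 := by
  have h1 := g.2
  rwa [h, det_diagonal, Fin.prod_univ_three] at h1

theorem Dg.ne (h : Dg g v) (i : Fin 3) : v i ≠ 0 := by
  intro h0
  have h1 := h.det
  fin_cases i <;> simp_all only [_root_.Fin.isValue, _root_.Fin.zero_eta, _root_.MulZeroClass.zero_mul, _root_.zero_ne_one, _root_.Fin.mk_one, _root_.MulZeroClass.mul_zero, _root_.Fin.reduceFinMk]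

theorem Dg.eq (h : Dg g v) (h' : Dg g' v) : g = g' := Subtype.ext (h.trans h'.symm)

theorem Dg.mul (h : Dg g u) (h' : Dg g' v) : Dg (g * g') (fun i => u i * v i) := by
  unfold Dg at *
  rw [Matrix.SpecialLinearGroup.coe_mul, h, h', diagonal_mul_diagonal]

theorem dg_one : Dg (1 : _root_.Matrix.SpecialLinearGroup (Fin 3) k) fun _ => 1 := by
  unfold Dg
  rw [Matrix.SpecialLinearGroup.coe_one, diagonal_one]

theorem Dg.pow (h : Dg g u) (n : ℕ) : Dg (g ^ n) (fun i => u i ^ n) := by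
  induction n with
  | zero => simpa using dg_one
  | succ n ih => simpa only [pow_succ] using ih.mul h

theorem Dg.comm (h : Dg g u) (h' : Dg g' v) : g * g' = g' * g :=
  (h.mul h').eq (by simpa only [mul_comm] using h'.mul h)

theorem dg_of_comm (hd : Dg d v) (hv : Function.Injective v) (h : g * d = d * g) : ∃ u, Dg g u := by
  refine ⟨fun i => (g : Matrix (Fin 3) (Fin 3) k) i i, ?_⟩
  have h1 := congrArg Subtype.val h
  rw [Matrix.SpecialLinearGroup.coe_mul, Matrix.SpecialLinearGroup.coe_mul, hd] at h1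
  ext i j
  rw [diagonal_apply]
  split_ifs with hij
  · rw [hij]
  · have h2 := congrFun (congrFun h1 i) j
    rw [mul_diagonal, diagonal_mul] at h2
    have h3 : (g : Matrix (Fin 3) (Fin 3) k) i j * (v j - v i) = 0 := by linear_combination h2
    exact (mul_eq_zero.1 h3).resolve_right fun h4 => hij (hv (sub_eq_zero.1 h4).symm)

/-- the cyclic permutation matrix -/
def cyc : _root_.Matrix.SpecialLinearGroup (Fin 3) k := ⟨!![0, 0, 1; 1, 0, 0; 0, 1, 0], by simp [det_fin_three]⟩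

theorem Dg.cyc (h : Dg g v) : Dg (cyc * g * cyc⁻¹) ![v 2, v 0, v 1] := by
  obtain ⟨g', hg⟩ := exists_dg ![v 2, v 0, v 1] (by show v 2 * v 0 * v 1 = 1; linear_combination h.det)
  have h1 : SL.cyc * g = g' * SL.cyc := by
    apply Subtype.ext
    rw [Matrix.SpecialLinearGroup.coe_mul, Matrix.SpecialLinearGroup.coe_mul, h, hg]
    ext i j
    rw [mul_diagonal, diagonal_mul]
    (revert i j; simp only [SL.cyc, _root_.Fin.forall_fin_succ, _root_.Matrix.of_apply, _root_.Matrix.cons_val', _root_.Matrix.cons_val_fin_one, Fin.isValue, _root_.Matrix.cons_val_zero, _root_.Matrix.cons_val_succ, _root_.Fin.succ_zero_eq_one, _root_.Fin.succ_one_eq_two, _root_.IsEmpty.forall_iff, _root_.and_true, _root_.MulZeroClass.zero_mul, _root_.MulZeroClass.mul_zero, _root_.one_mul, _root_.mul_one, _root_.and_self, _root_.implies_true])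
  rw [h1, mul_inv_cancel_right]
  exact hg

theorem Dg.cen {c : k} (h : Dg g fun _ => c) : g ∈ center (_root_.Matrix.SpecialLinearGroup (Fin 3) k) :=
  mem_center_of_scalar (c := c) (by rw [h, smul_one_eq_diagonal])

variable {Y : Type} [Group Y] {ψ : _root_.Matrix.SpecialLinearGroup (Fin 3) k →* Y} {z y : Y}

theorem exists_z (h : SD ψ z) (hz : z ≠ 1) : ∃ c ∈ center (_root_.Matrix.SpecialLinearGroup (Fin 3) k), c ≠ 1 ∧ ψ c = z := by
  obtain ⟨c, hc⟩ := h.mem
  refine ⟨c, ((JL.Inn.self c).cen_iff h.inj).1 (by rw [hc]; exact h.cen), ?_, hc⟩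
  rintro rfl
  exact hz (hc.symm.trans (map_one ψ))

theorem int_of (h : SD ψ z) (hz : z ≠ 1) {x : Y} (hx : x ∈ ψ.range) (hc : x ∈ Ce ψ.range) : x ∈ zpowers z := by
  obtain ⟨c, h1, h2, rfl⟩ := exists_z h hz
  obtain ⟨g, rfl⟩ := hx
  obtain ⟨a, rfl⟩ := cen_cyc Nat.prime_three h1 h2 (((JL.Inn.self g).cen_iff h.inj).1 hc)
  rw [map_pow]
  exact npow_mem_zpowers _ _

theorem dec_of (h : SD ψ z) {x : Y} (hx : x * z = z * x) : ∃ a ∈ Ce ψ.range, ∃ b ∈ ψ.range, x = a * b := by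
  obtain ⟨j, hj⟩ := h.fac x hx
  refine ⟨x * (ψ j)⁻¹, ((hj.mul (JL.Inn.self j).inv).cen_iff h.inj).2 ?_, ψ j, ⟨j, rfl⟩, by group⟩
  rw [mul_inv_cancel]
  exact one_mem _

section Reg

variable {ω : k} (hω : IsPrimitiveRoot ω 3) (hd : Dg d v) (h01 : v 0 = ω * v 1) (h12 : v 1 = ω * v 2)

include hω hd h01 h12

theorem inj_v : Function.Injective v := by
  have h0 := hd.ne 2
  have h1 : ω ≠ 1 := hω.ne_one (by norm_num)
  have h2 : ω * ω ≠ 1 := fun h => hω.pow_ne_one_of_pos_of_lt (l := 2) (by norm_num) (by norm_num) (by rw [sq, h])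
  have h3 : ω ≠ 0 := hω.ne_zero (by norm_num)
  have a : v 1 ≠ v 2 := fun h => h1 (mul_right_cancel₀ h0 (by rw [← h12, h, one_mul]))
  have b : v 0 ≠ v 2 := fun h => h2 (mul_right_cancel₀ h0 (by rw [mul_assoc, ← h12, ← h01, h, one_mul]))
  have c : v 0 ≠ v 1 := fun h => h1 (mul_right_cancel₀ (hd.ne 1) (by rw [← h01, h, one_mul]))
  intro i j hij
  fin_cases i <;> fin_cases j <;>
    first | rfl | exact absurd hij a | exact absurd hij b | exact absurd hij c | exact absurd hij a.symm |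
      exact absurd hij b.symm | exact absurd hij c.symm

theorem mem_iff (hi : Function.Injective ψ) (hy : JL.Inn ψ y d) {t : Y} :
    t ∈ ψ.range ⊓ Cu y ↔ ∃ g u, Dg g u ∧ ψ g = t := by
  constructor
  · rintro ⟨⟨g, rfl⟩, h2⟩
    have h3 : y * ψ g = ψ g * y := mem_centralizer_iff.1 h2 y rfl
    have h4 : d * g * d⁻¹ = g := hi (by rw [← hy, h3, mul_inv_cancel_right])
    obtain ⟨u, hu⟩ := dg_of_comm hd (inj_v hω hd h01 h12) (g := g) (by rw [← mul_inv_eq_iff_eq_mul.1 h4])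
    exact ⟨g, u, hu, rfl⟩
  · rintro ⟨g, u, hu, rfl⟩
    exact ⟨⟨g, rfl⟩, mem_centralizer_singleton_iff.2 (hy.comm (hd.comm hu))⟩

theorem exists_c : ∃ c ∈ center (_root_.Matrix.SpecialLinearGroup (Fin 3) k), c ≠ 1 ∧ cyc * d * cyc⁻¹ = c * d := by
  have h3 : ω * ω * ω = 1 := by rw [← hω.pow_eq_one]; ring
  obtain ⟨c, hc⟩ := exists_dg (fun _ => ω) h3
  refine ⟨c, hc.cen, fun h => hω.ne_one (by norm_num) ?_, hd.cyc.eq ?_⟩
  · have h1 := congrFun (congrFun hc 0) 0
    rw [h] at h1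
    simpa using h1.symm
  · have e : ![v 2, v 0, v 1] = fun i => ω * v i := by
      funext i
      fin_cases i
      · show v 2 = ω * v 0
        rw [h01, h12, ← mul_assoc, ← mul_assoc, h3, one_mul]
      · exact h01
      · exact h12
    rw [e]
    exact hc.mul hd

/-- **Regular elements.** -/
theorem reg [IsAlgClosed k] (h : SD ψ z) (hz : z ≠ 1) (hy : JL.Inn ψ y d) : Reg ψ.range z y (ψ cyc) := by
  have hm := @mem_iff k _ d v Y _ ψ y ω hω hd h01 h12 h.inj hy
  obtain ⟨c, hc, hc1, e⟩ := exists_c hω hd h01 h12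
  refine ⟨⟨_, rfl⟩, ?_, fun t ht n hn => ?_, fun t ht => ?_, fun x hxz hxy => ?_, fun s hs hst => ?_, ?_⟩
  · obtain ⟨c', h1, h2, rfl⟩ := exists_z h hz
    have h3 : ψ cyc * y * (ψ cyc)⁻¹ = y * ψ c := by
      have h4 := hy.inv cyc
      rw [inv_inv, inv_inv] at h4
      calc ψ cyc * y * (ψ cyc)⁻¹ = y * ((y⁻¹ * ψ cyc * y) * (ψ cyc)⁻¹) := by group
        _ = y * ψ (d⁻¹ * (cyc * d * cyc⁻¹)) := by rw [h4, ← map_inv, ← map_mul]; simp only [mul_assoc]
        _ = _ := by rw [e, ← mem_center_iff.1 hc d, inv_mul_cancel_left]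
    obtain ⟨a, rfl⟩ := cen_cyc Nat.prime_three h1 h2 hc
    have h5 := cen_pow h1
    have h7 : c' ^ a = c' ^ (a % 3) := by
      conv_lhs => rw [← Nat.div_add_mod a 3, pow_add, pow_mul, h5, one_pow, one_mul]
    rw [h3]
    rw [h7] at hc1 ⊢
    have h6 : a % 3 = 0 ∨ a % 3 = 1 ∨ a % 3 = 2 := by omega
    rcases h6 with h6 | h6 | h6 <;> rw [h6] at hc1 ⊢
    · exact (hc1 (pow_zero _)).elim
    · exact Or.inl (by rw [pow_one])
    · refine Or.inr ?_
      rw [← map_inv, eq_inv_of_mul_eq_one_left (a := c' ^ 2) (by rw [← pow_succ, h5])]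
  · obtain ⟨g, u, hu, rfl⟩ := hm.1 ht
    obtain ⟨a, ha⟩ := IsAlgClosed.exists_pow_nat_eq (u 0) (Nat.pos_of_ne_zero hn)
    obtain ⟨b, hb⟩ := IsAlgClosed.exists_pow_nat_eq (u 1) (Nat.pos_of_ne_zero hn)
    have ha0 : a ≠ 0 := fun h0 => hu.ne 0 (by rw [← ha, h0, zero_pow hn])
    have hb0 : b ≠ 0 := fun h0 => hu.ne 1 (by rw [← hb, h0, zero_pow hn])
    obtain ⟨g', hg⟩ := exists_dg ![a, b, (a * b)⁻¹] (mul_inv_cancel₀ (mul_ne_zero ha0 hb0))
    refine ⟨ψ g', hm.2 ⟨g', _, hg, rfl⟩, ?_⟩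
    rw [← map_pow]
    refine congrArg ψ ((hg.pow n).eq ?_)
    have e' : (fun i => ![a, b, (a * b)⁻¹] i ^ n) = u := by
      funext i
      fin_cases i
      · exact ha
      · exact hb
      · show (a * b)⁻¹ ^ n = u 2
        rw [inv_pow, mul_pow, ha, hb]
        exact (eq_inv_of_mul_eq_one_right hu.det).symm
    rw [e']
    exact hu
  · obtain ⟨g, u, hu, rfl⟩ := hm.1 ht
    have h1 := ((hu.mul hu.cyc).mul hu.cyc.cyc).eq (g' := 1) (by
      have e' : (fun i => u i * ![u 2, u 0, u 1] i * ![![u 2, u 0, u 1] 2, ![u 2, u 0, u 1] 0, ![u 2, u 0, u 1] 1] i) =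
          fun _ => 1 := by
        funext i
        have h2 := hu.det
        fin_cases i
        · show u 0 * u 2 * u 1 = 1
          linear_combination h2
        · show u 1 * u 0 * u 2 = 1
          linear_combination h2
        · show u 2 * u 1 * u 0 = 1
          linear_combination h2
      rw [e']
      exact dg_one)
    simp only [← map_inv, ← map_mul]
    rw [h1, map_one]
  · obtain ⟨j, hj⟩ := h.fac x hxz
    obtain ⟨a, ha⟩ := cen_cyc Nat.prime_three hc hc1 (hj.cmt_cen h.inj hy hxy)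
    have h1 : ∀ n : ℕ, cyc ^ n * d * (cyc ^ n)⁻¹ = c ^ n * d := by
      intro n
      induction n with
      | zero => simp
      | succ n ih =>
        calc cyc ^ (n + 1) * d * (cyc ^ (n + 1))⁻¹ = cyc ^ n * (cyc * d * cyc⁻¹) * (cyc ^ n)⁻¹ := by
              rw [pow_succ]; group
          _ = c * (cyc ^ n * d * (cyc ^ n)⁻¹) := by
              rw [e, ← mul_assoc, mem_center_iff.1 hc (cyc ^ n)]; group
          _ = _ := by rw [ih, pow_succ']; group
    have h2 : j * d * j⁻¹ = cyc ^ a * d * (cyc ^ a)⁻¹ := by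
      rw [h1, ← ha, commutatorElement_def]; group
    obtain ⟨w, hw⟩ := dg_of_comm hd (inj_v hω hd h01 h12) (g := (cyc ^ a)⁻¹ * j) (by
      calc (cyc ^ a)⁻¹ * j * d = (cyc ^ a)⁻¹ * (j * d * j⁻¹) * j := by group
        _ = _ := by rw [h2]; group)
    refine ⟨a, fun t ht => ?_⟩
    obtain ⟨g, u, hu, rfl⟩ := hm.1 ht
    rw [hj, ← map_pow, ← map_inv, ← map_mul, ← map_mul]
    congr 1
    calc j * g * j⁻¹ = cyc ^ a * ((cyc ^ a)⁻¹ * j * g) * j⁻¹ := by group
      _ = _ := by rw [hw.comm hu]; group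
  · obtain ⟨g, rfl⟩ := hs
    have h1 := hst (ψ d) (hm.2 ⟨d, v, hd, rfl⟩)
    rw [← map_mul, ← map_mul] at h1
    exact hy.comm (h.inj h1).symm
  · have h3 : ω ^ 3 = 1 := hω.pow_eq_one
    obtain ⟨b, hb⟩ := exists_dg ![1, ω, ω ^ 2] (by show 1 * ω * ω ^ 2 = 1; linear_combination h3)
    refine ⟨ψ b, hm.2 ⟨b, _, hb, rfl⟩, ?_, fun hz' => ?_⟩
    · rw [← map_pow, (hb.pow 3).eq (g' := 1), map_one]
      have e' : (fun i => ![1, ω, ω ^ 2] i ^ 3) = fun _ => (1 : k) := by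
        funext i
        fin_cases i
        · exact one_pow 3
        · exact h3
        · show (ω ^ 2) ^ 3 = 1
          rw [← pow_mul, mul_comm, pow_mul, h3, one_pow]
      rw [e']
      exact dg_one
    · obtain ⟨c', -, h4⟩ := scalar_of_mem_center (((JL.Inn.self b).cen_iff h.inj).1 (zpowers_le.2 h.cen hz'))
      rw [hb] at h4
      have h5 := congrFun (congrFun h4 0) 0
      have h6 := congrFun (congrFun h4 1) 1
      simp at h5 h6
      exact hω.ne_one (by norm_num) (h6.trans h5.symm)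

end Reg

end Cfsg.Agent.TO.T3.SL

private theorem dce_3387f90cfc7c : _root_.True := by
  try have : _root_.True := by simp only [_root_.Cfsg.Agent.TO.T3.SL.cyc.eq_1]
  exact _root_.True.intro
end

-- part: TO/T3/Qf
section
set_option linter.all false
open scoped Cfsg.Agent.FastGrp

/-!
# S4817, `p = 3`, `E₇` and `E₈`: the quadratic form modulo `3` (helper1)
-/

set_option autoImplicit false
set_option linter.unusedSectionVars false

namespace Cfsg.Agent.TO.T3

open CoxeterSystem Cfsg Cfsg.Lie Cfsg.Lie.ChevalleyDatum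
open Cfsg.Agent.ChevalleyStructure Cfsg.Agent.ChevalleyStructure.Elts Cfsg.Agent.ChevalleyStructure.CoxeterGeom
  Cfsg.Agent.ChevalleyStructure.CoxeterGeomTypes
open Cfsg.Agent.Tits.Roots Cfsg.Agent.Nodes Cfsg.Agent.Nodes.RGDChev
open Cfsg.Agent.KFacts.RgdField Cfsg.Agent.KFacts.RgdChevCoord
open Cfsg.Agent.H469.Exc Cfsg.Agent.H129.TorusChar Cfsg.Agent.DS.Ex Cfsg.Agent.DS.Nt Cfsg.Agent.H931.KC

/-- the tables: `B` is `d` times the inverse of the Cartan matrix, `j` is the simple root of the block -/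
structure Tb (D : ChevalleyDatum) (l : ℕ) (i j : Fin l) (ρ : Fin 3 → Fin 3 → ℕ) (B : Fin l → Fin l → ℤ) (d ε : ℤ) :
    Prop where
  h1 : ∀ a m, ∑ x, cartanOf D l a x * B m x = if m = a then d else 0
  sym : ∀ m x, B m x = B x m
  ii : 3 ∣ B i i
  ij : 3 ∣ B i j
  jj : ¬ 3 ∣ B j j
  eps : ¬ 3 ∣ ε
  dif : ∀ m, 3 ∣ B i m - ε * (vec D l (ρ 0 1) m - vec D l (ρ 1 2) m)
  sum : ∀ m, vec D l (ρ 0 2) m = vec D l (ρ 0 1) m + vec D l (ρ 1 2) m
  blk : ∀ a b, a ≠ b → vec D l (ρ a b) j ≠ 0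

namespace Qf

variable {l : ℕ}

/-- the form -/
def Bf (B : Fin l → Fin l → ℤ) (β γ : (Fin l → ℤ) →+ ZMod 3) : ZMod 3 := ∑ m, β (sr m) * γ (B m)

theorem app (β : (Fin l → ℤ) →+ ZMod 3) (x : Fin l → ℤ) : β x = ∑ m, (x m : ZMod 3) * β (sr m) := by
  conv_lhs => rw [IsMC.eq_sum_sr x, map_sum]
  exact Finset.sum_congr rfl fun m _ => by rw [map_zsmul, zsmul_eq_mul]

theorem app_congr (β : (Fin l → ℤ) →+ ZMod 3) {x y : Fin l → ℤ} (h : ∀ m, (3 : ℤ) ∣ x m - y m) : β x = β y := by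
  rw [app β x, app β y]
  refine Finset.sum_congr rfl fun m _ => ?_
  rw [(ZMod.intCast_eq_intCast_iff_dvd_sub (y m) (x m) 3).2 (h m)]

variable {B : Fin l → Fin l → ℤ}

theorem Bf_comm (h : ∀ m x, B m x = B x m) (β γ : (Fin l → ℤ) →+ ZMod 3) : Bf B β γ = Bf B γ β := by
  unfold Bf
  simp only [fun m => app γ (B m), fun m => app β (B m), Finset.mul_sum]
  rw [Finset.sum_comm]
  exact Finset.sum_congr rfl fun m _ => Finset.sum_congr rfl fun x _ => by rw [h x m]; ring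

theorem Bf_add (h : ∀ m x, B m x = B x m) (β γ : (Fin l → ℤ) →+ ZMod 3) :
    Bf B (β + γ) (β + γ) = Bf B β β + 2 * Bf B γ β + Bf B γ γ := by
  rw [two_mul]
  nth_rw 1 [Bf_comm h γ β]
  simp only [Bf, AddMonoidHom.add_apply, add_mul, mul_add, Finset.sum_add_distrib]
  ring

/-- reduction modulo `3` -/
def cst (b : (Fin l → ℤ) →+ ℤ) : (Fin l → ℤ) →+ ZMod 3 := (Int.castAddHom (ZMod 3)).comp b

theorem cst_apply (b : (Fin l → ℤ) →+ ℤ) (x : Fin l → ℤ) : cst b x = (b x : ZMod 3) := rfl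

/-- the coordinate `i` -/
def pr (i : Fin l) : (Fin l → ℤ) →+ ℤ := Pi.evalAddMonoidHom (fun _ => ℤ) i

theorem Bf_pr (i : Fin l) (γ : (Fin l → ℤ) →+ ZMod 3) : Bf B (cst (pr i)) γ = γ (B i) := by
  unfold Bf
  rw [Finset.sum_eq_single i (fun m _ hm => ?_) (fun h => (h (Finset.mem_univ _)).elim)]
  · rw [cst_apply, show pr i (sr i) = 1 from sr_self i, Int.cast_one, one_mul]
  · rw [cst_apply, show pr i (sr m) = 0 from sr_ne hm.symm, Int.cast_zero, zero_mul]

variable {D : ChevalleyDatum} {M : CoxeterMatrix (Fin l)} {hp : IsType D l M} {i j : Fin l} {ρ : Fin 3 → Fin 3 → ℕ}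
  {d ε : ℤ}

theorem Bf_rep (T : Tb D l i j ρ B d ε) (w : M.Group) : ∀ β γ : (Fin l → ℤ) →+ ZMod 3,
    (∀ x, γ x = β (rep M.toCoxeterSystem hp.isCartan w x)) → Bf B γ γ = Bf B β β := by
  refine M.toCoxeterSystem.simple_induction_left (p := fun w => ∀ β γ : (Fin l → ℤ) →+ ZMod 3,
    (∀ x, γ x = β (rep M.toCoxeterSystem hp.isCartan w x)) → Bf B γ γ = Bf B β β) w (fun β γ h => ?_)
    fun w a ih β γ h => ?_
  · rw [show γ = β from AddMonoidHom.ext fun x => by rw [h, map_one, Module.End.one_apply]]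
  · rw [ih (β.comp (rep M.toCoxeterSystem hp.isCartan (M.toCoxeterSystem.simple a)).toAddMonoidHom) γ
      fun x => by rw [h, rep_mul_apply]; rfl]
    have h1 : ∀ x, (β.comp (rep M.toCoxeterSystem hp.isCartan (M.toCoxeterSystem.simple a)).toAddMonoidHom) x =
        β x - (pairing (cartanOf D l) a x : ZMod 3) * β (sr a) := fun x => by
      show β (rep M.toCoxeterSystem hp.isCartan (M.toCoxeterSystem.simple a) x) = _
      rw [rep_simple_eq, map_sub, map_zsmul, zsmul_eq_mul]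
    have h2 : ∀ m, (pairing (cartanOf D l) a (B m) : ZMod 3) = if m = a then (d : ZMod 3) else 0 := fun m => by
      rw [pairing, T.h1]
      split_ifs <;> simp
    have h3 : ∑ m, (cartanOf D l a m : ZMod 3) * β (B m) = d * β (sr a) := by
      simp only [fun m => app β (B m), Finset.mul_sum]
      rw [Finset.sum_comm]
      have h4 : ∀ x, ∑ m, (cartanOf D l a m : ZMod 3) * ((B m x : ZMod 3) * β (sr x)) =
          (if x = a then (d : ZMod 3) else 0) * β (sr x) := fun x => by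
        rw [← h2 x, pairing, Int.cast_sum, Finset.sum_mul]
        exact Finset.sum_congr rfl fun m _ => by rw [T.sym m x, Int.cast_mul, mul_assoc]
      simp [h4]
    have h5 : (cartanOf D l a a : ZMod 3) = 2 := by rw [hp.isCartan.diag]; rfl
    unfold Bf
    simp only [h1, h2, ZFam.pairing_sr', sub_mul, mul_sub, Finset.sum_sub_distrib, mul_ite, ite_mul, mul_zero, zero_mul,
      Finset.sum_ite_eq', Finset.mem_univ, if_true]
    have h6 : ∑ m, (cartanOf D l a m : ZMod 3) * β (sr a) * β (B m) = β (sr a) * (d * β (sr a)) := by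
      rw [← h3, Finset.mul_sum]
      exact Finset.sum_congr rfl fun m _ => by ring
    rw [h6, h5]
    ring

variable {r : ℕ} [Fact r.Prime]

/-- an element of the class which lies in the torus is conjugate to the standard element under the Weyl group -/
theorem exists_std {n : ℕ} {t : YY D r} (ht : t ∈ TT D (KK r)) (h : t ∈ Om hp r n i) :
    ∃ w k ζ, RP hp r w k ∧ IsPrimitiveRoot ζ n ∧ Std hp r ζ i (k * t * k⁻¹) := by
  obtain ⟨g, ζ, hζ, hs⟩ := h
  obtain ⟨-, -, w, k, hk, h1, -⟩ := form₂ hp (ι := Unit) (s := fun _ => t) (t := fun _ => g * t * g⁻¹) (fun _ => ht)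
    (fun _ => hs.1) (c := g) fun _ => by group
  exact ⟨w, k, ζ, hk, hζ, by rw [h1 (), mul_inv_cancel_right]; exact hs⟩

/-- **the elements of the class are singular** -/
theorem sing (T : Tb D l i j ρ B d ε) {t : YY D r} (ht : t ∈ TT D (KK r)) (h : t ∈ Om hp r 3 i) {ζ : KK r}
    (hζ : IsPrimitiveRoot ζ 3) {b : (Fin l → ℤ) →+ ℤ} (hb : ∀ x, cX hp t x = ζ ^ b x) : Bf B (cst b) (cst b) = 0 := by
  obtain ⟨w, k, ζ', hk, hζ', hs⟩ := exists_std ht h
  obtain ⟨n, -, rfl⟩ := hζ.eq_pow_of_pow_eq_one hζ'.pow_eq_one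
  have h0 := hζ.ne_zero (by norm_num)
  rw [Bf_rep (hp := hp) T w (n • cst (pr i)) (cst b) fun x => ?_]
  · have h1 : Bf B (n • cst (pr i)) (n • cst (pr i)) = n * n * Bf B (cst (pr i)) (cst (pr i)) := by
      simp only [Bf, AddMonoidHom.nsmul_apply, nsmul_eq_mul, Finset.mul_sum]
      exact Finset.sum_congr rfl fun m _ => by ring
    rw [h1, Bf_pr, cst_apply, show pr i (B i) = B i i from rfl, (ZMod.intCast_zmod_eq_zero_iff_dvd _ 3).2 T.ii, mul_zero]
  · have h1 := hk.cX ht x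
    rw [hs.2, hb, ← zpow_natCast, ← zpow_mul, ← div_eq_one_iff_eq (zpow_ne_zero _ h0), ← zpow_sub₀ h0,
      hζ.zpow_eq_one_iff_dvd] at h1
    rw [cst_apply, (ZMod.intCast_eq_intCast_iff_dvd_sub _ _ 3).2 h1, AddMonoidHom.nsmul_apply, nsmul_eq_mul, Int.cast_mul,
      Int.cast_natCast]
    rfl

theorem pow_of_Om {n : ℕ} {t : YY D r} (h : t ∈ Om hp r n i) : t ^ n = 1 := by
  obtain ⟨g, ζ, hζ, hs⟩ := h
  have h1 := hs.pow_eq hζ
  rwa [conj_pow, mul_inv_eq_iff_eq_mul, one_mul, mul_eq_left] at h1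

/-- **the dichotomy** -/
theorem dich (T : Tb D l i j ρ B d ε) {ζ : KK r} (hζ : IsPrimitiveRoot ζ 3) {z y : YY D r} (hz : Std hp r ζ i z)
    (hy : y ∈ TT D (KK r)) (h1 : y ∈ Om hp r 3 i) (h2 : y * z ∈ Om hp r 3 i) :
    cX hp y (vec D l (ρ 0 1)) = cX hp y (vec D l (ρ 1 2)) := by
  obtain ⟨b, hb⟩ := exists_exp hp (by norm_num) hζ hy (pow_of_Om h1)
  have h3 := sing T hy h1 hζ hb
  have h4 := sing T (mul_mem hy hz.1) h2 hζ (b := b + pr i) fun x => by
    rw [cX_mul hp hy hz.1, hb, hz.2, AddMonoidHom.add_apply, zpow_add₀ (hζ.ne_zero (by norm_num))]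
    rfl
  have e : cst (b + pr i) = cst b + cst (pr i) := AddMonoidHom.ext fun x => Int.cast_add _ _
  rw [e, Bf_add T.sym, h3, Bf_pr, Bf_pr, cst_apply (pr i), show pr i (B i) = B i i from rfl,
    (ZMod.intCast_zmod_eq_zero_iff_dvd _ 3).2 T.ii, zero_add, add_zero,
    app_congr (cst b) (y := ε • (vec D l (ρ 0 1) - vec D l (ρ 1 2))) T.dif, map_zsmul, zsmul_eq_mul] at h4
  have h5 : (ε : ZMod 3) ≠ 0 := fun h => T.eps ((ZMod.intCast_zmod_eq_zero_iff_dvd _ 3).1 h)
  have h6 := (mul_eq_zero.1 ((mul_eq_zero.1 h4).resolve_left (by decide))).resolve_left h5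
  rw [cst_apply, ZMod.intCast_zmod_eq_zero_iff_dvd, map_sub] at h6
  rw [hb, hb]
  exact zpow_congr hζ (by norm_num) h6

/-- the elements of the class on which all simple roots other than `i`, `j` are trivial -/
theorem mem_zpowers (T : Tb D l i j ρ B d ε) {ζ : KK r} (hζ : IsPrimitiveRoot ζ 3) {z y : YY D r} (hz : Std hp r ζ i z)
    (hy : y ∈ TT D (KK r)) (h1 : y ∈ Om hp r 3 i) (h2 : ∀ m, m ≠ i → m ≠ j → cX hp y (sr m) = 1) :
    y ∈ Subgroup.zpowers z := by
  obtain ⟨b, hb⟩ := exists_exp hp (by norm_num) hζ hy (pow_of_Om h1)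
  have h3 := sing T hy h1 hζ hb
  have hij : i ≠ j := fun h => T.jj (h ▸ T.ii)
  have h4 : ∀ m, m ≠ i → m ≠ j → cst b (sr m) = 0 := fun m a c => by
    rw [cst_apply, ZMod.intCast_zmod_eq_zero_iff_dvd, ← hζ.zpow_eq_one_iff_dvd, ← hb, h2 m a c]
  have h5 : ∀ f : Fin l → ZMod 3, ∑ m, f m * cst b (sr m) = f i * cst b (sr i) + f j * cst b (sr j) := fun f =>
    Finset.sum_eq_add_of_mem i j (Finset.mem_univ _) (Finset.mem_univ _) hij fun m _ h => by
      rw [h4 m h.1 h.2, mul_zero]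
  have a1 := (ZMod.intCast_zmod_eq_zero_iff_dvd _ 3).2 T.ii
  have a2 := (ZMod.intCast_zmod_eq_zero_iff_dvd _ 3).2 T.ij
  have a3 : (B j j : ZMod 3) ≠ 0 := fun h => T.jj ((ZMod.intCast_zmod_eq_zero_iff_dvd _ 3).1 h)
  rw [Bf, Finset.sum_congr rfl fun m _ => mul_comm _ _, h5, app _ (B i), app _ (B j), h5, h5, T.sym j i, a1, a2] at h3
  simp only [zero_mul, zero_add, add_zero, mul_eq_zero, a3, false_or, or_self] at h3
  obtain ⟨n, -, hn⟩ := hζ.eq_pow_of_pow_eq_one (ξ := cX hp y (sr i)) (by rw [← cX_pow hp hy, pow_of_Om h1, cX_one])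
  refine ⟨n, ?_⟩
  show z ^ (n : ℤ) = y
  rw [zpow_natCast]
  refine cX_inj hp (pow_mem hz.1 n) hy fun m => ?_
  rw [cX_pow hp hz.1, hz.2]
  by_cases a : m = i
  · rw [a, sr_self, zpow_one, hn]
  · rw [sr_ne (Ne.symm a), zpow_zero, one_pow]
    by_cases c : m = j
    · rw [c, hb, eq_comm, hζ.zpow_eq_one_iff_dvd]
      exact (ZMod.intCast_zmod_eq_zero_iff_dvd _ 3).1 h3
    · exact (h2 m a c).symm

end Qf

theorem tb_E7 : Tb chevE7 7 2 0 (rho3 chevE7 93 124) ![![4, 4, 6, 8, 6, 4, 2], ![4, 7, 8, 12, 9, 6, 3],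
    ![6, 8, 12, 16, 12, 8, 4], ![8, 12, 16, 24, 18, 12, 6], ![6, 9, 12, 18, 15, 10, 5], ![4, 6, 8, 12, 10, 8, 4],
    ![2, 3, 4, 6, 5, 4, 3]] 2 2 :=
  ⟨by decide +kernel, by decide +kernel, by decide +kernel, by decide +kernel, by decide +kernel, by decide +kernel,
    by decide +kernel, by decide +kernel, by decide +kernel⟩

theorem tb_E8 : Tb chevE8 8 6 7 (rho3 chevE8 120 238) ![![4, 5, 7, 10, 8, 6, 4, 2], ![5, 8, 10, 15, 12, 9, 6, 3],
    ![7, 10, 14, 20, 16, 12, 8, 4], ![10, 15, 20, 30, 24, 18, 12, 6], ![8, 12, 16, 24, 20, 15, 10, 5],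
    ![6, 9, 12, 18, 15, 12, 8, 4], ![4, 6, 8, 12, 10, 8, 6, 3], ![2, 3, 4, 6, 5, 4, 3, 2]] 1 1 :=
  ⟨by decide +kernel, by decide +kernel, by decide +kernel, by decide +kernel, by decide +kernel, by decide +kernel,
    by decide +kernel, by decide +kernel, by decide +kernel⟩

end Cfsg.Agent.TO.T3

private theorem dce_5a14818e79f9 : _root_.True := by
  try have : _root_.True := by simp only [_root_.Cfsg.Agent.TO.T3.Qf.Bf.eq_1]
  exact _root_.True.intro
end
end
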